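import Mathlib

/-!
# Sylow subgroups of prime order: conjugacy and the order of the normalizer (helper836)

`G` finite, `p ^ 2 ∤ |G|`, `X` a subgroup of order `p`.
* `conj_of_card` : two subgroups of order `p` are conjugate;
* `card_normalizer` : `|G| = |N(X)| n` with `n ≡ 1 mod p` and `|N(X)| = |C(X)| k` with `k ∣ p - 1`.
-/

set_option autoImplicit false

namespace Cfsg.Agent.H836.Sylow

open Subgroup

variable {G : Type*} [Group G] [Finite G]

theorem card_pow_fact {p : ℕ} (hp : p.Prime) (h : ¬ p ^ 2 ∣ Nat.card G) {X : Subgroup G} (hX : Nat.card X = p) :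
    Nat.card X = p ^ (Nat.card G).factorization p := by
  have h1 : p ∣ Nat.card G := by rw [← hX]; exact card_subgroup_dvd_card X
  have h0 : Nat.card G ≠ 0 := Nat.card_pos.ne'
  have h2 : 1 ≤ (Nat.card G).factorization p := (hp.dvd_iff_one_le_factorization h0).1 h1
  have h3 : (Nat.card G).factorization p < 2 := by
    by_contra h4
    exact h ((hp.pow_dvd_iff_le_factorization h0).2 (not_lt.1 h4))
  have h5 : (Nat.card G).factorization p = 1 := by omega
  rw [hX, h5, pow_one]

/-- two subgroups of prime order `p` are conjugate when `p ^ 2` does not divide the order -/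
theorem conj_of_card {p : ℕ} (hp : p.Prime) (h : ¬ p ^ 2 ∣ Nat.card G) {X Y : Subgroup G} (hX : Nat.card X = p)
    (hY : Nat.card Y = p) : ∃ g : G, X.map (MulAut.conj g).toMonoidHom = Y := by
  have := Fact.mk hp
  let P : Sylow p G := Sylow.ofCard X (card_pow_fact hp h hX)
  let Q : Sylow p G := Sylow.ofCard Y (card_pow_fact hp h hY)
  obtain ⟨g, hg⟩ := MulAction.exists_smul_eq G P Q
  refine ⟨g, ?_⟩
  have h1 : ((g • P : Sylow p G) : Subgroup G) = (Q : Subgroup G) := by rw [hg]
  rw [Sylow.coe_subgroup_smul] at h1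
  exact h1

/-- the index of the centralizer in the normalizer of a subgroup of order `p` divides `p - 1` -/
theorem normalizer_centralizer {p : ℕ} (hp : p.Prime) {X : Subgroup G} (hX : Nat.card X = p) :
    ∃ k, k ∣ p - 1 ∧ Nat.card ↥(normalizer (X : Set G)) = Nat.card ↥(centralizer (X : Set G)) * k := by
  have := Fact.mk hp
  have hcyc : IsCyclic ↥X := isCyclic_of_prime_card hX
  have h1 : Nat.card (MulAut ↥X) = p - 1 := by
    rw [IsCyclic.card_mulAut, hX, Nat.totient_prime hp]
  have h2 : Nat.card ↥(X.normalizerMonoidHom).range ∣ p - 1 := by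
    rw [← h1]; exact card_subgroup_dvd_card _
  refine ⟨Nat.card ↥(X.normalizerMonoidHom).range, h2, ?_⟩
  have h3 := card_eq_card_quotient_mul_card_subgroup (X.normalizerMonoidHom).ker
  rw [h3, mul_comm, normalizerMonoidHom_ker]
  congr 1
  · exact Nat.card_congr (subgroupOfEquivOfLe (centralizer_le_normalizer _)).toEquiv
  · rw [← normalizerMonoidHom_ker]
    exact Nat.card_congr (QuotientGroup.quotientKerEquivRange _).toEquiv

/-- the Sylow congruence -/
theorem card_normalizer {p : ℕ} (hp : p.Prime) (h : ¬ p ^ 2 ∣ Nat.card G) {X : Subgroup G} (hX : Nat.card X = p) :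
    ∃ n k, n % p = 1 ∧ k ∣ p - 1 ∧ Nat.card G = Nat.card ↥(centralizer (X : Set G)) * k * n ∧
      Nat.card ↥(normalizer (X : Set G)) = Nat.card ↥(centralizer (X : Set G)) * k := by
  have := Fact.mk hp
  obtain ⟨k, hk, hN⟩ := normalizer_centralizer hp hX
  let P : Sylow p G := Sylow.ofCard X (card_pow_fact hp h hX)
  refine ⟨Nat.card (Sylow p G), k, ?_, hk, ?_, hN⟩
  · have h1 := card_sylow_modEq_one p G
    rw [Nat.ModEq, Nat.mod_eq_of_lt hp.one_lt] at h1
    exact h1
  · rw [← hN, P.card_eq_index_normalizer]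
    exact (card_mul_index _).symm

end Cfsg.Agent.H836.Sylow
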