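import Cfsg.Agent.LThreeFi22.Inst

/-!
# Two noncommuting transpositions and the symmetric group of degree three (helper836)

`a`, `b` involutions with `a b a = b a b`, `a ≠ b`; `S = {a, b, a b a}`. A subgroup `P` containing `a`, `b` which normalises `S`
is the product of `⟨S⟩` and `P ∩ C(S)`, `⟨S⟩` is the symmetric group of degree three and `⟨S⟩ ∩ C(S) = 1`.
-/

set_option autoImplicit false

namespace Cfsg.Agent.H836.SymThree

open Subgroup Cfsg.Agent.LThreeFi22

variable {K : Type*} [Group K] [Finite K]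

/-- `{a, b, a b a}` -/
def Tr (a b : K) : Set K := {a, b, a * b * a}

section

variable {a b : K} (ha : a * a = 1) (hb : b * b = 1) (hab : a * b * a = b * a * b) (hne : a ≠ b)
include ha hb hab hne

omit [Finite K] in
theorem a_ne : a ≠ 1 := by
  intro h
  apply hne
  rw [h, one_mul, mul_one, hb] at hab
  rw [h]
  exact hab.symm

omit [Finite K] in
theorem ncomm : a * b ≠ b * a := by
  intro h
  apply hne
  rw [h] at hab
  have h1 : a = b := by
    calc a = b * (b * a * b) * b := by
          rw [show b * (b * a * b) * b = (b * b) * a * (b * b) by group, hb, one_mul, mul_one]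
      _ = b * (b * a * a) * b := by rw [← hab]
      _ = (b * b) * (a * a) * b := by group
      _ = b := by rw [ha, hb, one_mul, one_mul]
  exact h1

omit [Finite K] in
theorem ne_aba : a ≠ a * b * a ∧ b ≠ a * b * a := by
  constructor
  · intro h
    apply hne
    have h1 : 1 = b * a := by
      apply mul_left_cancel (a := a)
      rw [mul_one, ← mul_assoc]
      exact h
    calc a = b * b * a := by rw [hb, one_mul]
      _ = b * (b * a) := by group
      _ = b := by rw [← h1, mul_one]
  · intro h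
    apply ncomm ha hb hab hne
    calc a * b = a * (a * b * a) := by rw [← h]
      _ = (a * a) * b * a := by group
      _ = b * a := by rw [ha, one_mul]

omit [Finite K] in
theorem ncard_Tr : (Tr a b).ncard = 3 := by
  obtain ⟨h1, h2⟩ := ne_aba ha hb hab hne
  exact Set.ncard_eq_three.2 ⟨a, b, a * b * a, hne, h1, h2, rfl⟩

/-- the six elements -/
theorem card_closure_le : Nat.card ↥(closure (Tr a b)) ≤ 6 := by
  classical
  let F : Finset K := {1, a, b, a * b, b * a, a * b * a}
  have hF : ∀ x, x ∈ F ↔ x = 1 ∨ x = a ∨ x = b ∨ x = a * b ∨ x = b * a ∨ x = a * b * a := by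
    intro x; simp [F]
  have la : ∀ x ∈ F, a * x ∈ F := by
    intro x hx
    rw [hF] at hx ⊢
    rcases hx with rfl | rfl | rfl | rfl | rfl | rfl
    · rw [mul_one]; tauto
    · rw [ha]; tauto
    · tauto
    · rw [← mul_assoc, ha, one_mul]; tauto
    · rw [← mul_assoc]; tauto
    · rw [← mul_assoc, ← mul_assoc, ha, one_mul]; tauto
  have lb : ∀ x ∈ F, b * x ∈ F := by
    intro x hx
    rw [hF] at hx ⊢
    rcases hx with rfl | rfl | rfl | rfl | rfl | rfl
    · rw [mul_one]; tauto
    · tauto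
    · rw [hb]; tauto
    · rw [← mul_assoc, ← hab]; tauto
    · rw [← mul_assoc, hb, one_mul]; tauto
    · rw [hab, ← mul_assoc, ← mul_assoc, hb, one_mul]; tauto
  have hsub : (closure (Tr a b) : Set K) ⊆ (F : Set K) := by
    intro x hx
    have key : ∀ x ∈ closure (Tr a b), ∀ f ∈ F, x * f ∈ F := by
      intro x hx
      induction hx using closure_induction with
      | mem x hx =>
        rcases hx with rfl | rfl | rfl
        · exact la
        · exact lb
        · intro f hf
          have : a * b * a * f = a * (b * (a * f)) := by group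
          rw [this]
          exact la _ (lb _ (la _ hf))
      | one => intro f hf; rwa [one_mul]
      | mul x y _ _ hx hy => intro f hf; rw [mul_assoc]; exact hx _ (hy _ hf)
      | inv x _ hx =>
        intro f hf
        -- left multiplication by `x` permutes `F`
        have h1 : Function.Surjective (fun g : F => (⟨x * g, hx g g.2⟩ : F)) := by
          apply Finite.injective_iff_surjective.1
          intro g g' h
          exact Subtype.ext (mul_left_cancel (congrArg Subtype.val h))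
        obtain ⟨g, hg⟩ := h1 ⟨f, hf⟩
        have h2 : x * (g : K) = f := congrArg Subtype.val hg
        rw [← h2, inv_mul_cancel_left]
        exact g.2
    have h1 : (1 : K) ∈ F := by rw [hF]; tauto
    have := key x hx 1 h1
    rw [mul_one] at this
    exact this
  calc Nat.card ↥(closure (Tr a b)) = (closure (Tr a b) : Set K).ncard := rfl
    _ ≤ (F : Set K).ncard := Set.ncard_le_ncard hsub
    _ = F.card := Set.ncard_coe_finset F
    _ ≤ 6 := Finset.card_le_six

/-- a subgroup `P` containing `a`, `b` and normalising `{a, b, a b a}` induces all its permutations -/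
theorem surj {P : Subgroup K} (haP : a ∈ P) (hbP : b ∈ P) (h : ∀ g ∈ P, ∀ s ∈ Tr a b, g * s * g⁻¹ ∈ Tr a b) :
    Function.Surjective (actHom P (Tr a b) h) := by
  classical
  obtain ⟨n1, n2⟩ := ne_aba ha hb hab hne
  have hcard : Nat.card (Equiv.Perm ↥(Tr a b)) = 6 := by
    rw [Nat.card_perm]
    have : Nat.card ↥(Tr a b) = 3 := ncard_Tr ha hb hab hne
    rw [this]
    rfl
  set φ := actHom P (Tr a b) h with hφ
  have ma : a ∈ Tr a b := Or.inl rfl
  have mb : b ∈ Tr a b := Or.inr (Or.inl rfl)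
  have mc : a * b * a ∈ Tr a b := Or.inr (Or.inr rfl)
  have ai : a⁻¹ = a := inv_eq_of_mul_eq_one_left ha
  have bi : b⁻¹ = b := inv_eq_of_mul_eq_one_left hb
  have act : ∀ (g : ↥P) (s : K) (hs : s ∈ Tr a b), ((φ g ⟨s, hs⟩ : ↥(Tr a b)) : K) = g * s * (g : K)⁻¹ :=
    fun g s hs => actHom_apply P (Tr a b) h g ⟨s, hs⟩
  have o2 : orderOf (φ ⟨a, haP⟩) = 2 := by
    rw [orderOf_eq_prime_iff]
    constructor
    · rw [← map_pow]
      have : (⟨a, haP⟩ : ↥P) ^ 2 = 1 := Subtype.ext (by show a ^ 2 = 1; rw [pow_two, ha])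
      rw [this, map_one]
    · intro h1
      have h2 := act ⟨a, haP⟩ b mb
      rw [h1] at h2
      have h3 : b = a * b * a⁻¹ := h2
      rw [ai] at h3
      exact n2 h3
  have o3 : orderOf (φ (⟨a, haP⟩ * ⟨b, hbP⟩)) = 3 := by
    rw [orderOf_eq_prime_iff]
    constructor
    · rw [← map_pow]
      have : (⟨a, haP⟩ * ⟨b, hbP⟩ : ↥P) ^ 3 = 1 := Subtype.ext (by
        show (a * b) ^ 3 = 1
        exact Cfsg.Agent.LThreeFi22.cube_of_braid ha hb hab)
      rw [this, map_one]
    · intro h1
      have h2 := act (⟨a, haP⟩ * ⟨b, hbP⟩) a ma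
      rw [h1] at h2
      have h3 : a = a * b * a * (a * b)⁻¹ := h2
      rw [mul_inv_rev, ai, bi] at h3
      have h4 : a * b * a * (b * a) = b := by
        rw [hab]
        calc b * a * b * (b * a) = b * a * (b * b) * a := by group
          _ = b * (a * a) := by rw [hb, mul_one, mul_assoc]
          _ = b := by rw [ha, mul_one]
      rw [h4] at h3
      exact hne h3
  have hdv : ∀ g : ↥P, orderOf (φ g) ∣ Nat.card ↥φ.range := by
    intro g
    have : orderOf (φ.rangeRestrict g) = orderOf (φ g) := (Subgroup.orderOf_coe (φ.rangeRestrict g)).symm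
    rw [← this]
    exact orderOf_dvd_natCard _
  have hr : Nat.card ↥φ.range = 6 := by
    have d2 := hdv ⟨a, haP⟩
    have d3 := hdv (⟨a, haP⟩ * ⟨b, hbP⟩)
    rw [o2] at d2
    rw [o3] at d3
    have d6 : Nat.card ↥φ.range ∣ 6 := by rw [← hcard]; exact card_subgroup_dvd_card _
    have : 2 * 3 ∣ Nat.card ↥φ.range := Nat.Coprime.mul_dvd_of_dvd_of_dvd (by norm_num) d2 d3
    exact Nat.dvd_antisymm d6 this
  rw [← MonoidHom.range_eq_top]
  exact eq_top_of_card_eq _ (by rw [hr, hcard])

omit [Finite K] ha hb hab hne in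
/-- the kernel of the action -/
theorem ker_map {P : Subgroup K} (h : ∀ g ∈ P, ∀ s ∈ Tr a b, g * s * g⁻¹ ∈ Tr a b) :
    (actHom P (Tr a b) h).ker.map P.subtype = P ⊓ centralizer (Tr a b : Set K) := by
  ext x
  constructor
  · rintro ⟨g, hg, rfl⟩
    refine ⟨g.2, mem_centralizer_iff.2 fun s hs => ?_⟩
    have h1 := actHom_apply P (Tr a b) h g ⟨s, hs⟩
    rw [MonoidHom.mem_ker.1 hg] at h1
    have h2 : s = (g : K) * s * (g : K)⁻¹ := h1
    show s * (g : K) = g * s
    calc s * (g : K) = (g : K) * s * (g : K)⁻¹ * g := by rw [← h2]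
      _ = g * s := by group
  · rintro ⟨hx, hc⟩
    refine ⟨⟨x, hx⟩, MonoidHom.mem_ker.2 ?_, rfl⟩
    ext s
    rw [actHom_apply]
    have h1 := mem_centralizer_iff.1 hc s s.2
    show x * (s : K) * x⁻¹ = s
    rw [← h1, mul_inv_cancel_right]

/-- **`|P| = 6 |P ∩ C(S)|`** -/
theorem card_mul {P : Subgroup K} (haP : a ∈ P) (hbP : b ∈ P) (h : ∀ g ∈ P, ∀ s ∈ Tr a b, g * s * g⁻¹ ∈ Tr a b) :
    Nat.card ↥(P ⊓ centralizer (Tr a b : Set K)) * 6 = Nat.card ↥P := by
  have h1 := card_eq_card_quotient_mul_card_subgroup (actHom P (Tr a b) h).ker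
  have hs := surj ha hb hab hne haP hbP h
  have h2 : Nat.card (↥P ⧸ (actHom P (Tr a b) h).ker) = 6 := by
    rw [Nat.card_congr (QuotientGroup.quotientKerEquivOfSurjective _ hs).toEquiv, Nat.card_perm]
    have : Nat.card ↥(Tr a b) = 3 := ncard_Tr ha hb hab hne
    rw [this]
    rfl
  have h3 : Nat.card ↥(actHom P (Tr a b) h).ker = Nat.card ↥(P ⊓ centralizer (Tr a b : Set K)) := by
    rw [← ker_map h]
    exact (Nat.card_congr ((actHom P (Tr a b) h).ker.equivMapOfInjective P.subtype P.subtype_injective).toEquiv)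
  rw [h2, h3] at h1
  rw [h1, mul_comm]

omit [Finite K] ha hb hab hne in
theorem closure_le {P : Subgroup K} (haP : a ∈ P) (hbP : b ∈ P) : closure (Tr a b) ≤ P := by
  rw [Subgroup.closure_le]
  rintro x (rfl | rfl | rfl)
  · exact haP
  · exact hbP
  · exact mul_mem (mul_mem haP hbP) haP

omit [Finite K] in
theorem conj_mem : ∀ g ∈ closure (Tr a b), ∀ s ∈ Tr a b, g * s * g⁻¹ ∈ Tr a b := by
  have ai : a⁻¹ = a := inv_eq_of_mul_eq_one_left ha
  have bi : b⁻¹ = b := inv_eq_of_mul_eq_one_left hb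
  have ca : ∀ s ∈ Tr a b, a * s * a⁻¹ ∈ Tr a b := by
    rintro s (rfl | rfl | rfl)
    · left; group
    · right; right
      show a * s * a⁻¹ = a * s * a
      rw [ai]
    · right; left
      show a * (a * b * a) * a⁻¹ = b
      rw [ai]
      calc a * (a * b * a) * a = (a * a) * b * (a * a) := by group
        _ = b := by rw [ha, one_mul, mul_one]
  have cb : ∀ s ∈ Tr a b, b * s * b⁻¹ ∈ Tr a b := by
    rintro s (rfl | rfl | rfl)
    · right; right
      show b * s * b⁻¹ = s * b * s
      rw [bi, hab]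
    · right; left
      show s * s * s⁻¹ = s
      group
    · left
      show b * (a * b * a) * b⁻¹ = a
      rw [bi, hab]
      calc b * (b * a * b) * b = (b * b) * a * (b * b) := by group
        _ = a := by rw [hb, one_mul, mul_one]
  intro g hg
  have step : ∀ x : K, (∀ s ∈ Tr a b, x * s * x⁻¹ ∈ Tr a b) → ∀ y : K, (∀ s ∈ Tr a b, y * s * y⁻¹ ∈ Tr a b) →
      ∀ s ∈ Tr a b, x * y * s * (x * y)⁻¹ ∈ Tr a b := by
    intro x hx y hy s hs
    have : x * y * s * (x * y)⁻¹ = x * (y * s * y⁻¹) * x⁻¹ := by group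
    rw [this]
    exact hx _ (hy s hs)
  have gens : ∀ x ∈ Tr a b, ∀ s ∈ Tr a b, x * s * x⁻¹ ∈ Tr a b := by
    rintro x (rfl | rfl | rfl)
    · exact ca
    · exact cb
    · exact step _ (step _ ca _ cb) _ ca
  have invs : ∀ x ∈ Tr a b, x⁻¹ = x := by
    rintro x (rfl | rfl | rfl)
    · exact ai
    · exact bi
    · rw [mul_inv_rev, mul_inv_rev, ai, bi, mul_assoc]
  induction hg using closure_induction'' with
  | mem x hx => exact gens x hx
  | inv_mem x hx => rw [invs x hx]; exact gens x hx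
  | one => intro s hs; rwa [one_mul, inv_one, mul_one]
  | mul x y _ _ hx hy => exact step x hx y hy

/-- **`⟨S⟩` is the symmetric group of degree 3** -/
theorem equiv : Nonempty (↥(closure (Tr a b)) ≃* Equiv.Perm (Fin 3)) := by
  have haP : a ∈ closure (Tr a b) := subset_closure (Or.inl rfl)
  have hbP : b ∈ closure (Tr a b) := subset_closure (Or.inr (Or.inl rfl))
  have hs := surj ha hb hab hne haP hbP (conj_mem ha hb hab hne)
  have h3 : Nat.card ↥(Tr a b) = 3 := ncard_Tr ha hb hab hne
  have hcard : Nat.card (Equiv.Perm ↥(Tr a b)) = 6 := by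
    rw [Nat.card_perm, h3]
    rfl
  have hbij : Function.Bijective (actHom (closure (Tr a b)) (Tr a b) (conj_mem ha hb hab hne)) :=
    hs.bijective_of_nat_card_le (by rw [hcard]; exact card_closure_le ha hb hab hne)
  have e1 : ↥(Tr a b) ≃ Fin 3 := by
    have : Finite ↥(Tr a b) := inferInstance
    exact (Finite.equivFinOfCardEq h3)
  exact ⟨(MulEquiv.ofBijective _ hbij).trans (Equiv.permCongrHom e1)⟩

/-- **`⟨S⟩ ∩ C(S) = 1`** -/
theorem inf_bot : centralizer (Tr a b : Set K) ⊓ closure (Tr a b) = ⊥ := by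
  have haP : a ∈ closure (Tr a b) := subset_closure (Or.inl rfl)
  have hbP : b ∈ closure (Tr a b) := subset_closure (Or.inr (Or.inl rfl))
  have h1 := card_mul ha hb hab hne haP hbP (conj_mem ha hb hab hne)
  have h2 := card_closure_le ha hb hab hne
  rw [inf_comm]
  apply eq_bot_of_card_eq
  have h3 : 0 < Nat.card ↥(closure (Tr a b) ⊓ centralizer (Tr a b : Set K)) := Nat.card_pos
  omega

/-- **`P = (P ∩ C(S)) ⟨S⟩`** -/
theorem sup_eq {P : Subgroup K} (haP : a ∈ P) (hbP : b ∈ P) (h : ∀ g ∈ P, ∀ s ∈ Tr a b, g * s * g⁻¹ ∈ Tr a b) :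
    (P ⊓ centralizer (Tr a b : Set K)) ⊔ closure (Tr a b) = P := by
  have hle : closure (Tr a b) ≤ P := closure_le haP hbP
  apply le_antisymm (sup_le inf_le_left hle)
  intro n hn
  have haP' : a ∈ closure (Tr a b) := subset_closure (Or.inl rfl)
  have hbP' : b ∈ closure (Tr a b) := subset_closure (Or.inr (Or.inl rfl))
  obtain ⟨s, hs⟩ := surj ha hb hab hne haP' hbP' (conj_mem ha hb hab hne) (actHom P (Tr a b) h ⟨n, hn⟩)
  have h1 : n * (s : K)⁻¹ ∈ P ⊓ centralizer (Tr a b : Set K) := by
    refine ⟨P.mul_mem hn (P.inv_mem (hle s.2)), mem_centralizer_iff.2 fun t ht => ?_⟩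
    -- `t' = s⁻¹ t s`
    have e1 : ∀ u : ↥(Tr a b), (s : K) * u * (s : K)⁻¹ = n * u * n⁻¹ := by
      intro u
      have := DFunLike.congr_fun hs u
      have := congrArg Subtype.val this
      rwa [actHom_apply, actHom_apply] at this
    have h2 := conj_mem ha hb hab hne (s : K)⁻¹ (inv_mem s.2) t ht
    have h3 := e1 ⟨_, h2⟩
    have h4 : (s : K) * ((s : K)⁻¹ * t * (s : K)⁻¹⁻¹) * (s : K)⁻¹ = t := by group
    rw [h4] at h3
    have h5 : t = n * (s : K)⁻¹ * t * (n * (s : K)⁻¹)⁻¹ := by
      calc t = n * ((s : K)⁻¹ * t * (s : K)⁻¹⁻¹) * n⁻¹ := h3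
        _ = _ := by group
    calc t * (n * (s : K)⁻¹) = n * (s : K)⁻¹ * t * (n * (s : K)⁻¹)⁻¹ * (n * (s : K)⁻¹) := by rw [← h5]
      _ = n * (s : K)⁻¹ * t := by group
  have h2 : n = n * (s : K)⁻¹ * s := by group
  rw [h2]
  exact mul_mem (le_sup_left (a := P ⊓ centralizer (Tr a b : Set K)) h1) (le_sup_right (a := P ⊓ centralizer (Tr a b : Set K)) s.2)

end

end Cfsg.Agent.H836.SymThree
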