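import Cfsg.Agent.H836.Cent
import Cfsg.Agent.H836.Sylow
import Cfsg.Agent.H836.SymThree
import Cfsg.Agent.PreUniqCo.FiTwentyTwo

/-!
# `Fi22`: the normalizers of the subgroups of order 7, 11 and 13 (helper836)

`e : K ≃* Spor.Fi22`, `D = TK e` the class of transpositions. The three theorems are the conclusions of S5483, S5484, S5485.
-/

set_option autoImplicit false

namespace Cfsg.Agent.H836.Main

open Cfsg Subgroup Cfsg.Agent.LThreeFi22 Cfsg.Agent.H836
open scoped Pointwise
open Cfsg.Agent.KFacts.FiTT (TK)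

universe v

variable {K : Type v} [Group K]

/-- a subgroup of prime order is generated by an element -/
theorem exists_gen {p : ℕ} (hp : p.Prime) {X : Subgroup K} (hX : Nat.card X = p) :
    ∃ y : K, y ^ p = 1 ∧ y ≠ 1 ∧ orderOf y = p ∧ X = zpowers y := by
  have := Fact.mk hp
  have hfin : Finite ↥X := Nat.finite_of_card_ne_zero (by rw [hX]; exact hp.ne_zero)
  have hne : X ≠ ⊥ := by
    rintro rfl
    rw [card_bot] at hX
    exact hp.one_lt.ne hX
  obtain ⟨y, hy, hy1⟩ := X.bot_or_exists_ne_one.resolve_left hne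
  have h1 : orderOf y = p := by
    have h2 : orderOf (⟨y, hy⟩ : ↥X) ∣ p := by rw [← hX]; exact orderOf_dvd_natCard _
    rw [Subgroup.orderOf_mk] at h2
    rcases (Nat.dvd_prime hp).1 h2 with h3 | h3
    · exact absurd (orderOf_eq_one_iff.1 h3) hy1
    · exact h3
  refine ⟨y, ?_, hy1, h1, ?_⟩
  · rw [← h1]; exact pow_orderOf_eq_one y
  · symm
    apply eq_of_le_of_card_ge
    · rw [zpowers_le]; exact hy
    · rw [Nat.card_zpowers, h1, hX]

theorem centralizer_zpowers (y : K) : centralizer ((zpowers y : Subgroup K) : Set K) = centralizer ({y} : Set K) := by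
  rw [zpowers_eq_closure, centralizer_closure]

/-- `X` is contained in its centralizer -/
theorem le_centralizer_zpowers (y : K) : zpowers y ≤ centralizer ({y} : Set K) := by
  rw [zpowers_le]
  exact mem_centralizer_singleton_iff.2 rfl

section count

variable {T : Set K} (I : Inv K T)
include I

theorem nsq {p : ℕ} (hp : p = 7 ∨ p = 11 ∨ p = 13) : ¬ p ^ 2 ∣ Nat.card K := by
  rw [I.ctx.card]
  rcases hp with rfl | rfl | rfl <;> norm_num

theorem conj_all {p : ℕ} (hp : p = 7 ∨ p = 11 ∨ p = 13) (X Y : Subgroup K) (hX : Nat.card X = p)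
    (hY : Nat.card Y = p) : ∃ g : K, X.map (MulAut.conj g).toMonoidHom = Y := by
  have hfin : Finite K := I.ctx.finite
  exact Sylow.conj_of_card (by rcases hp with rfl | rfl | rfl <;> norm_num) (nsq I hp) hX hY

/-- **the normalizer of a subgroup of order 7** -/
theorem card_normalizer_seven {X : Subgroup K} (hX : Nat.card X = 7) : Nat.card ↥(normalizer (X : Set K)) = 252 := by
  have hfin : Finite K := I.ctx.finite
  obtain ⟨n, k, hn, hk, h1, h2⟩ := Sylow.card_normalizer (by norm_num) (nsq I (Or.inl rfl)) hX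
  obtain ⟨y, hy, hy1, -, rfl⟩ := exists_gen (by norm_num) hX
  rw [centralizer_zpowers, I.card_seven hy hy1] at h1 h2
  rw [I.ctx.card] at h1
  have h3 : k * n = 1537184563200 := by
    have : 42 * (k * n) = 42 * 1537184563200 := by rw [← mul_assoc, ← h1]
    exact mul_left_cancel₀ (by norm_num) this
  have h4 : k % 7 = 6 := by
    have h := Nat.mul_mod k n 7
    rw [h3, hn, mul_one, Nat.mod_mod] at h
    omega
  have h5 : k = 6 := by
    have : k ≤ 6 := Nat.le_of_dvd (by norm_num) hk
    omega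
  rw [h2, h5]

/-- **the normalizer of a subgroup of order 11** -/
theorem card_normalizer_eleven {X : Subgroup K} (hX : Nat.card X = 11) :
    Nat.card ↥(normalizer (X : Set K)) = 110 := by
  have hfin : Finite K := I.ctx.finite
  obtain ⟨n, k, hn, hk, h1, h2⟩ := Sylow.card_normalizer (by norm_num) (nsq I (Or.inr (Or.inl rfl))) hX
  obtain ⟨y, hy, hy1, -, rfl⟩ := exists_gen (by norm_num) hX
  rw [centralizer_zpowers, I.card_eleven hy hy1] at h1 h2
  rw [I.ctx.card] at h1
  have h3 : k * n = 2934625075200 := by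
    have : 22 * (k * n) = 22 * 2934625075200 := by rw [← mul_assoc, ← h1]
    exact mul_left_cancel₀ (by norm_num) this
  have h4 : k % 11 = 5 := by
    have h := Nat.mul_mod k n 11
    rw [h3, hn, mul_one, Nat.mod_mod] at h
    omega
  have h5 : k = 5 := by
    have : k ≤ 10 := Nat.le_of_dvd (by norm_num) hk
    omega
  rw [h2, h5]

/-- the normalizer of `⟨y⟩` permutes the transpositions commuting with `y` -/
theorem norm_fx (y : K) : ∀ g ∈ normalizer ((zpowers y : Subgroup K) : Set K), ∀ s ∈ Fx T y, g * s * g⁻¹ ∈ Fx T y := by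
  rintro g hg s ⟨hs, hys⟩
  refine ⟨I.ctx.conj s hs g, ?_⟩
  have h1 : g⁻¹ * y * g ∈ zpowers y := by
    have h2 := (mem_normalizer_iff'.1 hg y)
    have h3 := (mem_normalizer_iff.1 (inv_mem hg) y).1 (mem_zpowers y)
    rwa [inv_inv] at h3
  obtain ⟨m, hm⟩ := mem_zpowers_iff.1 h1
  have h2 : Commute s (g⁻¹ * y * g) := by
    rw [← hm]
    exact (show Commute s y from hys.symm).zpow_right m
  calc y * (g * s * g⁻¹) = g * ((g⁻¹ * y * g) * s) * g⁻¹ := by group
    _ = g * (s * (g⁻¹ * y * g)) * g⁻¹ := by rw [h2.eq]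
    _ = g * s * g⁻¹ * y := by group

omit I in
theorem inter_eq (y : K) : T ∩ (centralizer ((zpowers y : Subgroup K) : Set K) : Set K) = Fx T y := by
  rw [centralizer_zpowers]
  ext t
  constructor
  · rintro ⟨h1, h2⟩
    exact ⟨h1, (mem_centralizer_singleton_iff.1 h2).symm⟩
  · rintro ⟨h1, h2⟩
    exact ⟨h1, mem_centralizer_singleton_iff.2 h2.symm⟩

/-- **the conclusion of S5483** -/
theorem seven_concl : (∀ X Y : Subgroup K, Nat.card X = 7 → Nat.card Y = 7 → ∃ g : K, X.map (MulAut.conj g).toMonoidHom = Y) ∧ ∀ X : Subgroup K, Nat.card X = 7 → ∃ F : Subgroup K, Nat.card ↥F = 42 ∧ X ≤ F ∧ F ⊓ Subgroup.centralizer ((X : Subgroup K) : Set K) = X ∧ F ⊓ Subgroup.closure (T ∩ (Subgroup.centralizer ((X : Subgroup K) : Set K) : Set K)) = ⊥ ∧ (∀ x ∈ F, ∀ y ∈ Subgroup.closure (T ∩ (Subgroup.centralizer ((X : Subgroup K) : Set K) : Set K)), x * y = y * x) ∧ F ⊔ Subgroup.closure (T ∩ (Subgroup.centralizer ((X : Subgroup K) : Set K) : Set K)) = Subgroup.normalizer ((X : Subgroup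 K) : Set K) ∧ Nonempty (↥(Subgroup.closure (T ∩ (Subgroup.centralizer ((X : Subgroup K) : Set K) : Set K))) ≃* Equiv.Perm (Fin 3)) := by
  have hfin : Finite K := I.ctx.finite
  refine ⟨fun X Y hX hY => conj_all I (Or.inl rfl) X Y hX hY, fun X hX => ?_⟩
  have hN := card_normalizer_seven I hX
  obtain ⟨y, hy, hy1, hyo, rfl⟩ := exists_gen (by norm_num) hX
  rw [inter_eq y]
  have hC := I.card_seven hy hy1
  -- the three transpositions
  have h3 := I.ctx.seven_card hy hy1
  obtain ⟨a, b, c, hab, hac, hbc, hS⟩ := Set.ncard_eq_three.1 h3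
  have ma : a ∈ Fx T y := by rw [hS]; exact Or.inl rfl
  have mb : b ∈ Fx T y := by rw [hS]; exact Or.inr (Or.inl rfl)
  have haa := I.ctx.sq a ma.1
  have hbb := I.ctx.sq b mb.1
  have hbr : a * b * a = b * a * b := (I.ctx.three a ma.1 b mb.1).resolve_left
    fun h => hab (I.ctx.seven_comm hy hy1 ma mb h).symm
  have hTr : Fx T y = SymThree.Tr a b := by
    obtain ⟨n1, n2⟩ := SymThree.ne_aba haa hbb hbr hab
    have mc : a * b * a ∈ Fx T y := by
      have h1 := I.ctx.fx_conj (y := y) (x := a) ma.2.symm mb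
      have ai : a⁻¹ = a := inv_eq_of_mul_eq_one_left haa
      rwa [ai] at h1
    rw [hS]
    have h4 : a * b * a = c := by
      rw [hS] at mc
      rcases mc with h5 | h5 | h5
      · exact absurd h5.symm n1
      · exact absurd h5.symm n2
      · exact h5
    rw [SymThree.Tr, h4]
  set N := normalizer ((zpowers y : Subgroup K) : Set K) with hNdef
  have hCN : centralizer ({y} : Set K) ≤ N := by
    rw [← centralizer_zpowers]
    exact centralizer_le_normalizer _
  have hN7 := norm_fx I y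
  have hC7 : ∀ g ∈ centralizer ({y} : Set K), ∀ s ∈ Fx T y, g * s * g⁻¹ ∈ Fx T y :=
    fun g hg => hN7 g (hCN hg)
  have aC : a ∈ centralizer ({y} : Set K) := mem_centralizer_singleton_iff.2 ma.2.symm
  have bC : b ∈ centralizer ({y} : Set K) := mem_centralizer_singleton_iff.2 mb.2.symm
  rw [hTr] at hN7 hC7 ⊢
  have cN := SymThree.card_mul haa hbb hbr hab (hCN aC) (hCN bC) hN7
  have cC := SymThree.card_mul haa hbb hbr hab aC bC hC7
  rw [hN] at cN
  rw [hC] at cC
  have hyle : zpowers y ≤ centralizer (SymThree.Tr a b : Set K) := by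
    rw [zpowers_le, mem_centralizer_iff, ← hTr]
    intro t ht
    exact ht.2.symm
  refine ⟨N ⊓ centralizer (SymThree.Tr a b : Set K), by omega, le_inf (le_normalizer) hyle, ?_, ?_, ?_, ?_,
    SymThree.equiv haa hbb hbr hab⟩
  · rw [centralizer_zpowers]
    symm
    apply eq_of_le_of_card_ge (le_inf (le_inf le_normalizer hyle) (le_centralizer_zpowers y))
    rw [hX]
    have h4 : N ⊓ centralizer (SymThree.Tr a b : Set K) ⊓ centralizer ({y} : Set K) =
        centralizer ({y} : Set K) ⊓ centralizer (SymThree.Tr a b : Set K) := by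
      rw [inf_comm, ← inf_assoc, inf_eq_left.2 hCN]
    rw [h4]
    omega
  · rw [eq_bot_iff, ← SymThree.inf_bot haa hbb hbr hab]
    exact inf_le_inf inf_le_right le_rfl
  · rintro x hx z hz
    have h4 : closure (SymThree.Tr a b) ≤ centralizer ({x} : Set K) := by
      rw [closure_le]
      intro t ht
      exact mem_centralizer_singleton_iff.2 (mem_centralizer_iff.1 hx.2 t ht)
    exact (mem_centralizer_singleton_iff.1 (h4 hz)).symm
  · exact SymThree.sup_eq haa hbb hbr hab (hCN aC) (hCN bC) hN7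

/-- **the conclusion of S5484** -/
theorem eleven_concl : (∀ X Y : Subgroup K, Nat.card X = 11 → Nat.card Y = 11 → ∃ g : K, X.map (MulAut.conj g).toMonoidHom = Y) ∧ ∀ X : Subgroup K, Nat.card X = 11 → ∃ (F : Subgroup K) (d : K), d ∈ T ∧ Nat.card ↥F = 55 ∧ X ≤ F ∧ F ⊓ Subgroup.centralizer ((X : Subgroup K) : Set K) = X ∧ F ⊓ Subgroup.zpowers d = ⊥ ∧ (∀ x ∈ F, ∀ y ∈ Subgroup.zpowers d, x * y = y * x) ∧ F ⊔ Subgroup.zpowers d = Subgroup.normalizer ((X : Subgroup K) : Set K) := by
  have hfin : Finite K := I.ctx.finite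
  refine ⟨fun X Y hX hY => conj_all I (Or.inr (Or.inl rfl)) X Y hX hY, fun X hX => ?_⟩
  have hN := card_normalizer_eleven I hX
  obtain ⟨y, hy, hy1, hyo, rfl⟩ := exists_gen (by norm_num) hX
  have hC := I.card_eleven hy hy1
  obtain ⟨d, hd, hyd, huniq⟩ := I.fx_eleven hy hy1
  have hdd := I.ctx.sq d hd
  have hd1 := I.ctx.ne1 d hd
  have hdo : orderOf d = 2 := orderOf_eq_prime_iff.2 ⟨by rw [pow_two, hdd], hd1⟩
  set N := normalizer ((zpowers y : Subgroup K) : Set K) with hNdef
  have hCN : centralizer ({y} : Set K) ≤ N := by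
    rw [← centralizer_zpowers]
    exact centralizer_le_normalizer _
  have dC : d ∈ centralizer ({y} : Set K) := mem_centralizer_singleton_iff.2 hyd.symm
  have dN : d ∈ N := hCN dC
  -- `d` is central in `N`
  have hcen : ∀ g ∈ N, g * d = d * g := by
    intro g hg
    have h1 := norm_fx I y g hg d ⟨hd, hyd⟩
    exact mul_inv_eq_iff_eq_mul.1 (huniq _ h1.1 h1.2)
  -- a complement to `⟨d⟩` in `N`
  let Z : Subgroup ↥N := zpowers ⟨d, dN⟩
  have hZn : Z.Normal := by
    refine ⟨fun n hn g => ?_⟩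
    obtain ⟨m, rfl⟩ := mem_zpowers_iff.1 hn
    have h1 : Commute g (⟨d, dN⟩ : ↥N) := Subtype.ext (hcen g g.2)
    rw [(h1.zpow_right m).eq, mul_inv_cancel_right]
    exact zpow_mem_zpowers _ _
  have hZc : Nat.card ↥Z = 2 := by
    rw [Nat.card_zpowers, ← hdo]
    exact Subgroup.orderOf_mk d dN
  have hZi : Z.index = 55 := by
    have := Z.card_mul_index
    rw [hZc, hN] at this
    omega
  obtain ⟨F, hF⟩ := exists_right_complement'_of_coprime (N := Z) (by rw [hZc, hZi]; norm_num)
  have hFc : Nat.card ↥F = 55 := by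
    have := hF.card_mul_card
    rw [hZc, hN] at this
    omega
  have hFm : Nat.card ↥(F.map N.subtype) = 55 := by
    rw [← hFc]
    exact (Nat.card_congr (F.equivMapOfInjective N.subtype N.subtype_injective).toEquiv).symm
  have hZm : Z.map N.subtype = zpowers d := by
    rw [MonoidHom.map_zpowers]
    rfl
  have hinf : F.map N.subtype ⊓ zpowers d = ⊥ := by
    rw [← hZm, ← map_inf _ _ _ N.subtype_injective, inf_comm, hF.disjoint.eq_bot, Subgroup.map_bot]
  have hsup : F.map N.subtype ⊔ zpowers d = N := by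
    rw [← hZm, ← Subgroup.map_sup, sup_comm, hF.sup_eq_top, ← MonoidHom.range_eq_map, range_subtype]
  have hcom : ∀ x ∈ F.map N.subtype, ∀ z ∈ zpowers d, x * z = z * x := by
    rintro _ ⟨x, -, rfl⟩ z hz
    obtain ⟨m, rfl⟩ := mem_zpowers_iff.1 hz
    exact ((show Commute (x : K) d from hcen x x.2).zpow_right m).eq
  -- `y ∈ F`
  have hyF : y ∈ F.map N.subtype := by
    have h1 : y ∈ F.map N.subtype ⊔ zpowers d := by rw [hsup]; exact le_normalizer (mem_zpowers y)
    obtain ⟨f, hf, z, hz, hfz⟩ : ∃ f ∈ F.map N.subtype, ∃ z ∈ zpowers d, f * z = y := by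
      have h2 := hF.mul_eq
      have h3 : (⟨y, le_normalizer (mem_zpowers y)⟩ : ↥N) ∈ ((Z : Set ↥N) * (F : Set ↥N)) := by rw [h2]; trivial
      obtain ⟨z, hz, f, hf, hzf⟩ := h3
      refine ⟨f, ⟨f, hf, rfl⟩, z, ?_, ?_⟩
      · rw [← hZm]; exact ⟨z, hz, rfl⟩
      · have h4 : (z : K) * f = y := congrArg Subtype.val hzf
        have hz' : (z : K) ∈ zpowers d := by rw [← hZm]; exact ⟨z, hz, rfl⟩
        rw [← h4]
        exact hcom f ⟨f, hf, rfl⟩ z hz'
    have h5 : z ^ 11 ∈ F.map N.subtype ⊓ zpowers d := by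
      refine ⟨?_, pow_mem hz 11⟩
      have h6 : f ^ 11 * z ^ 11 = 1 := by
        rw [← (show Commute f z from hcom f hf z hz).mul_pow, hfz, hy]
      have h7 : z ^ 11 = (f ^ 11)⁻¹ := (inv_eq_of_mul_eq_one_right h6).symm
      rw [h7]
      exact (F.map N.subtype).inv_mem (pow_mem hf 11)
    rw [hinf, mem_bot] at h5
    have h6 : z ^ 2 = 1 := by
      obtain ⟨m, rfl⟩ := mem_zpowers_iff.1 hz
      rw [← zpow_natCast, ← zpow_mul, mul_comm, zpow_mul, zpow_natCast, pow_two, hdd, one_zpow]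
    have h7 : z = 1 := by
      calc z = z ^ 11 * ((z ^ 2) ^ 5)⁻¹ := by group
        _ = 1 := by rw [h5, h6, one_pow, inv_one, mul_one]
    rw [h7, mul_one] at hfz
    rwa [← hfz]
  refine ⟨F.map N.subtype, d, hd, hFm, by rw [zpowers_le]; exact hyF, ?_, hinf, hcom, hsup⟩
  rw [centralizer_zpowers]
  symm
  apply eq_of_le_of_card_ge (le_inf (by rw [zpowers_le]; exact hyF) (le_centralizer_zpowers y))
  rw [hX]
  have h1 : Nat.card ↥(F.map N.subtype ⊓ centralizer ({y} : Set K)) ∣ 55 := by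
    rw [← hFm]; exact card_dvd_of_le inf_le_left
  have h2 : Nat.card ↥(F.map N.subtype ⊓ centralizer ({y} : Set K)) ∣ 22 := by
    rw [← hC]; exact card_dvd_of_le inf_le_right
  have h3 : Nat.card ↥(F.map N.subtype ⊓ centralizer ({y} : Set K)) ∣ Nat.gcd 55 22 := Nat.dvd_gcd h1 h2
  exact Nat.le_of_dvd (by norm_num) h3

end count

variable (e : K ≃* Spor.Fi22)
include e

/-- **the centralizer of an element of order 13** -/
theorem centralizer_thirteen {y : K} (hy : orderOf y = 13) : centralizer ({y} : Set K) = zpowers y := by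
  have C := Cfsg.Agent.LThreeFi22.Inst.ctx e
  have hfin : Finite K := C.finite
  have h13 : Nat.Prime 13 := by norm_num
  have := Fact.mk h13
  -- the centralizer is a 13-group
  have h1 : IsPGroup 13 ↥(centralizer ({y} : Set K)) := by
    intro x
    refine ⟨1, Subtype.ext ?_⟩
    rw [pow_one]
    exact Cfsg.Agent.PreUniqCo.FiTwentyTwo.thirteen e hy (mem_centralizer_singleton_iff.1 x.2)
  obtain ⟨n, hn⟩ := IsPGroup.iff_card.1 h1
  have h2 : Nat.card ↥(centralizer ({y} : Set K)) ∣ Nat.card K := card_subgroup_dvd_card _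
  have h3 : n ≤ 1 := by
    by_contra h4
    have h5 : 13 ^ 2 ∣ Nat.card K := (pow_dvd_pow 13 (not_le.1 h4)).trans (hn ▸ h2)
    rw [C.card] at h5
    norm_num at h5
  symm
  apply eq_of_le_of_card_ge (le_centralizer_zpowers y)
  rw [hn, Nat.card_zpowers, hy]
  calc 13 ^ n ≤ 13 ^ 1 := Nat.pow_le_pow_right (by norm_num) h3
    _ = 13 := by norm_num

theorem thirteen_concl : (∀ X Y : Subgroup K, Nat.card X = 13 → Nat.card Y = 13 → ∃ g : K, X.map (MulAut.conj g).toMonoidHom = Y) ∧ ∀ X : Subgroup K, Nat.card X = 13 → Nat.card ↥(Subgroup.normalizer ((X : Subgroup K) : Set K)) = 78 ∧ Subgroup.centralizer ((X : Subgroup K) : Set K) = X := by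
  have I := inv_of_iso e
  have hfin : Finite K := I.ctx.finite
  refine ⟨fun X Y hX hY => conj_all I (Or.inr (Or.inr rfl)) X Y hX hY, fun X hX => ?_⟩
  obtain ⟨n, k, hn, hk, h1, h2⟩ := Sylow.card_normalizer (by norm_num) (nsq I (Or.inr (Or.inr rfl))) hX
  obtain ⟨y, hy, hy1, hyo, rfl⟩ := exists_gen (by norm_num) hX
  have hC := centralizer_thirteen e hyo
  rw [centralizer_zpowers, hC, hX] at h1 h2
  rw [I.ctx.card] at h1
  have h3 : k * n = 4966288588800 := by
    have : 13 * (k * n) = 13 * 4966288588800 := by rw [← mul_assoc, ← h1]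
    exact mul_left_cancel₀ (by norm_num) this
  have h4 : k % 13 = 6 := by
    have h := Nat.mul_mod k n 13
    rw [h3, hn, mul_one, Nat.mod_mod] at h
    omega
  have h5 : k = 6 := by
    have : k ≤ 12 := Nat.le_of_dvd (by norm_num) hk
    omega
  refine ⟨by rw [h2, h5], ?_⟩
  rw [centralizer_zpowers, hC]

end Cfsg.Agent.H836.Main
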