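import Cfsg.Agent.StdO8.Aut
import Cfsg.Agent.StdO8.Code
import Cfsg.Agent.CoOneNWC.OmFacts

/-!
# The isometry group of the hyperbolic form in dimension eight over `𝔽₂` (helper836)

* `rf v`, `rf_apply`, `closure_rf`: the reflections generate `O8`;
* `card_O8`, `card_Om`, `comm_eq`: `|O8| = 348364800`, `|Om| = 174182400`, `commutator O8 = Om`, index 2;
* `centralizer_comm`: only the identity of `O8` centralises `Om`;
* `card_mulAut`: `|Aut Om| = 1045094400`;
* `rigid`: a map of nonsingular vectors preserving the bilinear form is induced by an isometry;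
* `eq_comm_of_two`: a proper subgroup containing all products of two elements outside it is `Om`.
-/

set_option autoImplicit false

namespace Cfsg.Agent.H836.EightO

open QuadraticMap Cfsg.Agent.LieClassical.OrthCore Cfsg.Agent.LieClassical.OrthFinite
  Cfsg.Agent.LieClassical.OrthTrans Cfsg.Agent.LieClassical.QuadForms Cfsg.Agent.AutOrth.Main
open Cfsg.Agent.ClassicalGeometry.Reflection (reflIso coe_reflIso reflectionMatrix_mulVec)
open Cfsg.Agent.ClassicalGeometry.OrthCharTwo (closure_reflections_eq_top)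
open Cfsg.Agent.ClassicalGeometry.OrthDickson (index_commutator_two refl_mul_refl_mem_two)
open Cfsg.Agent.StdO8.Model Cfsg.Agent.StdO8.Aut

/-- The isometries as matrices and as linear maps. -/
noncomputable abbrev iso : Cfsg.isometryGroup (ZMod 2) ⇑q ≃* O8 := isometryEquiv q

theorem nondegQ : (polarBilin q).Nondegenerate := by
  refine ⟨fun a ha => good.nondeg a ha, fun a ha => good.nondeg a fun b => ?_⟩
  rw [polar_comm]
  exact ha b

theorem card4 : (∃ θ : ZMod 2, θ ≠ 0 ∧ θ ≠ 1) ∨ Fintype.card (Fin 4 ⊕ Fin 4) ≠ 4 := by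
  right
  simp

theorem q_ne_zero {v : V} (h : q v = 1) : q v ≠ 0 := by rw [h]; exact one_ne_zero

/-- The reflection of a nonsingular vector. -/
noncomputable def rf (v : V) (hv : q v = 1) : O8 := iso (reflIso q v (q_ne_zero hv))

theorem rf_apply (v : V) (hv : q v = 1) (x : V) : (rf v hv : V ≃ₗ[ZMod 2] V) x = x + B v x • v := by
  have h1 : (rf v hv : V ≃ₗ[ZMod 2] V) x = (Cfsg.reflectionMatrix (⇑q) v).mulVec x := by
    rw [rf, isometryEquiv_apply, coe_reflIso]
  rw [h1, reflectionMatrix_mulVec, sub_eq]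
  congr 2
  rw [hv]
  simp

theorem closure_rf : Subgroup.closure {g : O8 | ∃ v, ∃ hv : q v = 1, g = rf v hv} = ⊤ := by
  have h := closure_reflections_eq_top q nondegQ card4
  have h2 := congrArg (Subgroup.map iso.toMonoidHom) h
  rw [MonoidHom.map_closure, Subgroup.map_top_of_surjective _ iso.surjective] at h2
  rw [← h2]
  congr 1
  ext g
  constructor
  · rintro ⟨v, hv, rfl⟩
    exact ⟨reflIso q v (q_ne_zero hv), ⟨v, q_ne_zero hv, rfl⟩, rfl⟩
  · rintro ⟨g, ⟨v, hv, hg⟩, rfl⟩
    have hv1 : q v = 1 := (z2 _).resolve_left hv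
    refine ⟨v, hv1, ?_⟩
    have : g = reflIso q v hv := by
      apply Subtype.ext
      apply Units.ext
      exact hg
    rw [this]
    rfl

theorem card_O8 : Nat.card O8 = 348364800 := by
  have h := Cfsg.Agent.CoOneNWC.OmFacts.card_isometryGroup
  rw [← coe_plusForm] at h
  rw [← Nat.card_congr iso.toEquiv, h]

instance finO8 : Finite O8 := Nat.finite_of_card_ne_zero (by rw [card_O8]; norm_num)

/-- `Ω` as the commutator group of matrices and as `Om`. -/
theorem exists_omega : Nonempty (Cfsg.Omega (ZMod 2) (Cfsg.quadFormPlus 4 (ZMod 2)) ≃* Om) := by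
  rw [← coe_plusForm]
  exact ⟨oe good⟩

theorem card_Om : Nat.card Om = 174182400 := by
  obtain ⟨e⟩ := exists_omega
  rw [← Nat.card_congr e.toEquiv]
  exact Cfsg.Agent.CoOneNWC.OmFacts.card_om8

instance finOm : Finite Om := Nat.finite_of_card_ne_zero (by rw [card_Om]; norm_num)

theorem map_comm : (commutator O8).map O8.subtype = Om := by
  rw [commutator_def, Subgroup.map_commutator, ← MonoidHom.range_eq_map, Subgroup.range_subtype]
  exact good.commutator_eq_E

theorem mem_comm {g : O8} : g ∈ commutator O8 ↔ (g : V ≃ₗ[ZMod 2] V) ∈ Om := by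
  rw [← map_comm]
  constructor
  · intro h
    exact ⟨g, h, rfl⟩
  · rintro ⟨g', h, e⟩
    have : g' = g := Subtype.ext e
    rwa [← this]

theorem map_iso_comm : (commutator (Cfsg.isometryGroup (ZMod 2) ⇑q)).map iso.toMonoidHom = commutator O8 := by
  rw [commutator_def, Subgroup.map_commutator, Subgroup.map_top_of_surjective _ iso.surjective]
  rfl

theorem index_comm : (commutator O8).index = 2 := by
  have h := index_commutator_two q (by decide) nondegQ card4
  rw [← map_iso_comm, Subgroup.index_map_of_bijective iso.bijective]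
  exact h

theorem rf_mul_rf (u v : V) (hu : q u = 1) (hv : q v = 1) : rf u hu * rf v hv ∈ commutator O8 := by
  rw [← map_iso_comm]
  exact ⟨_, refl_mul_refl_mem_two q (by decide) nondegQ card4 u v (q_ne_zero hu) (q_ne_zero hv), by
    rw [map_mul]; rfl⟩

/-! ### Nonsingular vectors -/

theorem split_codes : ∀ n : Fin 256, ∃ m : Fin 256, Cfsg.Agent.StdO8.Code.qn m.1 = true ∧
    Cfsg.Agent.StdO8.Code.qn (n.1 ^^^ m.1) = true := by
  decide +kernel

/-- Every vector is the sum of two nonsingular vectors. -/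
theorem split (x : V) : ∃ u v, q u = 1 ∧ q v = 1 ∧ x = u + v := by
  obtain ⟨n, hn, rfl⟩ := Cfsg.Agent.StdO8.Code.dec_surj x
  obtain ⟨m, h1, h2⟩ := split_codes ⟨n, hn⟩
  refine ⟨Cfsg.Agent.StdO8.Code.dec m.1, Cfsg.Agent.StdO8.Code.dec (n ^^^ m.1), ?_, ?_, ?_⟩
  · rw [Cfsg.Agent.StdO8.Code.q_dec, h1]; rfl
  · rw [Cfsg.Agent.StdO8.Code.q_dec, h2]; rfl
  · rw [← Cfsg.Agent.StdO8.Code.dec_xor]
    congr 1
    rw [Nat.xor_comm, Nat.xor_assoc, Nat.xor_self, Nat.xor_zero]

theorem span_ns : Submodule.span (ZMod 2) {v : V | q v = 1} = ⊤ := by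
  rw [eq_top_iff]
  intro x _
  obtain ⟨u, v, hu, hv, rfl⟩ := split x
  exact Submodule.add_mem _ (Submodule.subset_span hu) (Submodule.subset_span hv)

theorem eq_one_of_fix {g : O8} (h : ∀ v, q v = 1 → (g : V ≃ₗ[ZMod 2] V) v = v) : g = 1 := by
  apply Subtype.ext
  ext x : 1
  obtain ⟨u, v, hu, hv, rfl⟩ := split x
  rw [map_add, h u hu, h v hv]
  rfl

theorem eq_of_ns {g h : O8} (e : ∀ v, q v = 1 → (g : V ≃ₗ[ZMod 2] V) v = (h : V ≃ₗ[ZMod 2] V) v) : g = h := by
  apply Subtype.ext
  ext x : 1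
  obtain ⟨u, v, hu, hv, rfl⟩ := split x
  rw [map_add, map_add, e u hu, e v hv]

theorem rf_inj {u v : V} (hu : q u = 1) (hv : q v = 1) (h : rf u hu = rf v hv) : u = v := by
  have hu0 : u ≠ 0 := by
    rintro rfl
    rw [q_zero] at hu
    exact absurd hu (by decide)
  obtain ⟨x, hx⟩ : ∃ x, B u x = 1 := by
    by_contra hcon
    push Not at hcon
    exact hu0 (Cfsg.Agent.StdO8.Model.nondeg fun x => (z2 _).resolve_right (hcon x))
  have h1 : (rf u hu : V ≃ₗ[ZMod 2] V) x = (rf v hv : V ≃ₗ[ZMod 2] V) x := by rw [h]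
  rw [rf_apply, rf_apply, hx, one_smul] at h1
  have h2 := add_left_cancel h1
  rcases z2 (B v x) with h3 | h3
  · rw [h3, zero_smul] at h2
    exact absurd h2 hu0
  · rw [h3, one_smul] at h2
    exact h2

theorem conj_rf (g : O8) (v : V) (hv : q v = 1) :
    g * rf v hv * g⁻¹ = rf ((g : V ≃ₗ[ZMod 2] V) v) (by rw [O8_q g.2, hv]) := by
  rw [mul_inv_eq_iff_eq_mul]
  apply Subtype.ext
  ext x : 1
  show (g : V ≃ₗ[ZMod 2] V) ((rf v hv : V ≃ₗ[ZMod 2] V) x) =
    (rf ((g : V ≃ₗ[ZMod 2] V) v) (by rw [O8_q g.2, hv]) : V ≃ₗ[ZMod 2] V) ((g : V ≃ₗ[ZMod 2] V) x)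
  rw [rf_apply, rf_apply, map_add, map_smul, O8_B g.2]

theorem centralizer_comm {c : O8} (h : ∀ w ∈ commutator O8, c * w = w * c) : c = 1 := by
  by_cases hc : c ∈ commutator O8
  · have h1 : (⟨(c : V ≃ₗ[ZMod 2] V), mem_comm.1 hc⟩ : Om) ∈ Subgroup.center Om := by
      rw [Subgroup.mem_center_iff]
      intro w
      apply Subtype.ext
      have hw : (⟨(w : V ≃ₗ[ZMod 2] V), Om_le w.2⟩ : O8) ∈ commutator O8 := mem_comm.2 w.2
      exact (congrArg Subtype.val (h _ hw)).symm
    rw [center_Om, Subgroup.mem_bot] at h1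
    exact Subtype.ext (congrArg (fun x : Om => (x : V ≃ₗ[ZMod 2] V)) h1)
  · have hall : ∀ g : O8, c * g = g * c := by
      intro g
      by_cases hg : g ∈ commutator O8
      · exact h g hg
      · have h1 : c⁻¹ * g ∈ commutator O8 := by
          rw [Subgroup.mul_mem_iff_of_index_two index_comm]
          constructor
          · intro h2; exact absurd ((inv_mem_iff).1 h2) hc
          · intro h2; exact absurd h2 hg
        have h2 := h _ h1
        calc c * g = c * (c * (c⁻¹ * g)) := by group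
          _ = c * ((c⁻¹ * g) * c) := by rw [h2]
          _ = g * c := by group
    apply eq_one_of_fix
    intro v hv
    apply rf_inj (by rw [O8_q c.2, hv]) hv
    rw [← conj_rf, hall, mul_assoc, mul_inv_cancel, mul_one]

theorem cj_injective : Function.Injective cj := by
  rw [injective_iff_map_eq_one]
  intro c hc
  apply centralizer_comm
  intro w hw
  have h1 : cj c ⟨w, mem_comm.1 hw⟩ = ⟨w, mem_comm.1 hw⟩ := by rw [hc]; rfl
  have h2 := congrArg Subtype.val h1
  rw [cj_coe] at h2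
  apply Subtype.ext
  have h3 : (c : V ≃ₗ[ZMod 2] V) * (w : V ≃ₗ[ZMod 2] V) * (c : V ≃ₗ[ZMod 2] V)⁻¹ = w := h2
  exact mul_inv_eq_iff_eq_mul.1 h3

theorem card_mulAut : Nat.card (MulAut Om) = 1045094400 := by
  have h1 := Subgroup.card_mul_index cj.range
  have h2 : Nat.card cj.range = Nat.card O8 :=
    (Nat.card_congr (MonoidHom.ofInjective cj_injective).toEquiv).symm
  rw [h2, card_O8, index_range] at h1
  omega

/-! ### Rigidity -/

theorem rigid (π : V → V) (h1 : ∀ v, q v = 1 → q (π v) = 1)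
    (hB : ∀ u v, q u = 1 → q v = 1 → B (π u) (π v) = B u v) :
    ∃ A : O8, ∀ v, q v = 1 → π v = (A : V ≃ₗ[ZMod 2] V) v := by
  classical
  let b := Module.Basis.ofSpan (K := ZMod 2) (V := V) (s := {v : V | q v = 1}) span_ns.ge
  have hb : ∀ i, q (b i) = 1 := fun i =>
    Module.Basis.ofSpan_subset (K := ZMod 2) (V := V) (s := {v : V | q v = 1}) span_ns.ge ⟨i, rfl⟩
  let A₀ : V →ₗ[ZMod 2] V := b.constr (ZMod 2) (fun i => π (b i))
  have hA : ∀ i, A₀ (b i) = π (b i) := fun i => b.constr_basis (ZMod 2) _ i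
  have hsp : ∀ x : V, x ∈ Submodule.span (ZMod 2) (Set.range b) := fun x => by
    rw [b.span_eq]; trivial
  have hB1 : ∀ i y, B (A₀ (b i)) (A₀ y) = B (b i) y := by
    intro i y
    refine Submodule.span_induction ?_ ?_ ?_ ?_ (hsp y)
    · rintro _ ⟨j, rfl⟩
      rw [hA, hA, hB _ _ (hb i) (hb j)]
    · rw [map_zero, B_zero_right, B_zero_right]
    · intro x y _ _ hx hy
      rw [map_add, B_add_right, B_add_right, hx, hy]
    · intro a x _ hx
      rw [map_smul, B_smul_right, B_smul_right, hx]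
  have hB2 : ∀ x y, B (A₀ x) (A₀ y) = B x y := by
    intro x y
    refine Submodule.span_induction ?_ ?_ ?_ ?_ (hsp x)
    · rintro _ ⟨j, rfl⟩
      exact hB1 j y
    · rw [map_zero, B_zero_left, B_zero_left]
    · intro u v _ _ hu hv
      rw [map_add, B_add_left, B_add_left, hu, hv]
    · intro a u _ hu
      rw [map_smul, B_smul_left, B_smul_left, hu]
  have hq : ∀ x, q (A₀ x) = q x := by
    intro x
    refine Submodule.span_induction ?_ ?_ ?_ ?_ (hsp x)
    · rintro _ ⟨j, rfl⟩
      rw [hA, h1 _ (hb j), hb j]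
    · rw [map_zero]
    · intro u v _ _ hu hv
      rw [map_add, q_add, q_add, hu, hv, hB2]
    · intro a u _ hu
      rw [map_smul, QuadraticMap.map_smul, QuadraticMap.map_smul, hu]
  have hinj : Function.Injective A₀ := by
    rw [← LinearMap.ker_eq_bot, Submodule.eq_bot_iff]
    intro x hx
    apply Cfsg.Agent.StdO8.Model.nondeg
    intro y
    rw [← hB2, LinearMap.mem_ker.1 hx, B_zero_left]
  let A : V ≃ₗ[ZMod 2] V := LinearEquiv.ofInjectiveEndo A₀ hinj
  have hAA : ∀ x, A x = A₀ x := fun x => rfl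
  refine ⟨⟨A, fun x => by rw [hAA]; exact hq x⟩, ?_⟩
  intro v hv
  show π v = A v
  rw [hAA]
  apply eq_of_B
  intro w
  obtain ⟨y, rfl⟩ := A.surjective w
  rw [hAA, hB2]
  refine Submodule.span_induction ?_ ?_ ?_ ?_ (hsp y)
  · rintro _ ⟨j, rfl⟩
    rw [hA, hB _ _ hv (hb j)]
  · rw [map_zero, B_zero_right, B_zero_right]
  · intro x y _ _ hx hy
    rw [map_add, B_add_right, B_add_right, hx, hy]
  · intro a x _ hx
    rw [map_smul, B_smul_right, B_smul_right, hx]

theorem eq_comm_of_two (K : Subgroup O8) (h : ∀ a b, a ∉ K → b ∉ K → a * b ∈ K) (hne : K ≠ ⊤) :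
    K = commutator O8 := by
  obtain ⟨a, ha⟩ : ∃ a, a ∉ K := by
    by_contra hcon
    push Not at hcon
    exact hne (eq_top_iff.2 fun x _ => hcon x)
  have h2 : K.index = 2 := by
    rw [Subgroup.index_eq_two_iff]
    refine ⟨a, fun b => ?_⟩
    by_cases hb : b ∈ K
    · right
      refine ⟨hb, fun hba => ha ?_⟩
      have := K.mul_mem (K.inv_mem hb) hba
      rwa [inv_mul_cancel_left] at this
    · left
      exact ⟨h b a hb ha, hb⟩
  have hle : commutator O8 ≤ K := by
    have hn : K.Normal := Subgroup.normal_of_index_eq_two h2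
    rw [commutator_def, Subgroup.commutator_le]
    intro x _ y _
    have hx : ∀ x y : O8, x * y * x⁻¹ * y⁻¹ ∈ K := by
      intro x y
      have mm : ∀ {a b : O8}, a * b ∈ K ↔ (a ∈ K ↔ b ∈ K) := fun {a b} =>
        Subgroup.mul_mem_iff_of_index_two h2
      rw [mm, mm, mm, inv_mem_iff, inv_mem_iff]
      tauto
    exact hx x y
  have h3 := Subgroup.relIndex_mul_index hle
  rw [h2, index_comm] at h3
  have h4 : (commutator O8).relIndex K = 1 := by omega
  exact le_antisymm (Subgroup.relIndex_eq_one.1 h4) hle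

end Cfsg.Agent.H836.EightO
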