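import Cfsg.Agent.H836.CosetGow
import Cfsg.Agent.S4613
import Cfsg.Agent.OddHalf.Known
import Cfsg.Prelude.Def_EvenType
import Cfsg.Prelude.Def_HallClasses

/-!
# S3876, groups of Lie type in characteristic `p ∉ π`: every other prime divisor of the order lies in `π`
-/

set_option autoImplicit false

namespace Cfsg.Agent.H836.CosetPi

open Cfsg Subgroup
open Cfsg.Agent.BpLieP.Big (LocChar conj_mul_eq conj_injective)

section Fixed

variable {S : Type*} [Group S] [Finite S] {p : ℕ} [Fact p.Prime]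

/-- an automorphism of order prime to `p` that centralises every invariant `p`-subgroup of a group of local
characteristic `p` centralises a Sylow `p`-subgroup as soon as it centralises some nontrivial `p`-element -/
theorem exists_sylow_fixed (hloc : LocChar p S) {x : MulAut S}
    (hQ : ∀ Q : Subgroup S, IsPGroup p Q → Q.map x.toMonoidHom = Q → ∀ y ∈ Q, x y = y)
    (hd : p ∣ Nat.card ↥(fixedSubgroup x)) : ∃ U : Sylow p S, ∀ y ∈ (U : Subgroup S), x y = y := by
  classical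
  have hp : p.Prime := Fact.out
  obtain ⟨c, hc⟩ := exists_prime_orderOf_dvd_card' p hd
  have hcx : x (c : S) = c := c.2
  have hc' : orderOf (c : S) = p := by rw [orderOf_coe]; exact hc
  have hinv : ∀ Q : Subgroup S, (∀ y ∈ Q, x y ∈ Q) → Q.map x.toMonoidHom = Q := by
    intro Q h
    refine Subgroup.eq_of_le_of_card_ge ?_ (Nat.card_congr (Q.equivMapOfInjective _ x.injective).toEquiv).le
    rintro _ ⟨y, hy, rfl⟩
    exact h y hy
  have hmem : ∀ Q : Subgroup S, Q.map x.toMonoidHom = Q → ∀ y ∈ Q, x y ∈ Q := by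
    intro Q h y hy
    rw [← h]
    exact ⟨y, hy, rfl⟩
  obtain ⟨Q, hcQ, hQmax⟩ := Set.Finite.exists_le_maximal
    (Set.toFinite {Q : Subgroup S | IsPGroup p Q ∧ Q.map x.toMonoidHom = Q}) (a := zpowers (c : S)) ⟨by
      rw [IsPGroup.iff_card]
      exact ⟨1, by rw [Nat.card_zpowers, hc', pow_one]⟩, by
      refine hinv _ fun y hy => ?_
      obtain ⟨i, rfl⟩ := mem_zpowers_iff.1 hy
      rw [map_zpow, hcx]
      exact hy⟩
  obtain ⟨⟨hQp, hQx⟩, hmax⟩ := hQmax
  have hQ1 : Q ≠ ⊥ := by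
    rintro rfl
    have h1 : (c : S) ∈ (⊥ : Subgroup S) := hcQ (mem_zpowers _)
    rw [mem_bot] at h1
    rw [h1, orderOf_one] at hc'
    exact hp.one_lt.ne hc'
  have hfix := hQ Q hQp hQx
  have hfixinv : ∀ y ∈ Q, x.symm y = y := fun y hy => by
    rw [MulEquiv.symm_apply_eq]; exact (hfix y hy).symm
  obtain ⟨K, hK⟩ : ∃ K : Subgroup S, K = normalizer (Q : Set S) := ⟨_, rfl⟩
  have hchar := hloc Q hQp hQ1
  rw [← hK] at hchar
  have hQK : Q ≤ K := hK ▸ le_normalizer
  have hKn : ∀ k ∈ K, ∀ y : S, y ∈ Q ↔ k * y * k⁻¹ ∈ Q := by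
    intro k hk y
    rw [hK] at hk
    exact mem_normalizer_iff.1 hk y
  have key : ∀ k ∈ K, ∀ y ∈ Q, x k * y * (x k)⁻¹ = k * y * k⁻¹ := by
    intro k hk y hy
    have h1 : x (k * y * k⁻¹) = k * y * k⁻¹ := hfix _ ((hKn k hk y).1 hy)
    rw [map_mul, map_mul, map_inv, hfix y hy] at h1
    exact h1
  have hKx : ∀ k ∈ K, x k ∈ K := by
    intro k hk
    rw [hK]
    refine mem_normalizer_fintype fun y hy => ?_
    rw [key k hk y hy]
    exact (hKn k hk y).1 hy
  have hKxe : K.map x.toMonoidHom = K := hinv K hKx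
  let e : K ≃* K := (x.subgroupMap K).trans (MulEquiv.subgroupCongr hKxe)
  have he : ∀ k : K, ((e k : K) : S) = x k := fun k => rfl
  obtain ⟨V, hV⟩ : ∃ V : Subgroup S, V = (pCore p ↥K).map K.subtype := ⟨_, rfl⟩
  have hQV : Q ≤ V := by
    have h1 : (Q.subgroupOf K) ≤ pCore p ↥K := by
      refine Lib.Cores.le_pCore ?_ (hQp.comap_of_injective _ (subtype_injective _))
      refine ⟨fun y hy k => ?_⟩
      rw [mem_subgroupOf] at hy ⊢
      exact (hKn k k.2 y).1 hy
    intro y hy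
    rw [hV]
    exact ⟨⟨y, hQK hy⟩, h1 hy, rfl⟩
  have hVQ : V = Q := by
    refine le_antisymm (hmax ⟨?_, ?_⟩ hQV) hQV
    · rw [hV]
      exact (Lib.Cores.pCore_isPGroup p).map _
    · refine hinv V fun y hy => ?_
      rw [hV] at hy ⊢
      obtain ⟨k, hk, rfl⟩ := hy
      refine ⟨e k, ?_, he k⟩
      have h1 := Lib.Cores.map_equiv_pCore e p
      rw [← h1]
      exact ⟨k, hk, rfl⟩
  have hcent : ∀ k ∈ K, (∀ y ∈ Q, k * y * k⁻¹ = y) → k ∈ Q := by
    intro k hk h
    have h1 : (⟨k, hk⟩ : K) ∈ pCore p ↥K := by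
      apply hchar
      rw [mem_centralizer_iff]
      intro v hv
      have h2 : (v : S) ∈ Q := by
        rw [← hVQ, hV]
        exact ⟨v, hv, rfl⟩
      have h3 := h v h2
      apply Subtype.ext
      show (v : S) * k = k * v
      rw [mul_inv_eq_iff_eq_mul] at h3
      exact h3.symm
    rw [← hVQ, hV]
    exact ⟨_, h1, rfl⟩
  have hcomm : ∀ k ∈ K, k⁻¹ * x k ∈ Q := by
    intro k hk
    refine hcent _ (mul_mem (inv_mem hk) (hKx k hk)) fun y hy => ?_
    calc k⁻¹ * x k * y * (k⁻¹ * x k)⁻¹ = k⁻¹ * (x k * y * (x k)⁻¹) * k := by group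
      _ = y := by rw [key k hk y hy]; group
  obtain ⟨U, hU⟩ := hQp.exists_le_sylow
  have hUK : (U : Subgroup S) ⊓ K ≤ Q := by
    refine hmax ⟨U.isPGroup'.to_le inf_le_left, ?_⟩ (le_inf hU hQK)
    refine hinv _ fun y hy => ?_
    have h1 : x y = y * (y⁻¹ * x y) := by group
    refine ⟨?_, hKx y hy.2⟩
    rw [h1]
    exact mul_mem hy.1 (hU (hcomm y hy.2))
  have hQU : (U : Subgroup S) = Q := by
    by_contra hne
    have hnil : Group.IsNilpotent ↥(U : Subgroup S) := U.isPGroup'.isNilpotent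
    have h1 : Q.subgroupOf (U : Subgroup S) < ⊤ := by
      rw [lt_top_iff_ne_top]
      intro h2
      rw [subgroupOf_eq_top] at h2
      exact hne (le_antisymm h2 hU)
    obtain ⟨u, hu, huQ⟩ := SetLike.exists_of_lt (Group.normalizerCondition_of_isNilpotent _ h1)
    apply huQ
    rw [mem_subgroupOf]
    refine hUK ⟨u.2, ?_⟩
    rw [hK]
    refine mem_normalizer_fintype fun y hy => ?_
    have h3 := (mem_normalizer_iff.1 hu ⟨y, hU hy⟩).1 hy
    exact h3
  exact ⟨U, fun y hy => hfix y (hQU ▸ hy)⟩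

/-- An automorphism `x ≠ 1` of order prime to `p` that centralises every invariant `p`-subgroup of a simple group of
Lie type in characteristic `p` has a group of fixed points of order prime to `p`. -/
theorem not_dvd_fixed [IsSimpleGroup S] (hG : IsLieTypeChar p S) {x : MulAut S} (hx : ¬ p ∣ orderOf x) (hx1 : x ≠ 1)
    (hQ : ∀ Q : Subgroup S, IsPGroup p Q → Q.map x.toMonoidHom = Q → ∀ y ∈ Q, x y = y) :
    ¬ p ∣ Nat.card ↥(fixedSubgroup x) := by
  intro hd
  obtain ⟨U, hU⟩ := exists_sylow_fixed (H330.Gow.locChar_of_lie hG) hQ hd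
  exact hx1 (Cfsg.Agent.S4613.result p hG x hx U hU)

end Fixed

section Pi

variable {S : Type*} [Group S] [Finite S]

omit [Finite S] in
theorem order_dvd_of_mem {K : Subgroup S} {w : S} (hw : w ∈ K) : orderOf w ∣ Nat.card K := by
  rw [← orderOf_mk w hw]
  exact orderOf_dvd_natCard _

omit [Finite S] in
/-- a `p`-element of a `π`-subgroup, `p ∉ π`, is trivial -/
theorem eq_one_of_mem {p : ℕ} (hp : p.Prime) {π : Set ℕ} (hpπ : p ∉ π) {K : Subgroup S}
    (hK : IsPiSubgroup π K) {w : S} (hw : w ∈ K) {k : ℕ} (hk : w ^ p ^ k = 1) : w = 1 := by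
  obtain ⟨j, -, hj⟩ := (Nat.dvd_prime_pow hp).1 (orderOf_dvd_of_pow_eq_one hk)
  rcases Nat.eq_zero_or_pos j with rfl | hj0
  · rw [pow_zero] at hj
    exact orderOf_eq_one_iff.1 hj
  · exfalso
    refine hpπ (hK p hp (Dvd.dvd.trans ?_ (order_dvd_of_mem hw)))
    rw [hj]
    exact dvd_pow_self p hj0.ne'

/-- **Every nontrivial `p`-regular element is a `π`-element.** -/
theorem prime_mem_of_orderOf [IsSimpleGroup S] {p : ℕ} [Fact p.Prime] (hG : IsLieTypeChar p S) {π : Set ℕ}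
    (hpπ : p ∉ π) {A : Subgroup (MulAut S)} (hA : (MulAut.conj (G := S)).range ≤ A) {x : MulAut S} (hxA : x ∈ A)
    (hx1 : x ≠ 1) (hxp : ¬ p ∣ orderOf x)
    (hX : ∀ g ∈ A, IsPiSubgroup π (closure ({x, g * x * g⁻¹} : Set (MulAut S)))) {z : S} (hz : z ≠ 1)
    (hzp : ¬ p ∣ orderOf z) {r : ℕ} (hr : r.Prime) (hrz : r ∣ orderOf z) : r ∈ π := by
  classical
  have hp : p.Prime := Fact.out
  have hZ : center S = ⊥ := H400.LieLocal.center_eq_bot (H330.Gow.hasSplit_of_ab (H716.SplitAb.hasSplitAb_of_lie hp hG))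
  have hcinj := conj_injective hZ
  have hconj : ∀ s : S, (MulAut.conj s : MulAut S) ∈ A := fun s => hA ⟨s, rfl⟩
  have hmem1 : ∀ g : MulAut S, x⁻¹ * (g * x * g⁻¹) ∈ closure ({x, g * x * g⁻¹} : Set (MulAut S)) := fun g =>
    mul_mem (inv_mem (subset_closure (by simp))) (subset_closure (by simp))
  -- invariant `p`-subgroups are centralised
  have hQ : ∀ Q : Subgroup S, IsPGroup p Q → Q.map x.toMonoidHom = Q → ∀ y ∈ Q, x y = y := by
    intro Q hQp hQx y hy
    have h1 : x⁻¹ * (MulAut.conj y * x * (MulAut.conj y)⁻¹) = MulAut.conj (x⁻¹ y * y⁻¹) := by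
      have h2 := conj_mul_eq x⁻¹ y
      rw [inv_inv] at h2
      rw [map_mul, map_inv, ← h2]
      group
    have h3 : x⁻¹ y * y⁻¹ ∈ Q := by
      refine mul_mem ?_ (inv_mem hy)
      rw [← hQx] at hy
      obtain ⟨u, hu, hux⟩ := hy
      rw [← hux]
      have : (x⁻¹ : MulAut S) (x.toMonoidHom u) = u := MulAut.inv_apply_self _ x u
      rw [this]
      exact hu
    obtain ⟨k, hk⟩ := hQp ⟨_, h3⟩
    have h4 : (x⁻¹ y * y⁻¹) ^ p ^ k = 1 := by simpa using congrArg Subtype.val hk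
    have h5 := eq_one_of_mem hp hpπ (hX _ (hconj y)) (hmem1 (MulAut.conj y)) (k := k) (by
      rw [h1, ← map_pow, h4, map_one])
    rw [h1] at h5
    have h6 : x⁻¹ y * y⁻¹ = 1 := hcinj (h5.trans (map_one _).symm)
    have h7 : x⁻¹ y = y := mul_inv_eq_one.1 h6
    calc x y = x (x⁻¹ y) := by rw [h7]
      _ = y := MulAut.apply_inv_self _ x y
  have hfix := not_dvd_fixed hG hxp hx1 hQ
  -- the group `L = Inn(S) ⟨x⟩`
  obtain ⟨I, hI⟩ : ∃ I : Subgroup (MulAut S), I = (MulAut.conj (G := S)).range := ⟨_, rfl⟩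
  have hIn : I.Normal := by
    rw [hI]
    refine ⟨fun y hy g => ?_⟩
    obtain ⟨s, rfl⟩ := hy
    exact ⟨g s, (conj_mul_eq g s).symm⟩
  obtain ⟨L, hL⟩ : ∃ L : Subgroup (MulAut S), L = I ⊔ zpowers x := ⟨_, rfl⟩
  have hIL : I ≤ L := hL ▸ le_sup_left
  have hxL : x ∈ L := hL ▸ (le_sup_right (a := I)) (mem_zpowers x)
  have hLA : L ≤ A := by
    rw [hL, hI]
    refine sup_le hA ?_
    rw [zpowers_le]
    exact hxA
  let N : Subgroup L := I.subgroupOf L
  have hNn : N.Normal := hIn.subgroupOf L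
  let t : L := ⟨x, hxL⟩
  let eN : S ≃* N := ((MonoidHom.ofInjective hcinj).trans (MulEquiv.subgroupCongr hI.symm)).trans
    (subgroupOfEquivOfLe hIL).symm
  have heN : ∀ s : S, (((eN s : N) : L) : MulAut S) = MulAut.conj s := fun s => rfl
  have hgen : N ⊔ zpowers t = ⊤ := by
    rw [eq_top_iff]
    rintro ⟨y, hy⟩ -
    have hy' := hy
    rw [hL] at hy'
    have hy2 : y ∈ ((I ⊔ zpowers x : Subgroup (MulAut S)) : Set (MulAut S)) := hy'
    rw [normal_mul] at hy2
    obtain ⟨n, hn, w, hw, hnw⟩ := hy2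
    obtain ⟨i, rfl⟩ := mem_zpowers_iff.1 hw
    have h1 : (⟨y, hy⟩ : L) = ⟨n, hIL hn⟩ * t ^ i := by
      apply Subtype.ext
      exact hnw.symm
    rw [h1]
    exact mul_mem (mem_sup_left (by exact hn)) (mem_sup_right (zpow_mem (mem_zpowers t) i))
  have ht : ¬ p ∣ Nat.card ↥(centralizer ({t} : Set L)) := by
    intro hd
    obtain ⟨c, hc⟩ := exists_prime_orderOf_dvd_card' p hd
    have hct := mem_centralizer_singleton_iff.1 c.2
    obtain ⟨n, hn, i, hni⟩ := CosetGow.exists_zpow N hgen (c : L)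
    have hcN : (c : L) ∈ N := by
      rw [← QuotientGroup.eq_one_iff, ← orderOf_eq_one_iff, ← Nat.dvd_one]
      have hcop : Nat.gcd p (orderOf x) = 1 := (Nat.Prime.coprime_iff_not_dvd hp).2 hxp
      rw [← hcop]
      refine Nat.dvd_gcd ?_ ?_
      · refine orderOf_dvd_of_pow_eq_one ?_
        have h1 : (c : L) ^ p = 1 := by
          rw [← SubmonoidClass.coe_pow, ← hc, pow_orderOf_eq_one, OneMemClass.coe_one]
        rw [← QuotientGroup.mk_pow, h1, QuotientGroup.mk_one]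
      · refine orderOf_dvd_of_pow_eq_one ?_
        have h1 : t ^ orderOf x = 1 := by
          apply Subtype.ext
          exact pow_orderOf_eq_one x
        rw [← hni, QuotientGroup.mk_mul, (QuotientGroup.eq_one_iff n).2 hn, one_mul, QuotientGroup.mk_zpow,
          ← zpow_natCast, ← zpow_mul, mul_comm, zpow_mul, zpow_natCast, ← QuotientGroup.mk_pow, h1,
          QuotientGroup.mk_one, one_zpow]
    obtain ⟨s, hs⟩ := eN.surjective ⟨c, hcN⟩
    have hsc : MulAut.conj s = ((c : L) : MulAut S) := by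
      rw [← heN s, hs]
    apply hfix
    have hxs : x s = s := by
      apply hcinj
      rw [← conj_mul_eq, hsc]
      have h1 := congrArg (Subtype.val : L → MulAut S) hct
      have h2 : ((c : L) : MulAut S) * x = x * ((c : L) : MulAut S) := h1
      rw [← h2]
      group
    have hos : orderOf s = p := by
      rw [← orderOf_injective _ hcinj s, hsc, orderOf_coe, orderOf_coe, hc]
    rw [← hos]
    exact order_dvd_of_mem (K := fixedSubgroup x) hxs
  have hred : ∀ g h : L, ((g * t⁻¹ * g⁻¹ * (h * t * h⁻¹) : L) : MulAut S) =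
      (g : MulAut S) * (x⁻¹ * (((g⁻¹ * h : L) : MulAut S) * x * ((g⁻¹ * h : L) : MulAut S)⁻¹)) * (g : MulAut S)⁻¹ := by
    intro g h
    simp only [MulMemClass.coe_mul, InvMemClass.coe_inv]
    show (g : MulAut S) * x⁻¹ * (g : MulAut S)⁻¹ * ((h : MulAut S) * x * (h : MulAut S)⁻¹) = _
    group
  have hU : ∀ g h : L, (∃ k : ℕ, (g * t⁻¹ * g⁻¹ * (h * t * h⁻¹)) ^ p ^ k = 1) →
      g * t⁻¹ * g⁻¹ * (h * t * h⁻¹) = 1 := by
    rintro g h ⟨k, hk⟩
    have h1 := congrArg (Subtype.val : L → MulAut S) hk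
    rw [SubmonoidClass.coe_pow, hred, conj_pow, OneMemClass.coe_one, conj_eq_one_iff] at h1
    have h2 := eq_one_of_mem hp hpπ (hX _ (hLA (g⁻¹ * h).2)) (hmem1 _) h1
    apply Subtype.ext
    rw [hred, h2]
    simp
  have hNlie : IsLieTypeChar p N := Cfsg.Agent.OddHalf.Known.isLieTypeChar_congr eN hG
  have hNs : IsSimpleGroup N := H400.LieSimple.isSimple_of_lie hNlie
  have hS := H716.SplitAb.hasSplitAb_of_lie hp hNlie
  obtain ⟨g, h, hgh⟩ := CosetGow.coset_gow N hS (H330.Gow.locChar_of_lie hNlie)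
    (H400.LieLocal.center_eq_bot (H330.Gow.hasSplit_of_ab hS))
    (H330.Gow.perfect_of_split (H330.Gow.hasSplit_of_ab hS)) hgen ht hU (z := eN z)
    (by rwa [Ne, map_eq_one_iff eN eN.injective]) (by rwa [MulEquiv.orderOf_eq])
  have h1 := congrArg (Subtype.val : L → MulAut S) hgh
  rw [hred, heN] at h1
  have h2 : orderOf z = orderOf (x⁻¹ * (((g⁻¹ * h : L) : MulAut S) * x * ((g⁻¹ * h : L) : MulAut S)⁻¹)) := by
    rw [← orderOf_injective _ hcinj z, ← h1]
    exact MulEquiv.orderOf_eq (MulAut.conj (g : MulAut S)) _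
  exact hX _ (hLA (g⁻¹ * h).2) r hr (hrz.trans (h2 ▸ order_dvd_of_mem (hmem1 _)))

/-- **`π` contains every prime divisor of the order of `S` other than `p`.** -/
theorem prime_mem [IsSimpleGroup S] {p : ℕ} [Fact p.Prime] (hG : IsLieTypeChar p S) {π : Set ℕ}
    (hpπ : p ∉ π) {A : Subgroup (MulAut S)} (hA : (MulAut.conj (G := S)).range ≤ A) {x : MulAut S} (hxA : x ∈ A)
    (hx1 : x ≠ 1) (hxp : ¬ p ∣ orderOf x)
    (hX : ∀ g ∈ A, IsPiSubgroup π (closure ({x, g * x * g⁻¹} : Set (MulAut S)))) {r : ℕ} (hr : r.Prime)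
    (hrS : r ∣ Nat.card S) (hrp : r ≠ p) : r ∈ π := by
  have : Fact r.Prime := ⟨hr⟩
  obtain ⟨z, hz⟩ := exists_prime_orderOf_dvd_card' r hrS
  refine prime_mem_of_orderOf hG hpπ hA hxA hx1 hxp hX (z := z) ?_ ?_ hr hz.symm.dvd
  · rintro rfl
    rw [orderOf_one] at hz
    exact hr.one_lt.ne hz
  · rw [hz]
    intro h
    exact hrp ((Nat.prime_dvd_prime_iff_eq Fact.out hr).1 h).symm

end Pi

end Cfsg.Agent.H836.CosetPi
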