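import Mathlib
import Cfsg.Prelude.Def_Transfer

/-!
# The Thompson subgroup when there is only one elementary abelian subgroup of maximal order (helper836)

`JData T n m E` : `E` elementary abelian of order `2 ^ n`, generated by its `m` members of `T`, `N(E)` transitive on them,
`|G : N(E)|` odd, `T ∩ N(E) ⊆ E`, and `E` the only elementary abelian subgroup of order `≥ 2 ^ n` of `N(E)`.
* `thompson_eq` : `J(S) = E` if `E ≤ S` is the only elementary abelian subgroup of `S` of order `≥ |E|`;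
* `JData.exists_sylow` : every Sylow 2-subgroup `P` has such an `E ≤ P ≤ N(E)`;
* `JData.thompson` : `J(P) = ⟨T ∩ P⟩`;
* `JData.centralizer` : the Thompson subgroup of a Sylow 2-subgroup of `C(d)`, `d ∈ T`.
-/

set_option autoImplicit false

namespace Cfsg.Agent.H836.Thompson

open Subgroup

universe u v

theorem mulComm_of_sq {X : Type u} [Group X] {E : Subgroup X} (hE : ∀ x ∈ E, x * x = 1) :
    ∀ x ∈ E, ∀ y ∈ E, x * y = y * x := by
  intro x hx y hy
  have h1 := hE _ (mul_mem hx hy)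
  have hxi : x⁻¹ = x := inv_eq_of_mul_eq_one_left (hE x hx)
  have hyi : y⁻¹ = y := inv_eq_of_mul_eq_one_left (hE y hy)
  have h2 : (x * y)⁻¹ = x * y := inv_eq_of_mul_eq_one_left h1
  rw [mul_inv_rev, hxi, hyi] at h2
  exact h2.symm

theorem elementary_iff {X : Type u} [Group X] {E : Subgroup X} :
    Cfsg.IsElementaryAbelian 2 E ↔ ∀ x ∈ E, x * x = 1 := by
  constructor
  · rintro ⟨-, h⟩ x hx
    rw [← pow_two]; exact h x hx
  · intro h
    refine ⟨⟨⟨fun x y => Subtype.ext (mulComm_of_sq h x x.2 y y.2)⟩⟩, fun a ha => ?_⟩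
    rw [pow_two]; exact h a ha

/-- **`J(S) = E`** -/
theorem thompson_eq {X : Type u} [Group X] [Finite X] {S E : Subgroup X} (hES : E ≤ S)
    (hE : ∀ x ∈ E, x * x = 1)
    (huniq : ∀ B : Subgroup X, B ≤ S → (∀ x ∈ B, x * x = 1) → Nat.card E ≤ Nat.card B → B = E) :
    Cfsg.thompsonSubgroupOf 2 S = E := by
  have hcard : Nat.card ↥(E.subgroupOf S) = Nat.card ↥E :=
    Nat.card_congr (subgroupOfEquivOfLe hES).toEquiv
  have hmapc : ∀ B : Subgroup ↥S, Nat.card ↥(B.map S.subtype) = Nat.card ↥B := fun B =>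
    (Nat.card_congr (B.equivMapOfInjective _ S.subtype_injective).toEquiv).symm
  have key : ∀ B : Subgroup ↥S, Cfsg.IsElementaryAbelian 2 B → Nat.card E ≤ Nat.card B → B = E.subgroupOf S := by
    intro B hB hle
    have h1 : B.map S.subtype = E := by
      apply huniq _ (map_subtype_le B)
      · rintro _ ⟨x, hx, rfl⟩
        exact congrArg Subtype.val (elementary_iff.1 hB x hx)
      · rw [hmapc]; exact hle
    rw [← h1]
    exact (comap_map_eq_self_of_injective S.subtype_injective B).symm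
  have hEl : Cfsg.IsElementaryAbelian 2 (E.subgroupOf S) := by
    rw [elementary_iff]
    intro x hx
    exact Subtype.ext (hE x (mem_subgroupOf.1 hx))
  have hset : Cfsg.maxElementaryAbelianSubgroups 2 ↥S = {E.subgroupOf S} := by
    ext A
    constructor
    · rintro ⟨h1, h2⟩
      exact key A h1 (by rw [← hcard]; exact h2 _ hEl)
    · rintro rfl
      refine ⟨hEl, fun B hB => ?_⟩
      by_contra hlt
      rw [not_le, hcard] at hlt
      have h1 := key B hB hlt.le
      rw [h1, hcard] at hlt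
      exact lt_irrefl _ hlt
  unfold Cfsg.thompsonSubgroupOf Cfsg.thompsonSubgroup
  rw [hset, sSup_singleton, subgroupOf_map_subtype]
  exact inf_eq_left.2 hES

/-- see the file docstring -/
structure JData {K : Type u} [Group K] (T : Set K) (n m : ℕ) (E : Subgroup K) : Prop where
  sq : ∀ x ∈ E, x * x = 1
  card : Nat.card E = 2 ^ n
  ncard : {x | x ∈ E ∧ x ∈ T}.ncard = m
  gen : closure {x | x ∈ T ∧ x ∈ E} = E
  conj : ∀ x ∈ T, ∀ g : K, g * x * g⁻¹ ∈ T
  normT : ∀ x ∈ T, x ∈ normalizer (E : Set K) → x ∈ E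
  uniq : ∀ B : Subgroup K, B ≤ normalizer (E : Set K) → (∀ x ∈ B, x * x = 1) → 2 ^ n ≤ Nat.card B → B = E
  trans : ∀ x ∈ E, ∀ y ∈ E, x ∈ T → y ∈ T → ∃ g ∈ normalizer (E : Set K), g * x * g⁻¹ = y
  odd : ¬ 2 ∣ (normalizer (E : Set K)).index

namespace JData

variable {K : Type u} [Group K] {T : Set K} {n m : ℕ} {E : Subgroup K}

/-- transport along an isomorphism -/
theorem map {K' : Type v} [Group K'] (f : K ≃* K') (J : JData T n m E) :
    JData (f '' T) n m (E.map f.toMonoidHom) := by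
  have hmem : ∀ x : K, f x ∈ E.map f.toMonoidHom ↔ x ∈ E := by
    intro x
    constructor
    · rintro ⟨y, hy, hxy⟩
      rwa [← f.injective hxy]
    · exact fun h => ⟨x, h, rfl⟩
  have hmemT : ∀ x : K, f x ∈ f '' T ↔ x ∈ T := by
    intro x
    constructor
    · rintro ⟨y, hy, hxy⟩
      rwa [← f.injective hxy]
    · exact fun h => ⟨x, h, rfl⟩
  have hnorm : (normalizer (E : Set K)).map f.toMonoidHom = normalizer ((E.map f.toMonoidHom : Subgroup K') : Set K') := by
    exact map_equiv_normalizer_eq E f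
  have hmemN : ∀ x : K, f x ∈ normalizer ((E.map f.toMonoidHom : Subgroup K') : Set K') ↔ x ∈ normalizer (E : Set K) := by
    intro x
    rw [← hnorm]
    constructor
    · rintro ⟨y, hy, hxy⟩
      rwa [← f.injective hxy]
    · exact fun h => ⟨x, h, rfl⟩
  refine { sq := ?_, card := ?_, ncard := ?_, gen := ?_, conj := ?_, normT := ?_, uniq := ?_, trans := ?_, odd := ?_ }
  · rintro _ ⟨x, hx, rfl⟩
    show f x * f x = 1
    rw [← map_mul, J.sq x hx, map_one]
  · rw [← J.card]
    exact (Nat.card_congr (E.equivMapOfInjective _ f.injective).toEquiv).symm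
  · rw [← J.ncard, ← Set.ncard_image_of_injective _ f.injective]
    congr 1
    ext y
    constructor
    · rintro ⟨h1, h2⟩
      obtain ⟨x, rfl⟩ := f.surjective y
      exact ⟨x, ⟨(hmem x).1 h1, (hmemT x).1 h2⟩, rfl⟩
    · rintro ⟨x, ⟨h1, h2⟩, rfl⟩
      exact ⟨(hmem x).2 h1, (hmemT x).2 h2⟩
  · have h1 : {x | x ∈ f '' T ∧ x ∈ E.map f.toMonoidHom} = f.toMonoidHom '' {x | x ∈ T ∧ x ∈ E} := by
      ext y
      constructor
      · rintro ⟨h1, h2⟩
        obtain ⟨x, rfl⟩ := f.surjective y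
        exact ⟨x, ⟨(hmemT x).1 h1, (hmem x).1 h2⟩, rfl⟩
      · rintro ⟨x, ⟨h1, h2⟩, rfl⟩
        exact ⟨(hmemT x).2 h1, (hmem x).2 h2⟩
    rw [h1, ← MonoidHom.map_closure, J.gen]
  · rintro _ ⟨x, hx, rfl⟩ g
    obtain ⟨g, rfl⟩ := f.surjective g
    exact ⟨g * x * g⁻¹, J.conj x hx g, by rw [map_mul, map_mul, map_inv]⟩
  · rintro _ ⟨x, hx, rfl⟩ hn
    exact (hmem x).2 (J.normT x hx ((hmemN x).1 hn))
  · intro B hB h2 hc
    have hBe : (B.comap f.toMonoidHom).map f.toMonoidHom = B :=
      map_comap_eq_self_of_surjective f.surjective B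
    have h1 : B.comap f.toMonoidHom = E := by
      apply J.uniq
      · intro x hx
        exact (hmemN x).1 (hB hx)
      · intro x hx
        apply f.injective
        rw [map_mul, map_one]
        exact h2 _ hx
      · rw [← hBe] at hc
        refine hc.trans (le_of_eq ?_)
        exact (Nat.card_congr ((B.comap f.toMonoidHom).equivMapOfInjective _ f.injective).toEquiv).symm
    rw [← hBe, h1]
  · intro x hx y hy hxT hyT
    obtain ⟨x, rfl⟩ := f.surjective x
    obtain ⟨y, rfl⟩ := f.surjective y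
    obtain ⟨g, hg, h⟩ := J.trans x ((hmem x).1 hx) y ((hmem y).1 hy) ((hmemT x).1 hxT) ((hmemT y).1 hyT)
    exact ⟨f g, (hmemN g).2 hg, by rw [← map_mul, ← map_inv, ← map_mul, h]⟩
  · rw [← hnorm]
    have h1 : ((normalizer (E : Set K)).map f.toMonoidHom).index = (normalizer (E : Set K)).index := by
      exact index_map_equiv _ f
    rw [h1]
    exact J.odd

/-- conjugates -/
theorem conj_map (J : JData T n m E) (g : K) : JData T n m (E.map (MulAut.conj g).toMonoidHom) := by
  have h := J.map (MulAut.conj g)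
  have h1 : (MulAut.conj g) '' T = T := by
    ext x
    constructor
    · rintro ⟨y, hy, rfl⟩
      exact J.conj y hy g
    · intro hx
      exact ⟨g⁻¹ * x * g, by simpa using J.conj x hx g⁻¹, by simp [mul_assoc]⟩
  rw [h1] at h
  exact h

/-- a Sylow 2-subgroup inside `N(E)` -/
theorem exists_sylow_aux [Finite K] (J : JData T n m E) :
    ∃ P0 : Sylow 2 K, E ≤ (P0 : Subgroup K) ∧ (P0 : Subgroup K) ≤ normalizer (E : Set K) := by
  have : Fact (Nat.Prime 2) := ⟨Nat.prime_two⟩
  obtain ⟨Q⟩ : Nonempty (Sylow 2 ↥(normalizer (E : Set K))) := inferInstance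
  have h1 : IsPGroup 2 ↥((Q : Subgroup ↥(normalizer (E : Set K))).map (normalizer (E : Set K)).subtype) :=
    Q.isPGroup'.map _
  have h2 : ¬ 2 ∣ ((Q : Subgroup ↥(normalizer (E : Set K))).map (normalizer (E : Set K)).subtype).index := by
    rw [index_map_subtype]
    intro h
    rcases (Nat.Prime.dvd_mul Nat.prime_two).1 h with h | h
    · exact Q.not_dvd_index h
    · exact J.odd h
  have hEN : E ≤ normalizer (E : Set K) := le_normalizer
  have hE2 : IsPGroup 2 ↥E := by
    intro x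
    refine ⟨1, Subtype.ext ?_⟩
    show (x : K) ^ 2 ^ 1 = 1
    rw [pow_one, pow_two]
    exact J.sq x x.2
  have h3 : IsPGroup 2 ↥(E.subgroupOf (normalizer (E : Set K))) :=
    hE2.of_equiv (subgroupOfEquivOfLe hEN).symm
  have h4 : E.subgroupOf (normalizer (E : Set K)) ≤ (Q : Subgroup _) := by
    have : (E.subgroupOf (normalizer (E : Set K))).Normal := normal_in_normalizer
    exact h3.le_sylow_of_normal Q
  refine ⟨h1.toSylow h2, ?_, ?_⟩
  · rw [IsPGroup.toSylow_coe]
    intro x hx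
    exact ⟨⟨x, hEN hx⟩, h4 (mem_subgroupOf.2 hx), rfl⟩
  · rw [IsPGroup.toSylow_coe]
    exact map_subtype_le _

/-- **every Sylow 2-subgroup contains and normalises a conjugate of `E`** -/
theorem exists_sylow' [Finite K] (J : JData T n m E) (P : Sylow 2 K) :
    ∃ g : K, JData T n m (E.map (MulAut.conj g).toMonoidHom) ∧ E.map (MulAut.conj g).toMonoidHom ≤ (P : Subgroup K) ∧
      (P : Subgroup K) ≤ normalizer ((E.map (MulAut.conj g).toMonoidHom : Subgroup K) : Set K) := by
  have : Fact (Nat.Prime 2) := ⟨Nat.prime_two⟩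
  obtain ⟨P0, h1, h2⟩ := J.exists_sylow_aux
  obtain ⟨g, hg⟩ := MulAction.exists_smul_eq K P0 P
  have hP : (P : Subgroup K) = (P0 : Subgroup K).map (MulAut.conj g).toMonoidHom := by
    rw [← hg, Sylow.coe_subgroup_smul]
    rfl
  refine ⟨g, J.conj_map g, ?_, ?_⟩
  · rw [hP]; exact Subgroup.map_mono h1
  · have h3 : (P0 : Subgroup K).map (MulAut.conj g).toMonoidHom ≤ (normalizer (E : Set K)).map (MulAut.conj g).toMonoidHom :=
      Subgroup.map_mono h2
    rw [hP]
    exact h3.trans (map_equiv_normalizer_eq E (MulAut.conj g)).le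

theorem exists_sylow [Finite K] (J : JData T n m E) (P : Sylow 2 K) :
    ∃ E' : Subgroup K, JData T n m E' ∧ E' ≤ (P : Subgroup K) ∧ (P : Subgroup K) ≤ normalizer (E' : Set K) := by
  obtain ⟨g, h⟩ := J.exists_sylow' P
  exact ⟨_, h⟩

/-- **`J(P) = ⟨T ∩ P⟩`** -/
theorem thompson [Finite K] (J : JData T n m E) (P : Sylow 2 K) :
    Cfsg.thompsonSubgroupOf 2 (P : Subgroup K) = closure {x | x ∈ T ∧ x ∈ (P : Subgroup K)} := by
  obtain ⟨E', J', h1, h2⟩ := J.exists_sylow P
  have h3 : Cfsg.thompsonSubgroupOf 2 (P : Subgroup K) = E' :=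
    thompson_eq h1 J'.sq (fun B hB h h' => J'.uniq B (hB.trans h2) h (by rw [← J'.card]; exact h'))
  have h4 : {x | x ∈ T ∧ x ∈ (P : Subgroup K)} = {x | x ∈ T ∧ x ∈ E'} := by
    ext x
    constructor
    · rintro ⟨ha, hb⟩
      exact ⟨ha, J'.normT x ha (h2 hb)⟩
    · rintro ⟨ha, hb⟩
      exact ⟨ha, h1 hb⟩
  rw [h3, h4, J'.gen]

theorem mem_sylow_centralizer {K : Type u} [Group K] {d : K} (hdd : d * d = 1)
    (hdC : d ∈ Subgroup.centralizer ({d} : Set K))
    (S : Sylow 2 ↥(Subgroup.centralizer ({d} : Set K))) :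
    (⟨d, hdC⟩ : ↥(Subgroup.centralizer ({d} : Set K))) ∈ (S : Subgroup ↥(Subgroup.centralizer ({d} : Set K))) := by
  have hn : (zpowers (⟨d, hdC⟩ : ↥(Subgroup.centralizer ({d} : Set K)))).Normal := by
    refine ⟨fun x hx g => ?_⟩
    have h1 : g * x * g⁻¹ = x := by
      obtain ⟨k, rfl⟩ := mem_zpowers_iff.1 hx
      have hc : Commute g ⟨d, hdC⟩ := Subtype.ext (mem_centralizer_singleton_iff.1 g.2)
      rw [(hc.zpow_right k).eq, mul_inv_cancel_right]
    rw [h1]; exact hx
  have hp : IsPGroup 2 ↥(zpowers (⟨d, hdC⟩ : ↥(Subgroup.centralizer ({d} : Set K)))) := by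
    rintro ⟨x, hx⟩
    obtain ⟨k, rfl⟩ := mem_zpowers_iff.1 hx
    refine ⟨1, Subtype.ext ?_⟩
    show ((⟨d, hdC⟩ : ↥(Subgroup.centralizer ({d} : Set K))) ^ k) ^ 2 ^ 1 = 1
    have h2 : (⟨d, hdC⟩ : ↥(Subgroup.centralizer ({d} : Set K))) ^ 2 = 1 := by
      apply Subtype.ext
      show d ^ 2 = 1
      rw [pow_two, hdd]
    rw [pow_one, ← zpow_natCast, zpow_comm, zpow_natCast, h2, one_zpow]
  exact hp.le_sylow_of_normal S (mem_zpowers _)

/-- **the Thompson subgroup of a Sylow 2-subgroup of `C(d)`, `d ∈ T`** -/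
theorem centralizer [Finite K] (J : JData T n m E) {d : K} (hd : d ∈ T) (hdd : d * d = 1)
    (S : Sylow 2 ↥(Subgroup.centralizer ({d} : Set K))) :
    JData T n m ((Cfsg.thompsonSubgroupOf 2 (S : Subgroup ↥(Subgroup.centralizer ({d} : Set K)))).map
      (Subgroup.centralizer ({d} : Set K)).subtype) := by
  have : Fact (Nat.Prime 2) := ⟨Nat.prime_two⟩
  have hdC : d ∈ Subgroup.centralizer ({d} : Set K) := mem_centralizer_singleton_iff.2 rfl
  have hdS := mem_sylow_centralizer hdd hdC S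
  obtain ⟨P, hP⟩ := (S.isPGroup'.map (Subgroup.centralizer ({d} : Set K)).subtype).exists_le_sylow
  obtain ⟨E', J', h1, h2⟩ := J.exists_sylow P
  have hdP : d ∈ (P : Subgroup K) := hP ⟨⟨d, hdC⟩, hdS, rfl⟩
  have hdE : d ∈ E' := J'.normT d hd (h2 hdP)
  have hE'C : E' ≤ Subgroup.centralizer ({d} : Set K) := by
    intro x hx
    rw [mem_centralizer_singleton_iff]
    exact mulComm_of_sq J'.sq x hx d hdE
  -- `E' ≤ S`
  have hE'S : E'.subgroupOf (Subgroup.centralizer ({d} : Set K)) ≤ (S : Subgroup _) := by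
    have h3 : (S : Subgroup _) ≤ (P : Subgroup K).subgroupOf (Subgroup.centralizer ({d} : Set K)) := by
      intro x hx
      exact mem_subgroupOf.2 (hP ⟨x, hx, rfl⟩)
    have h4 : IsPGroup 2 ↥((P : Subgroup K).subgroupOf (Subgroup.centralizer ({d} : Set K))) :=
      P.isPGroup'.comap_subtype
    have h5 := S.is_maximal' h4 h3
    rw [← h5]
    exact comap_mono h1
  have h6 : Cfsg.thompsonSubgroupOf 2 (S : Subgroup ↥(Subgroup.centralizer ({d} : Set K))) =
      E'.subgroupOf (Subgroup.centralizer ({d} : Set K)) := by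
    have hcard : Nat.card ↥(E'.subgroupOf (Subgroup.centralizer ({d} : Set K))) = 2 ^ n := by
      rw [← J'.card]
      exact Nat.card_congr (subgroupOfEquivOfLe hE'C).toEquiv
    refine thompson_eq hE'S (fun x hx => Subtype.ext (J'.sq _ (mem_subgroupOf.1 hx))) ?_
    intro B hB hs hle
    rw [hcard] at hle
    have h7 : B.map (Subgroup.centralizer ({d} : Set K)).subtype = E' := by
      apply J'.uniq
      · refine le_trans ?_ h2
        exact le_trans (Subgroup.map_mono hB) hP
      · rintro _ ⟨x, hx, rfl⟩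
        exact congrArg Subtype.val (hs x hx)
      · refine hle.trans (le_of_eq ?_)
        exact Nat.card_congr (B.equivMapOfInjective _ (Subgroup.centralizer ({d} : Set K)).subtype_injective).toEquiv
    rw [← h7]
    exact (comap_map_eq_self_of_injective (Subgroup.centralizer ({d} : Set K)).subtype_injective B).symm
  rw [h6, subgroupOf_map_subtype, inf_eq_left.2 hE'C]
  exact J'

/-- the form of S5454, S5455 -/
theorem final [Finite K] {d : K} (J : JData {x | IsConj d x} n m E) (hdd : d * d = 1)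
    (S : Sylow 2 ↥(Subgroup.centralizer ({d} : Set K))) (A : Subgroup K)
    (hA : A = (Cfsg.thompsonSubgroupOf 2 (S : Subgroup ↥(Subgroup.centralizer ({d} : Set K)))).map
      (Subgroup.centralizer ({d} : Set K)).subtype) :
    Cfsg.IsElementaryAbelian 2 A ∧ Nat.card A = 2 ^ n ∧ Set.ncard {x : K | x ∈ A ∧ IsConj d x} = m ∧
      ∀ x ∈ A, ∀ y ∈ A, IsConj d x → IsConj d y → ∃ n ∈ Subgroup.normalizer (A : Set K), n * x * n⁻¹ = y := by
  have J' := J.centralizer (IsConj.refl d) hdd S
  rw [← hA] at J'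
  exact ⟨elementary_iff.2 J'.sq, J'.card, J'.ncard, fun x hx y hy h1 h2 => J'.trans x hx y hy h1 h2⟩

end JData

end Cfsg.Agent.H836.Thompson
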