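import Cfsg.Agent.KFacts.FiTTh.BasInv
import Cfsg.Agent.R08.FiTwentyThree
import Cfsg.Agent.H836.Thompson

/-!
# `Fi23`: the group `A = 2¹¹` and its 23 transpositions (helper836)

`jdata : JData D 11 23 (A e)` : see `H836/Thompson.lean`.
-/

set_option autoImplicit false

namespace Cfsg.Agent.H836.JFi23

open Subgroup Cfsg Cfsg.Spor
open Cfsg.Agent.KFacts.FiTTh Cfsg.Agent.KFacts.FiTTh.BasDef
open Cfsg.Agent.Fischer.Fi23Z (z0)
open Cfsg.Agent.R08.FiTwentyThree (D sq_D ne_one_D conj_mem_D isThreeTranspositionClass z0_mem_D finite_fi23)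

theorem e_mem (i : ZMod 23) : BasFi.e (some i) ∈ D := by
  obtain ⟨g, -, h⟩ := BasFi.exists_e i
  exact isConj_iff.2 ⟨g, h⟩

theorem mem_A {x : Fi23} (hx : x ∈ D) (hA : x ∈ A BasFi.e) : ∃ i : ZMod 23, x = BasFi.e (some i) := by
  obtain ⟨g, rfl⟩ := isConj_iff.1 (show IsConj z0 x from hx)
  rw [← BasFi.e_z] at hA
  obtain ⟨q, hq⟩ := BasInv.base.nrm g _ hA
  rw [BasFi.e_z] at hq
  rcases q with _ | i
  · exfalso
    rw [BasInv.base.zero] at hq
    exact ne_one_D hx hq
  · exact ⟨i, hq⟩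

theorem set_eq : {x | x ∈ A BasFi.e ∧ x ∈ D} = Set.range fun i : ZMod 23 => BasFi.e (some i) := by
  ext x
  constructor
  · rintro ⟨h1, h2⟩
    obtain ⟨i, rfl⟩ := mem_A h2 h1
    exact ⟨i, rfl⟩
  · rintro ⟨i, rfl⟩
    exact ⟨BasDef.mem_A _ _, e_mem i⟩

theorem closure_eq : closure {x | x ∈ D ∧ x ∈ A BasFi.e} = A BasFi.e := by
  apply le_antisymm
  · rw [closure_le]
    exact fun x hx => hx.2
  · unfold A
    rw [closure_le]
    rintro _ ⟨p, rfl⟩
    rcases p with _ | i
    · rw [BasInv.base.zero]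
      exact one_mem _
    · exact subset_closure ⟨e_mem i, BasDef.mem_A _ _⟩

/-- a transposition normalising a set of pairwise commuting involutions centralises it -/
theorem comm_of_norm {x y : Fi23} (hx : x ∈ D) (hy : y ∈ D) (hc : y * (x * y * x⁻¹) = (x * y * x⁻¹) * y) :
    x * y = y * x := by
  have hxx := sq_D hx
  have hyy := sq_D hy
  have hxi : x⁻¹ = x := inv_eq_of_mul_eq_one_left hxx
  rw [hxi] at hc
  have h4 : (x * y) * (x * y) * ((x * y) * (x * y)) = 1 := by
    calc (x * y) * (x * y) * ((x * y) * (x * y)) = ((x * y * x) * y) * ((x * y * x) * y) := by simp only [mul_assoc]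
      _ = (y * (x * y * x)) * ((x * y * x) * y) := by rw [← hc]
      _ = y * (x * (y * (x * x) * y) * x) * y := by simp only [mul_assoc]
      _ = 1 := by rw [hxx, mul_one, hyy, mul_one, hxx, mul_one, hyy]
  rcases isThreeTranspositionClass.1.2 x hx y hy with h | h
  · rw [pow_two] at h
    have h5 : (x * y)⁻¹ = x * y := inv_eq_of_mul_eq_one_left h
    rw [mul_inv_rev, hxi, inv_eq_of_mul_eq_one_left hyy] at h5
    exact h5.symm
  · have h6 : x * y = 1 := by
      have h7 : (x * y) ^ 4 = 1 := by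
        rw [← h4, pow_succ, pow_succ, pow_two]
        simp only [mul_assoc]
      rw [pow_succ, h, one_mul] at h7
      exact h7
    have h8 : x = y := by
      have := congrArg (· * y) h6
      simpa [mul_assoc, hyy] using this
    rw [h8]

theorem normT {x : Fi23} (hx : x ∈ D) (hn : x ∈ normalizer (A BasFi.e : Set Fi23)) : x ∈ A BasFi.e := by
  apply BasInv.base.cen
  intro p
  rcases p with _ | i
  · rw [BasInv.base.zero, mul_one, one_mul]
  · apply comm_of_norm hx (e_mem i)
    exact BasInv.base.comm' (BasDef.mem_A _ _) ((mem_normalizer_iff.1 hn _).1 (BasDef.mem_A _ _))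

theorem trans {x y : Fi23} (hx : x ∈ A BasFi.e) (hy : y ∈ A BasFi.e) (hxD : x ∈ D) (hyD : y ∈ D) :
    ∃ g ∈ normalizer (A BasFi.e : Set Fi23), g * x * g⁻¹ = y := by
  obtain ⟨i, rfl⟩ := mem_A hxD hx
  obtain ⟨j, rfl⟩ := mem_A hyD hy
  obtain ⟨m, hm⟩ := BasCode.exists_map_emb (n := 2) (by norm_num)
    ⟨![none, some i], by
      intro x y
      fin_cases x <;> fin_cases y <;> simp⟩
    ⟨![none, some j], by
      intro x y
      fin_cases x <;> fin_cases y <;> simp⟩
  have m0 : (m : Equiv.Perm GolayPt) none = none := hm 0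
  have m1 : (m : Equiv.Perm GolayPt) (some i) = some j := hm 1
  obtain ⟨n, hn⟩ := BasInv.base.full m (BasDef.mem_M23.2 ⟨m.2, m0⟩)
  exact ⟨n, Base.mem_normalizer_of hn, by rw [hn, m1]⟩

/-- **`A = 2¹¹` in `Fi23`** -/
theorem jdata : Thompson.JData D 11 23 (A BasFi.e) where
  sq := fun _ hx => BasInv.base.sq_A hx
  card := BasInv.base.cardA
  ncard := by
    rw [set_eq, ← Set.image_univ, Set.ncard_image_of_injective, Set.ncard_univ]
    · simp
    · intro i j h
      exact Option.some_injective _ (BasInv.base.inj h)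
  gen := closure_eq
  conj := fun _ hx g => conj_mem_D hx g
  normT := fun _ hx hn => normT hx hn
  uniq := fun _ hB h2 hc => by
    have := BasInv.finite
    exact BasInv.loc.eq_of hB h2 hc
  trans := fun _ hx _ hy h1 h2 => trans hx hy h1 h2
  odd := BasInv.hodd

end Cfsg.Agent.H836.JFi23
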