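import Cfsg.Agent.H836.Descend
import Cfsg.Agent.H836.JFi23
import Cfsg.Agent.R08.FlagData

/-!
# `Fi22`: the group `2¹⁰` and its 22 transpositions (helper836)

`jdata : JData Fi22Facts.T 10 22 E` : see `H836/Thompson.lean`.
-/

set_option autoImplicit false

namespace Cfsg.Agent.H836.JFi22

open Subgroup Cfsg Cfsg.Spor
open Cfsg.Agent.KFacts.FiTTh Cfsg.Agent.KFacts.FiTTh.BasDef
open Cfsg.Agent.Fischer.Fi23Z (z0)
open Cfsg.Agent.R08.FiTwentyThree (D)
open Cfsg.Agent.R08 (FlagData.pi')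

/-- The group `2¹⁰` of `Fi22`. -/
noncomputable def E : Subgroup Fi22 :=
  ((A BasFi.e).subgroupOf (Subgroup.centralizer ({z0} : Set Fi23))).map R08.FlagData.pi'

theorem two_trans {x y : Fi23} (hx : x ∈ A BasFi.e) (hy : y ∈ A BasFi.e) (hxD : x ∈ D) (hyD : y ∈ D)
    (hxz : x ≠ z0) (hyz : y ≠ z0) :
    ∃ g ∈ normalizer (A BasFi.e : Set Fi23), g * z0 * g⁻¹ = z0 ∧ g * x * g⁻¹ = y := by
  obtain ⟨i, rfl⟩ := JFi23.mem_A hxD hx
  obtain ⟨j, rfl⟩ := JFi23.mem_A hyD hy
  have hi : i ≠ 13 := by rintro rfl; exact hxz BasFi.e_z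
  have hj : j ≠ 13 := by rintro rfl; exact hyz BasFi.e_z
  obtain ⟨m, hm⟩ := BasCode.exists_map_emb (n := 3) (by norm_num)
    ⟨![none, some 13, some i], by
      intro x y
      fin_cases x <;> fin_cases y <;> simp [hi, hi.symm]⟩
    ⟨![none, some 13, some j], by
      intro x y
      fin_cases x <;> fin_cases y <;> simp [hj, hj.symm]⟩
  have m0 : (m : Equiv.Perm GolayPt) none = none := hm 0
  have m1 : (m : Equiv.Perm GolayPt) (some 13) = some 13 := hm 1
  have m2 : (m : Equiv.Perm GolayPt) (some i) = some j := hm 2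
  obtain ⟨n, hn⟩ := BasInv.base.full m (BasDef.mem_M23.2 ⟨m.2, m0⟩)
  refine ⟨n, Base.mem_normalizer_of hn, ?_, by rw [hn, m2]⟩
  rw [← BasFi.e_z, hn, m1]

theorem z0_mem : z0 ∈ A BasFi.e := by
  rw [← BasFi.e_z]
  exact BasDef.mem_A _ _

/-- the product of two commuting transpositions is not a transposition -/
theorem mul_notMem {x : Fi23} (hx : x ∈ A BasFi.e) (hxD : x ∈ D) : x * z0 ∉ D := by
  intro h
  obtain ⟨i, rfl⟩ := JFi23.mem_A hxD hx
  obtain ⟨j, hj⟩ := JFi23.mem_A h (mul_mem hx z0_mem)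
  by_cases hi : i = 13
  · subst hi
    rw [BasFi.e_z, ← BasFi.e_z, BasInv.base.sq] at hj
    exact BasFi.e_ne_one j hj.symm
  · have h1 : pr BasFi.e {some i, some 13} = pr BasFi.e {some j} := by
      rw [BasInv.base.pr_pair (by simpa using hi), pr_singleton, BasFi.e_z, hj]
    have h2 := BasInv.base.pr_inj (by simp) (by rw [Finset.card_pair (by simpa using hi)]; norm_num)
      (by simp) (by simp) h1
    have h3 := congrArg Finset.card h2
    rw [Finset.card_pair (by simpa using hi), Finset.card_singleton] at h3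
    omega

/-- **the group `2¹⁰` of `Fi22`** -/
theorem jdata : Thompson.JData R01.Fi22Facts.T 10 22 E := by
  have := BasInv.finite
  have hl := R08.FlagData.lifted
  have J : Thompson.JData D (10 + 1) (22 + 1) (A BasFi.e) := JFi23.jdata
  refine J.descend (z := z0) (IsConj.refl _) z0_mem (fun x hx y hy h1 h2 h3 h4 => two_trans hx hy h1 h2 h3 h4)
    hl.ext.surj ?_ ?_ ?_ (fun x hx h1 => mul_notMem hx h1)
  · intro c
    rw [hl.ext.ker c]
    constructor
    · rintro (rfl | rfl)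
      · exact Or.inl rfl
      · exact Or.inr rfl
    · rintro (h | h)
      · exact Or.inl (Subtype.ext h)
      · exact Or.inr (Subtype.ext h)
  · intro c h
    exact R08.FlagData.hns c (Subtype.ext h)
  · intro y
    constructor
    · intro hy
      obtain ⟨x, hx, rfl⟩ := hl.surj y hy
      exact ⟨x, hx.1, hx.2, rfl⟩
    · rintro ⟨x, hx, hxz, rfl⟩
      exact hl.map x ⟨hx, hxz⟩

end Cfsg.Agent.H836.JFi22
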