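import Cfsg.Agent.H836.Facts

/-!
# `Fi22`: the centralizers of the elements of order 7 and 11 (helper836)

`I : Inv K T`, `y ^ r = 1 ≠ y`, `r = 7` or `11`.
* `Inv.invol_mem` : an involution commuting with `y` is a transposition;
* `Inv.card_inf` : `|C(y) ∩ C(d)| = 2 r` for a transposition `d` commuting with `y`;
* `Inv.card_eleven` : `|C(y)| = 22` for `r = 11`, and `C(y) ≤ C(d)` for the unique transposition `d` commuting with `y`;
* `Inv.card_seven` : `|C(y)| = 42` for `r = 7`.
-/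

set_option autoImplicit false

namespace Cfsg.Agent.H836

open Cfsg Subgroup Cfsg.Agent.R01.FiFusion Cfsg.Agent.R01.FiFacts Cfsg.Agent.LThreeFi22

universe v

variable {K : Type v} [Group K] {T : Set K}

namespace Inv

section seven

variable (I : Inv K T)
include I

/-- an involution commuting with an element of order 7 or 11 is a transposition -/
theorem invol_mem {r : ℕ} (hr : r = 7 ∨ r = 11) {y : K} (hy : y ^ r = 1) (hy1 : y ≠ 1) {z : K}
    (hz : z * z = 1) (hz1 : z ≠ 1) (h : y * z = z * y) : z ∈ T := by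
  have hp : r.Prime := by rcases hr with rfl | rfl <;> norm_num
  have h7 : 7 ≤ r := by omega
  rcases I.inv z hz with h1 | h1 | ⟨a, ha, b, hb, hab, cab, rfl⟩ | ⟨a, b, c, ht, rfl⟩
  · exact absurd h1 hz1
  · exact h1
  · exfalso
    obtain ⟨ya, yb⟩ := I.comm_pair hp h7 hy ha hb hab cab h
    exact I.ctx.iso7 r hr y hy hy1 a ha ya b hb hab.symm cab yb
  · exfalso
    obtain ⟨ya, yb, -⟩ := I.comm_three hp h7 hy ht h
    exact I.ctx.iso7 r hr y hy hy1 a ht.mx ya b ht.my ht.xy.symm ht.cxy yb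

/-- the only involution commuting with `y` and `d` is `d` -/
theorem invol_eq {r : ℕ} (hr : r = 7 ∨ r = 11) {y : K} (hy : y ^ r = 1) (hy1 : y ≠ 1) {d : K} (hd : d ∈ T)
    (hyd : y * d = d * y) {z : K} (hz : z * z = 1) (h : y * z = z * y) (hzd : z * d = d * z) : z = 1 ∨ z = d := by
  by_cases hz1 : z = 1
  · exact Or.inl hz1
  · right
    have hzT := I.invol_mem hr hy hy1 hz hz1 h
    by_contra hne
    exact I.ctx.iso7 r hr y hy hy1 d hd hyd z hzT hne hzd.symm h

/-- the only element with `g ^ 4 = 1` -/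
theorem four_eq {r : ℕ} (hr : r = 7 ∨ r = 11) {y : K} (hy : y ^ r = 1) (hy1 : y ≠ 1) {d : K} (hd : d ∈ T)
    (hyd : y * d = d * y) {g : K} (hg : g ^ 4 = 1) (h : y * g = g * y) (hgd : g * d = d * g) : g = 1 ∨ g = d := by
  have h2 : g * g * (g * g) = 1 := by
    rw [← pow_two, ← pow_two, ← pow_mul]
    exact hg
  have h3 : y * (g * g) = g * g * y := (Commute.mul_right (show Commute y g from h) h).eq
  have h4 : g * g * d = d * (g * g) := (Commute.mul_left (show Commute g d from hgd) hgd).eq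
  rcases I.invol_eq hr hy hy1 hd hyd h2 h3 h4 with h5 | h5
  · exact I.invol_eq hr hy hy1 hd hyd h5 h hgd
  · exact absurd h5 (I.nsq d hd g)

/-- the elements of order 11 commute with exactly one transposition -/
theorem fx_eleven {y : K} (hy : y ^ 11 = 1) (hy1 : y ≠ 1) : ∃ d ∈ T, y * d = d * y ∧ ∀ e ∈ T, y * e = e * y → e = d := by
  have hfin : Finite K := I.ctx.finite
  have h1 := Cfsg.Agent.LThreeFi22.Ctx.fx_mod I.ctx (by norm_num : Nat.Prime 11) hy
  have h2 : (Cfsg.Agent.LThreeFi22.Fx T y).ncard ≠ 0 := by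
    intro h0
    rw [h0] at h1
    exact absurd h1 (by decide)
  obtain ⟨d, hd, hyd⟩ := Cfsg.Agent.LThreeFi22.Ctx.exists_mem I.ctx h2
  refine ⟨d, hd, hyd, fun e he hye => ?_⟩
  by_contra hne
  rcases I.ctx.three d hd e he with h3 | h3
  · exact I.ctx.iso7 11 (Or.inr rfl) y hy hy1 d hd hyd e he hne h3 hye
  · have h4 : (d * e) ^ 3 = 1 :=
      Cfsg.Agent.LThreeFi22.cube_of_braid (I.ctx.sq d hd) (I.ctx.sq e he) h3
    have h5 : d * e * y = y * (d * e) := by
      calc d * e * y = d * (e * y) := by group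
        _ = (d * y) * e := by rw [← hye]; group
        _ = y * (d * e) := by rw [← hyd]; group
    have h6 := I.ctx.eleven hy hy1 h4 h5
    apply hne
    have h7 := I.ctx.sq d hd
    calc e = d * d * e := by rw [h7, one_mul]
      _ = d * (d * e) := by group
      _ = d := by rw [h6, mul_one]

/-- `|C(y) ∩ C(d)| = 2 r` -/
theorem card_inf {r : ℕ} (hr : r = 7 ∨ r = 11) {y : K} (hy : y ^ r = 1) (hy1 : y ≠ 1) {d : K} (hd : d ∈ T)
    (hyd : y * d = d * y) :
    Nat.card ↥(centralizer ({y} : Set K) ⊓ centralizer ({d} : Set K)) = 2 * r := by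
  classical
  have hfin : Finite K := I.ctx.finite
  have hp : r.Prime := by rcases hr with rfl | rfl <;> norm_num
  have hpf := Fact.mk hp
  set H := centralizer ({y} : Set K) ⊓ centralizer ({d} : Set K) with hH
  have memH : ∀ x : K, x ∈ H → y * x = x * y ∧ x * d = d * x := by
    intro x hx
    exact ⟨(mem_centralizer_singleton_iff.1 hx.1).symm, mem_centralizer_singleton_iff.1 hx.2⟩
  have inH : ∀ x : K, y * x = x * y → x * d = d * x → x ∈ H := fun x h1 h2 =>
    ⟨mem_centralizer_singleton_iff.2 h1.symm, mem_centralizer_singleton_iff.2 h2⟩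
  have hdvd : Nat.card ↥H ∣ 18393661440 := by
    rw [← I.ctx.card_cent hd]
    exact card_dvd_of_le inf_le_right
  -- elements of prime order in `H`
  have cauchy : ∀ q : ℕ, q.Prime → q ∣ Nat.card ↥H → ∃ x ∈ H, x ^ q = 1 ∧ x ≠ 1 := by
    intro q hq hqd
    have := Fact.mk hq
    obtain ⟨x, hx⟩ := exists_prime_orderOf_dvd_card' (G := ↥H) q hqd
    refine ⟨x, x.2, ?_, ?_⟩
    · have := pow_orderOf_eq_one x
      rw [hx] at this
      have h2 := congrArg Subtype.val this
      simpa using h2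
    · intro h1
      have h2 : x = 1 := Subtype.ext h1
      rw [h2, orderOf_one] at hx
      exact hq.one_lt.ne hx
  have n3 : ¬ 3 ∣ Nat.card ↥H := by
    intro h3
    obtain ⟨x, hx, hx3, hx1⟩ := cauchy 3 (by norm_num) h3
    obtain ⟨h1, h2⟩ := memH x hx
    exact hx1 (I.ctx.three7 r hr y hy hy1 d hd hyd x hx3 h1.symm h2)
  have n5 : ¬ 5 ∣ Nat.card ↥H := by
    intro h5
    obtain ⟨u, hu, hu5, hu1⟩ := cauchy 5 (by norm_num) h5
    obtain ⟨h1, h2⟩ := memH u hu
    obtain ⟨h3, -⟩ := I.ctx.iso5 u hu5 hu1 d hd h2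
    have hS : ∀ s ∈ {c | c ∈ T ∧ c ≠ d ∧ d * c = c * d ∧ u * c = c * u},
        y * s * y⁻¹ ∈ {c | c ∈ T ∧ c ≠ d ∧ d * c = c * d ∧ u * c = c * u} := by
      rintro s ⟨s1, s2, s3, s4⟩
      have e1 : y * d * y⁻¹ = d := by rw [hyd, mul_inv_cancel_right]
      have e2 : y * u * y⁻¹ = u := by rw [h1, mul_inv_cancel_right]
      refine ⟨I.ctx.conj s s1 y, ?_, ?_, ?_⟩
      · intro e
        apply s2
        rw [← e1] at e
        exact mul_left_cancel (mul_right_cancel e)
      · have := (conj_comm_iff y d s).2 s3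
        rwa [e1] at this
      · have := (conj_comm_iff y u s).2 s4
        rwa [e2] at this
    have h4 := I.fix_small hp (by omega) hy hS (by rw [h3]; norm_num)
    have h6 : {c | c ∈ T ∧ c ≠ d ∧ d * c = c * d ∧ u * c = c * u}.Nonempty := by
      rw [← Set.ncard_pos, h3]; norm_num
    obtain ⟨c, hc⟩ := h6
    exact I.ctx.iso7 r hr y hy hy1 d hd hyd c hc.1 hc.2.1 hc.2.2.1 (h4 c hc)
  have key77 : ∀ y7 y11 : K, y7 ^ 7 = 1 → y7 ≠ 1 → y11 ^ 11 = 1 → y11 ≠ 1 → y7 * y11 = y11 * y7 → False := by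
    intro y7 y11 h1 h2 h3 h4 h5
    have hS : ∀ s ∈ Fx T y7, y11 * s * y11⁻¹ ∈ Fx T y7 := fun s hs => I.ctx.fx_conj h5.symm hs
    have h6 := I.ctx.seven_card h1 h2
    have h7 := I.fix_small (by norm_num : Nat.Prime 11) (by norm_num) h3 hS (by rw [h6]; norm_num)
    obtain ⟨d0, -, -, h8⟩ := I.fx_eleven h3 h4
    have h9 : Fx T y7 ⊆ {d0} := fun s hs => h8 s hs.1 (h7 s hs)
    have h10 := Set.ncard_le_ncard h9
    rw [h6, Set.ncard_singleton] at h10
    omega
  have nr : ∀ q : ℕ, (q = 7 ∨ q = 11) → q ≠ r → ¬ q ∣ Nat.card ↥H := by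
    intro q hq hqr hqd
    obtain ⟨u, hu, huq, hu1⟩ := cauchy q (by rcases hq with rfl | rfl <;> norm_num) hqd
    obtain ⟨h1, -⟩ := memH u hu
    rcases hr with rfl | rfl
    · rcases hq with rfl | rfl
      · exact hqr rfl
      · exact key77 y u hy hy1 huq hu1 h1
    · rcases hq with rfl | rfl
      · exact key77 u y huq hu1 hy hy1 h1.symm
      · exact hqr rfl
  have n4 : ¬ 4 ∣ Nat.card ↥H := by
    intro h4
    have : Fact (Nat.Prime 2) := ⟨Nat.prime_two⟩
    obtain ⟨Q, hQ⟩ := Sylow.exists_subgroup_card_pow_prime (G := ↥H) 2 (n := 2) (by norm_num; exact h4)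
    have h5 : ∀ g ∈ Q, (g : K) ∈ ({1, d} : Set K) := by
      intro g hg
      have h6 : g ^ 4 = 1 := by
        have h7 : (⟨g, hg⟩ : ↥Q) ^ Nat.card ↥Q = 1 := pow_card_eq_one'
        rw [hQ] at h7
        exact congrArg Subtype.val h7
      have h7 : (g : K) ^ 4 = 1 := by
        have := congrArg Subtype.val h6
        simpa using this
      obtain ⟨h8, h9⟩ := memH g g.2
      rcases I.four_eq hr hy hy1 hd hyd h7 h8 h9 with h10 | h10
      · exact Or.inl h10
      · exact Or.inr h10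
    have h6 : ((fun g : ↥H => (g : K)) '' (Q : Set ↥H)).ncard = 4 := by
      rw [Set.ncard_image_of_injective _ Subtype.val_injective]
      have : (Q : Set ↥H).ncard = Nat.card ↥Q := rfl
      rw [this, hQ]
      norm_num
    have h7 : ((fun g : ↥H => (g : K)) '' (Q : Set ↥H)) ⊆ {1, d} := by
      rintro _ ⟨g, hg, rfl⟩
      exact h5 g hg
    have h8 := Set.ncard_le_ncard h7
    have h9 := Set.ncard_insert_le (1 : K) ({d} : Set K)
    rw [Set.ncard_singleton] at h9
    omega
  have d2 : 2 ∣ Nat.card ↥H := by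
    have h1 : orderOf (⟨d, inH d hyd rfl⟩ : ↥H) = 2 := by
      rw [orderOf_eq_prime_iff]
      refine ⟨Subtype.ext ?_, fun h => I.ctx.ne1 d hd (congrArg Subtype.val h)⟩
      show d ^ 2 = 1
      rw [pow_two]
      exact I.ctx.sq d hd
    rw [← h1]
    exact orderOf_dvd_natCard _
  have dr : r ∣ Nat.card ↥H := by
    have h1 : orderOf (⟨y, inH y rfl hyd⟩ : ↥H) = r := by
      rw [orderOf_eq_prime_iff]
      refine ⟨Subtype.ext hy, fun h => hy1 (congrArg Subtype.val h)⟩
    rw [← h1]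
    exact orderOf_dvd_natCard _
  -- arithmetic
  obtain ⟨m, hm⟩ := d2
  have hm2 : ¬ 2 ∣ m := fun h => n4 (by rw [hm]; obtain ⟨k, rfl⟩ := h; exact ⟨k, by ring⟩)
  have hm3 : ¬ 3 ∣ m := fun h => n3 (by rw [hm]; exact Dvd.dvd.mul_left h 2)
  have hm5 : ¬ 5 ∣ m := fun h => n5 (by rw [hm]; exact Dvd.dvd.mul_left h 2)
  have hmr : r ∣ m := by
    rw [hm] at dr
    exact (hp.dvd_mul.1 dr).resolve_left (by rcases hr with rfl | rfl <;> norm_num)
  have h1 : m ∣ 9196830720 := by
    obtain ⟨k, hk⟩ := hdvd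
    rw [hm] at hk
    exact ⟨k, by linarith [hk, mul_assoc 2 m k]⟩
  have c2 : Nat.Coprime m (2 ^ 15) := Nat.Coprime.pow_right _ ((Nat.Prime.coprime_iff_not_dvd Nat.prime_two).2 hm2).symm
  have c3 : Nat.Coprime m (3 ^ 6) := Nat.Coprime.pow_right _ ((Nat.Prime.coprime_iff_not_dvd Nat.prime_three).2 hm3).symm
  have c5 : Nat.Coprime m 5 := ((Nat.Prime.coprime_iff_not_dvd (by norm_num)).2 hm5).symm
  have h2 : m ∣ 77 := by
    have e : (9196830720 : ℕ) = 2 ^ 15 * (3 ^ 6 * (5 * 77)) := by norm_num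
    rw [e] at h1
    exact c5.dvd_of_dvd_mul_left (c3.dvd_of_dvd_mul_left (c2.dvd_of_dvd_mul_left h1))
  have h3 : m = r := by
    rcases hr with rfl | rfl
    · have hq : ¬ 11 ∣ m := fun h => nr 11 (Or.inr rfl) (by norm_num) (by rw [hm]; exact Dvd.dvd.mul_left h 2)
      have c : Nat.Coprime m 11 := ((Nat.Prime.coprime_iff_not_dvd (by norm_num)).2 hq).symm
      have e : (77 : ℕ) = 11 * 7 := by norm_num
      rw [e] at h2
      exact Nat.dvd_antisymm (c.dvd_of_dvd_mul_left h2) hmr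
    · have hq : ¬ 7 ∣ m := fun h => nr 7 (Or.inl rfl) (by norm_num) (by rw [hm]; exact Dvd.dvd.mul_left h 2)
      have c : Nat.Coprime m 7 := ((Nat.Prime.coprime_iff_not_dvd (by norm_num)).2 hq).symm
      have e : (77 : ℕ) = 7 * 11 := by norm_num
      rw [e] at h2
      exact Nat.dvd_antisymm (c.dvd_of_dvd_mul_left h2) hmr
  rw [hm, h3]

/-- **the centralizer of an element of order 11** -/
theorem card_eleven {y : K} (hy : y ^ 11 = 1) (hy1 : y ≠ 1) : Nat.card ↥(centralizer ({y} : Set K)) = 22 := by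
  obtain ⟨d, hd, hyd, huniq⟩ := I.fx_eleven hy hy1
  have h1 := I.card_inf (Or.inr rfl) hy hy1 hd hyd
  have h2 : centralizer ({y} : Set K) ≤ centralizer ({d} : Set K) := by
    intro g hg
    have hgy : g * y = y * g := mem_centralizer_singleton_iff.1 hg
    have h3 : y * (g * d * g⁻¹) = g * d * g⁻¹ * y := by
      have := (conj_comm_iff g y d).2 hyd
      have e : g * y * g⁻¹ = y := by rw [hgy, mul_inv_cancel_right]
      rwa [e] at this
    have h4 := huniq _ (I.ctx.conj d hd g) h3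
    exact mem_centralizer_singleton_iff.2 (mul_inv_eq_iff_eq_mul.1 h4)
  rwa [inf_eq_left.2 h2] at h1

/-- **the centralizer of an element of order 7** -/
theorem card_seven {y : K} (hy : y ^ 7 = 1) (hy1 : y ≠ 1) : Nat.card ↥(centralizer ({y} : Set K)) = 42 := by
  have hfin : Finite K := I.ctx.finite
  have h3 := I.ctx.seven_card hy hy1
  obtain ⟨t, ht, hyt⟩ := I.ctx.exists_mem (y := y) (by rw [h3]; norm_num)
  have h1 := I.card_inf (Or.inl rfl) hy hy1 ht hyt
  have h2 : (Fx T y).ncard * Nat.card ↥(centralizer ({y} : Set K) ⊓ centralizer ({t} : Set K)) =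
      Nat.card ↥(centralizer ({y} : Set K)) := by
    apply orbit_card
    intro x
    constructor
    · rintro ⟨hx, hyx⟩
      by_cases hxt : x = t
      · exact ⟨1, one_mem _, by rw [hxt]; group⟩
      · have hnc : x * t ≠ t * x := fun e => hxt (I.ctx.seven_comm hy hy1 ⟨hx, hyx⟩ ⟨ht, hyt⟩ e).symm
        have hbr := (I.ctx.three x hx t ht).resolve_left hnc
        have xx := I.ctx.sq x hx
        have tt := I.ctx.sq t ht
        refine ⟨t * x, mem_centralizer_singleton_iff.2 ?_, ?_⟩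
        · exact ((show Commute y t from hyt).mul_right (show Commute y x from hyx)).symm.eq
        · have xi : x⁻¹ = x := inv_eq_of_mul_eq_one_left xx
          have ti : t⁻¹ = t := inv_eq_of_mul_eq_one_left tt
          rw [mul_inv_rev, xi, ti]
          calc x = t * t * x * (t * t) := by rw [tt, one_mul, mul_one]
            _ = t * (t * x * t) * t := by group
            _ = t * (x * t * x) * t := by rw [hbr]
            _ = t * x * t * (x * t) := by group
    · rintro ⟨h, hh, rfl⟩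
      have hhy : h * y = y * h := mem_centralizer_singleton_iff.1 hh
      exact I.ctx.fx_conj hhy ⟨ht, hyt⟩
  rw [h3, h1] at h2
  exact h2.symm

end seven

end Inv

end Cfsg.Agent.H836
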