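import Cfsg.Agent.H349.T3.CandOf2
import Cfsg.Agent.H341.WeakFull

/-!
# The blocks of a frame are moved (for S3368)

`Frame Z Q U e` is the local data `Q = 3^{1+6}` with three blocks.  If `Z` has a conjugate in `Q`
different from `Z`, then an element of order three of `C(Z)` moves a block.
-/

set_option autoImplicit false

namespace Cfsg.Agent.H836.T3Move

open Cfsg Cfsg.Agent.H341.Weak Cfsg.Agent.H349.T3 Cfsg.Agent.H261 Subgroup

universe u

variable {G : Type u} [Group G] {Z Q Z' Q' : Subgroup G} {U U' : Fin 3 → Subgroup G} {e e' : Fin 3 → G}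

/-- all elements of order three of `C(Z)` fix the blocks -/
def Fix (Z : Subgroup G) (U : Fin 3 → Subgroup G) : Prop :=
  ∀ c ∈ centralizer (Z : Set G), c ^ 3 = 1 → ∀ i, ∀ u ∈ U i, c * u * c⁻¹ ∈ U i

theorem mem_map_conj' {K : Subgroup G} {g x : G} : x ∈ K.map (MulAut.conj g).toMonoidHom ↔ g⁻¹ * x * g ∈ K := by
  rw [Subgroup.mem_map_equiv, MulAut.conj_symm_apply]

theorem Fix.map (N : Fix Z U) (g : G) :
    Fix (Z.map (MulAut.conj g).toMonoidHom) (fun i => (U i).map (MulAut.conj g).toMonoidHom) := by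
  intro c hc hc3 i u hu
  rw [mem_map_conj'] at hu ⊢
  have h1 := N (g⁻¹ * c * g) (by
    rw [mem_centralizer_iff]
    intro z hz
    have h2 := mem_centralizer_iff.1 hc (g * z * g⁻¹) (by
      change g * z * g⁻¹ ∈ Z.map (MulAut.conj g).toMonoidHom
      rw [mem_map_conj']
      have : g⁻¹ * (g * z * g⁻¹) * g = z := by group
      rwa [this])
    calc z * (g⁻¹ * c * g) = g⁻¹ * (g * z * g⁻¹ * c) * g := by group
      _ = g⁻¹ * (c * (g * z * g⁻¹)) * g := by rw [h2]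
      _ = g⁻¹ * c * g * z := by group) (by
    have h2 : g⁻¹ * c * g = g⁻¹ * c * g⁻¹⁻¹ := by group
    rw [h2, conj_pow, hc3]
    group) i _ hu
  have h3 : g⁻¹ * (c * u * c⁻¹) * g = g⁻¹ * c * g * (g⁻¹ * u * g) * (g⁻¹ * c * g)⁻¹ := by group
  rwa [h3]

/-- two frames, the centre of the second in `Q` -/
structure Two (Z Q : Subgroup G) (U : Fin 3 → Subgroup G) (e : Fin 3 → G)
    (Z' Q' : Subgroup G) (U' : Fin 3 → Subgroup G) (e' : Fin 3 → G) : Prop where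
  F : Frame Z Q U e
  F' : Frame Z' Q' U' e'
  N : Fix Z U
  N' : Fix Z' U'
  ZQ : Z' ≤ Q
  ne : ¬ Z' ≤ Z

/-! ### Commutators in `Q` -/

section
variable (F : Frame Z Q U e)
include F

/-- the element of `Q` centralized by everything of `Q` modulo an inversion -/
theorem anti {c x y : G} (hc : c ∈ centralizer (Z : Set G)) (hx : x ∈ Q) (hy : y ∈ Q)
    (hcx : c * x * c⁻¹ * x ∈ Z) (hxy : x * (c * y * c⁻¹ * y⁻¹) = c * y * c⁻¹ * y⁻¹ * x) : x * y = y * x := by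
  obtain ⟨ζ, hζ⟩ : ∃ ζ, ζ = x * y * x⁻¹ * y⁻¹ := ⟨_, rfl⟩
  have hζZ : ζ ∈ Z := hζ ▸ F.comZ x hx y hy
  obtain ⟨w, hw⟩ : ∃ w, w = c * x * c⁻¹ * x := ⟨_, rfl⟩
  have hwZ : w ∈ Z := hw ▸ hcx
  obtain ⟨k, hk⟩ : ∃ k, k = c * y * c⁻¹ * y⁻¹ := ⟨_, rfl⟩
  have hkQ : k ∈ Q := by
    rw [hk]
    exact Q.mul_mem (F.conjQ c hc y hy) (Q.inv_mem hy)
  rw [← hk] at hxy
  have e1 : x * y = ζ * y * x := by rw [hζ]; group
  have e2 : c * x * c⁻¹ = w * x⁻¹ := by rw [hw]; group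
  have e3 : c * y * c⁻¹ = k * y := by rw [hk]; group
  have hz : ∀ v ∈ Q, ζ * v = v * ζ := fun v hv => FrameL.zc F hζZ (F.QleC hv)
  have hwz : ∀ v ∈ Q, w * v = v * w := fun v hv => FrameL.zc F hwZ (F.QleC hv)
  -- conjugate `x * y = ζ * y * x` by `c`
  have e4 : (w * x⁻¹) * (k * y) = ζ * (k * y) * (w * x⁻¹) := by
    have h1 : c * (x * y) * c⁻¹ = c * (ζ * y * x) * c⁻¹ := by rw [e1]
    have h2 : c * (x * y) * c⁻¹ = (c * x * c⁻¹) * (c * y * c⁻¹) := by group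
    have h3 : c * (ζ * y * x) * c⁻¹ = (c * ζ * c⁻¹) * (c * y * c⁻¹) * (c * x * c⁻¹) := by group
    have h4 : c * ζ * c⁻¹ = ζ := by rw [← FrameL.zc F hζZ hc, mul_inv_cancel_right]
    rw [h2, h3, h4, e2, e3] at h1
    exact h1
  -- hence `x⁻¹ * (k y) = ζ * (k y) * x⁻¹`
  have e5 : x⁻¹ * (k * y) = ζ * (k * y) * x⁻¹ := by
    have h1 : (w * x⁻¹) * (k * y) = w * (x⁻¹ * (k * y)) := by group
    have h2 : ζ * (k * y) * (w * x⁻¹) = w * (ζ * (k * y) * x⁻¹) := by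
      have h3 : w * (ζ * (k * y)) = ζ * (k * y) * w :=
        hwz _ (Q.mul_mem (FrameL.ZleQ F hζZ) (Q.mul_mem hkQ hy))
      calc ζ * (k * y) * (w * x⁻¹) = (ζ * (k * y) * w) * x⁻¹ := by group
        _ = (w * (ζ * (k * y))) * x⁻¹ := by rw [h3]
        _ = _ := by group
    rw [h1, h2] at e4
    exact mul_left_cancel e4
  -- `k y = ζ * x * (k y) * x⁻¹ = ζ * ζ * k y`
  have e6 : k * y = ζ * ζ * (k * y) := by
    calc k * y = x * (x⁻¹ * (k * y)) := by group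
      _ = x * (ζ * (k * y) * x⁻¹) := by rw [e5]
      _ = (x * ζ) * (k * y) * x⁻¹ := by group
      _ = (ζ * x) * (k * y) * x⁻¹ := by rw [hz x hx]
      _ = ζ * ((x * k) * y) * x⁻¹ := by group
      _ = ζ * ((k * x) * y) * x⁻¹ := by rw [hxy]
      _ = ζ * k * (x * y) * x⁻¹ := by group
      _ = ζ * k * (ζ * y * x) * x⁻¹ := by rw [e1]
      _ = ζ * (k * ζ) * y := by group
      _ = ζ * (ζ * k) * y := by rw [hz k hkQ]
      _ = _ := by group
  have e7 : ζ * ζ = 1 := by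
    have : 1 * (k * y) = ζ * ζ * (k * y) := by rw [one_mul]; exact e6
    exact (mul_right_cancel this).symm
  have e8 := FrameL.eq_one_of_sq F (FrameL.ZleQ F hζZ) e7
  rw [e1, e8, one_mul]

/-- in a block: noncentral elements are conjugate to their multiples by `Z` -/
theorem conj_line_U {i : Fin 3} {x w : G} (hx : x ∈ U i) (hxZ : x ∉ Z) (hw : w ∈ Z) :
    ∃ v ∈ U i, v * x * v⁻¹ = w * x := by
  obtain ⟨q, hq, hqx⟩ := FrameL.conj_line F (F.UleQ i hx) hxZ hw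
  obtain ⟨a, ha, b, hb, c, hc, rfl⟩ := FrameL.dec F hq
  have hcase : i = 0 ∨ i = 1 ∨ i = 2 := by fin_cases i <;> simp
  rcases hcase with rfl | rfl | rfl
  · refine ⟨a, ha, ?_⟩
    have h1 := F.comm 0 1 (by decide) x hx b hb
    have h2 := F.comm 0 2 (by decide) x hx c hc
    rw [← hqx]
    calc a * x * a⁻¹ = a * (x * b) * c * c⁻¹ * b⁻¹ * a⁻¹ := by group
      _ = a * (b * x) * c * c⁻¹ * b⁻¹ * a⁻¹ := by rw [h1]
      _ = a * b * (x * c) * c⁻¹ * b⁻¹ * a⁻¹ := by group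
      _ = a * b * (c * x) * c⁻¹ * b⁻¹ * a⁻¹ := by rw [h2]
      _ = _ := by group
  · refine ⟨b, hb, ?_⟩
    have h1 := F.comm 0 1 (by decide) a ha (b * x * b⁻¹) ((U 1).mul_mem ((U 1).mul_mem hb hx) ((U 1).inv_mem hb))
    have h2 := F.comm 1 2 (by decide) x hx c hc
    rw [← hqx]
    calc b * x * b⁻¹ = (b * x * b⁻¹ * a) * a⁻¹ := by group
      _ = (a * (b * x * b⁻¹)) * a⁻¹ := by rw [h1]
      _ = a * b * (x * c) * c⁻¹ * b⁻¹ * a⁻¹ := by group
      _ = a * b * (c * x) * c⁻¹ * b⁻¹ * a⁻¹ := by rw [h2]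
      _ = _ := by group
  · refine ⟨c, hc, ?_⟩
    have hcx : c * x * c⁻¹ ∈ U 2 := (U 2).mul_mem ((U 2).mul_mem hc hx) ((U 2).inv_mem hc)
    have h1 := F.comm 0 2 (by decide) a ha (c * x * c⁻¹) hcx
    have h2 := F.comm 1 2 (by decide) b hb (c * x * c⁻¹) hcx
    rw [← hqx]
    calc c * x * c⁻¹ = (c * x * c⁻¹ * a) * a⁻¹ := by group
      _ = (a * (c * x * c⁻¹)) * a⁻¹ := by rw [h1]
      _ = a * ((c * x * c⁻¹) * b) * b⁻¹ * a⁻¹ := by group
      _ = a * (b * (c * x * c⁻¹)) * b⁻¹ * a⁻¹ := by rw [h2]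
      _ = _ := by group

/-- the centralizer in a block of a noncentral element -/
theorem cent_U {i : Fin 3} {x y : G} (hx : x ∈ U i) (hxZ : x ∉ Z) (hy : y ∈ U i) (hxy : x * y = y * x) :
    ∃ n : ℤ, x ^ n * y ∈ Z := by
  obtain ⟨w, hw, hw1, hZw⟩ := FrameL.exists_gen F
  obtain ⟨v, hv, hvx⟩ := conj_line_U F hx hxZ hw
  have h1 : v * y * v⁻¹ * y⁻¹ ∈ Z := F.comZ v (F.UleQ i hv) y (F.UleQ i hy)
  rw [hZw] at h1
  obtain ⟨m, hm⟩ := mem_zpowers_iff.1 h1
  have hwc : ∀ u ∈ U i, w * u = u * w := fun u hu => FrameL.zc F hw (FrameL.UleC F i hu)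
  have hwm : ∀ u ∈ U i, ∀ n : ℤ, w ^ n * u = u * w ^ n := fun u hu n =>
    FrameL.zc F (Z.zpow_mem hw n) (FrameL.UleC F i hu)
  refine ⟨-m, FrameL.cenU F ((U i).mul_mem ((U i).zpow_mem hx _) hy) ?_⟩
  have hvx' : ∀ n : ℤ, v * x ^ n * v⁻¹ = w ^ n * x ^ n := by
    intro n
    have h2 : Commute w x := hwc x hx
    rw [← conj_zpow, hvx, h2.mul_zpow]
  have hvy : v * y * v⁻¹ = w ^ m * y := by
    rw [hm]
    group
  obtain ⟨s, hs⟩ : ∃ s, s = x ^ (-m) * y := ⟨_, rfl⟩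
  have hsv : v * s * v⁻¹ = s := by
    rw [hs]
    calc v * (x ^ (-m) * y) * v⁻¹ = (v * x ^ (-m) * v⁻¹) * (v * y * v⁻¹) := by group
      _ = (w ^ (-m) * x ^ (-m)) * (w ^ m * y) := by rw [hvx', hvy]
      _ = w ^ (-m) * (x ^ (-m) * w ^ m) * y := by group
      _ = w ^ (-m) * (w ^ m * x ^ (-m)) * y := by rw [hwm _ ((U i).zpow_mem hx _)]
      _ = _ := by group
  have hsx : x * s = s * x := by
    have h2 : Commute x (x ^ (-m)) := (Commute.refl x).zpow_right _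
    have h3 : Commute x y := hxy
    rw [hs]
    exact (h2.mul_right h3).eq
  have hvxne : x * v ≠ v * x := by
    intro h2
    apply hw1
    rw [← h2, mul_inv_cancel_right] at hvx
    have h3 : 1 * x = w * x := by rw [one_mul]; exact hvx
    exact (mul_right_cancel h3).symm
  have hsvc : v * s = s * v := mul_inv_eq_iff_eq_mul.1 hsv
  have hle : U i ≤ U i ⊓ centralizer {s} := by
    refine le_of_noncomm (F.cardU i) inf_le_left (x := x) (y := v) (z := x) ⟨hx, ?_⟩ ⟨hv, ?_⟩ hvxne ⟨hx, ?_⟩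
    · exact mem_centralizer_singleton_iff.2 hsx
    · exact mem_centralizer_singleton_iff.2 hsvc
    · exact mem_centralizer_singleton_iff.2 hsx
  intro u hu
  rw [← hs]
  exact (mem_centralizer_singleton_iff.1 (hle hu).2).symm

/-- three blocks -/
theorem dec_i {x : G} (hx : x ∈ Q) (i : Fin 3) : ∃ a ∈ U i, ∃ y ∈ Q, x = a * y ∧ (∀ u ∈ U i, u * y = y * u) ∧
    e i * y = y * e i := by
  obtain ⟨a, ha, b, hb, c, hc, rfl⟩ := FrameL.dec F hx
  have hab := F.comm 0 1 (by decide) a ha b hb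
  have hac := F.comm 0 2 (by decide) a ha c hc
  have hbc := F.comm 1 2 (by decide) b hb c hc
  have key : ∀ {i j k : Fin 3}, j ≠ i → k ≠ i → ∀ {b c : G}, b ∈ U j → c ∈ U k →
      (∀ u ∈ U i, u * (b * c) = b * c * u) ∧ e i * (b * c) = b * c * e i := by
    intro i j k hj hk b c hb hc
    have c1 : ∀ {j : Fin 3}, j ≠ i → ∀ {b : G}, b ∈ U j → Commute (e i) b := by
      intro j hj b hb
      exact mul_inv_eq_iff_eq_mul.1 (F.eU i j hj b hb)
    refine ⟨fun u hu => ?_, ((c1 hj hb).mul_right (c1 hk hc)).eq⟩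
    have h1 : Commute u b := F.comm i j hj.symm u hu b hb
    have h2 : Commute u c := F.comm i k hk.symm u hu c hc
    exact (h1.mul_right h2).eq
  have hcase : i = 0 ∨ i = 1 ∨ i = 2 := by fin_cases i <;> simp
  rcases hcase with rfl | rfl | rfl
  · obtain ⟨h1, h2⟩ := key (i := 0) (j := 1) (k := 2) (by decide) (by decide) hb hc
    exact ⟨a, ha, b * c, Q.mul_mem (F.UleQ 1 hb) (F.UleQ 2 hc), by group, h1, h2⟩
  · obtain ⟨h1, h2⟩ := key (i := 1) (j := 0) (k := 2) (by decide) (by decide) ha hc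
    exact ⟨b, hb, a * c, Q.mul_mem (F.UleQ 0 ha) (F.UleQ 2 hc), by rw [hab]; group, h1, h2⟩
  · obtain ⟨h1, h2⟩ := key (i := 2) (j := 0) (k := 1) (by decide) (by decide) ha hb
    refine ⟨c, hc, a * b, Q.mul_mem (F.UleQ 0 ha) (F.UleQ 1 hb), ?_, h1, h2⟩
    calc a * b * c = a * (b * c) := by group
      _ = a * (c * b) := by rw [hbc]
      _ = (a * c) * b := by group
      _ = (c * a) * b := by rw [hac]
      _ = _ := by group

end

namespace Two

variable (T : Two Z Q U e Z' Q' U' e')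
include T

theorem triv {x : G} (h1 : x ∈ Z) (h2 : x ∈ Z') : x = 1 := by
  by_contra hx
  exact T.ne (eq_of_mem_of_card_prime Nat.prime_three T.F'.cardZ h2 hx h1)

/-- `S1` -/
theorem ZleQ' [Finite G] : Z ≤ Q' := by
  have F := T.F
  have F' := T.F'
  by_contra hcon
  have hd : ∀ x ∈ Z, x ∈ Q' → x = 1 := by
    intro x hx hx'
    by_contra h1
    exact hcon (eq_of_mem_of_card_prime Nat.prime_three F.cardZ hx h1 hx')
  obtain ⟨t, ht, ht1, hZt⟩ := FrameL.exists_gen F'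
  have htQ : t ∈ Q := T.ZQ ht
  have htZ : t ∉ Z := fun h => ht1 (T.triv h ht)
  obtain ⟨D, hD⟩ : ∃ D, D = Q ⊓ centralizer {t} := ⟨_, rfl⟩
  have hDc : Nat.card D = 3 ^ 6 := hD ▸ FrameL.card_CQ F htQ htZ
  have hDQ : D ≤ Q := hD ▸ inf_le_left
  have hDC : D ≤ centralizer (Z' : Set G) := by
    intro x hx
    rw [hD] at hx
    have h1 : x * t = t * x := (mem_centralizer_singleton_iff.1 hx.2).symm ▸ rfl
    refine mem_centralizer_iff.2 fun y hy => ?_
    have hy' : y ∈ zpowers t := by rw [← hZt]; exact hy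
    obtain ⟨n, rfl⟩ := mem_zpowers_iff.1 hy'
    have h2 : Commute t x := h1.symm
    exact (h2.zpow_left n).eq
  obtain ⟨q, hq, hqt⟩ : ∃ q ∈ Q, t * q ≠ q * t := by
    by_contra h
    push Not at h
    exact htZ (F.cenZ t htQ h)
  have hcomm : ∀ f ∈ Q, f ∈ Q' → ∀ x ∈ D, x * f = f * x := by
    intro f hf hf' x hx
    have h1 : x * f * x⁻¹ * f⁻¹ ∈ Z := F.comZ x (hDQ hx) f hf
    have h2 : x * f * x⁻¹ * f⁻¹ ∈ Q' := Q'.mul_mem (F'.conjQ x (hDC hx) f hf') (Q'.inv_mem hf')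
    exact mul_inv_eq_iff_eq_mul.1 (mul_inv_eq_one.1 (hd _ h1 h2))
  have hone : ∀ f ∈ Q, f ∈ Q' → f * q = q * f → f = 1 := by
    intro f hf hf' hfq
    refine hd f ?_ hf'
    by_contra hfZ
    have h1 := FrameL.card_CQ F hf hfZ
    have h2 : D ≤ Q ⊓ centralizer {f} := by
      intro x hx
      exact ⟨hDQ hx, mem_centralizer_singleton_iff.2 (hcomm f hf hf' x hx)⟩
    have h3 : D = Q ⊓ centralizer {f} := Subgroup.eq_of_le_of_card_ge h2 (by rw [h1, hDc])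
    have h4 : q ∈ D := by
      rw [h3]
      exact ⟨hq, mem_centralizer_singleton_iff.2 hfq.symm⟩
    rw [hD] at h4
    exact hqt (mem_centralizer_singleton_iff.1 h4.2).symm
  have hA3 : Nat.card (D ⊓ Q' : Subgroup G) ≤ 3 := by
    rw [← F.cardZ]
    refine Nat.card_le_card_of_injective (fun f : ↥(D ⊓ Q' : Subgroup G) =>
      (⟨q * f * q⁻¹ * (f : G)⁻¹, F.comZ q hq f (hDQ f.2.1)⟩ : ↥Z)) ?_
    rintro ⟨f, hf⟩ ⟨h, hh⟩ hfh
    have e1 : q * f * q⁻¹ * f⁻¹ = q * h * q⁻¹ * h⁻¹ := congrArg Subtype.val hfh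
    obtain ⟨w, hw⟩ : ∃ w, w = q * h * q⁻¹ * h⁻¹ := ⟨_, rfl⟩
    have hwZ : w ∈ Z := hw ▸ F.comZ q hq h (hDQ hh.1)
    rw [← hw] at e1
    have e2 : q * f * q⁻¹ = w * f := by rw [← e1]; group
    have e3 : q * h * q⁻¹ = w * h := by rw [hw]; group
    have hfh' : f * h⁻¹ ∈ Q := Q.mul_mem (hDQ hf.1) (Q.inv_mem (hDQ hh.1))
    have e4 : q * (f * h⁻¹) * q⁻¹ = f * h⁻¹ := by
      have e5 : w * (f * h⁻¹) = f * h⁻¹ * w := FrameL.zc F hwZ (F.QleC hfh')
      calc q * (f * h⁻¹) * q⁻¹ = (q * f * q⁻¹) * (q * h * q⁻¹)⁻¹ := by group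
        _ = (w * f) * (w * h)⁻¹ := by rw [e2, e3]
        _ = (w * (f * h⁻¹)) * w⁻¹ := by group
        _ = (f * h⁻¹ * w) * w⁻¹ := by rw [e5]
        _ = _ := by group
    have e6 := hone _ hfh' (Q'.mul_mem hf.2 (Q'.inv_mem hh.2)) (mul_inv_eq_iff_eq_mul.1 e4).symm
    exact Subtype.ext (mul_inv_eq_one.1 e6)
  -- count in `C(Z')`
  obtain ⟨P, hP⟩ : ∃ P, P = centralizer (Z' : Set G) := ⟨_, rfl⟩
  have hPle : P ≤ centralizer (Z' : Set G) := hP.le
  have hQP : Q' ≤ P := hP ▸ F'.QleC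
  have hDP : D ≤ P := hP ▸ hDC
  have hn := FrameL.normal_subgroupOf F' hPle
  have h1 := card_inf_mul (Q'.subgroupOf P) (D.subgroupOf P)
  have h2 : Nat.card (D.subgroupOf P) = 3 ^ 6 := by
    rw [← hDc]
    exact Nat.card_congr (Subgroup.subgroupOfEquivOfLe hDP).toEquiv
  have h3 : Nat.card (D.subgroupOf P ⊓ Q'.subgroupOf P : Subgroup ↥P) = Nat.card (D ⊓ Q' : Subgroup G) := by
    have h4 : (D.subgroupOf P ⊓ Q'.subgroupOf P : Subgroup ↥P) = (D ⊓ Q').subgroupOf P := rfl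
    rw [h4]
    exact Nat.card_congr (Subgroup.subgroupOfEquivOfLe (inf_le_left.trans hDP)).toEquiv
  have h5 : Nat.card P = Nat.card (↥P ⧸ Q'.subgroupOf P) * 3 ^ 7 := by
    rw [Subgroup.card_eq_card_quotient_mul_card_subgroup (Q'.subgroupOf P),
      Nat.card_congr (Subgroup.subgroupOfEquivOfLe hQP).toEquiv, F'.cardQ]
  have h6 : Nat.card ((D.subgroupOf P).map (QuotientGroup.mk' (Q'.subgroupOf P))) ∣
      Nat.card (↥P ⧸ Q'.subgroupOf P) := Subgroup.card_subgroup_dvd_card _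
  have h7 : Nat.card P ∣ 2 ^ 10 * 3 ^ 11 := by rw [hP]; exact FrameL.card_C F'
  rw [h3, h2] at h1
  obtain ⟨a, ha⟩ : ∃ a, a = Nat.card (D ⊓ Q' : Subgroup G) := ⟨_, rfl⟩
  obtain ⟨b, hb⟩ : ∃ b, b = Nat.card ((D.subgroupOf P).map (QuotientGroup.mk' (Q'.subgroupOf P))) := ⟨_, rfl⟩
  rw [← ha] at hA3 h1
  rw [← hb] at h1 h6
  have h8 : 3 ^ 5 ∣ b := by
    have h9 : 0 < a := by
      rcases Nat.eq_zero_or_pos a with h | h
      · rw [h, zero_mul] at h1
        norm_num at h1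
      · exact h
    interval_cases a
    · exact ⟨3, by omega⟩
    · omega
    · exact ⟨1, by omega⟩
  have h9 : 3 ^ 5 * 3 ^ 7 ∣ 2 ^ 10 * 3 ^ 11 := by
    refine dvd_trans ?_ h7
    rw [h5]
    exact Nat.mul_dvd_mul_right (h8.trans h6) _
  revert h9
  norm_num

theorem symm [Finite G] : Two Z' Q' U' e' Z Q U e where
  F := T.F'
  F' := T.F
  N := T.N'
  N' := T.N
  ZQ := T.ZleQ'
  ne := by
    intro h
    apply T.ne
    have h1 : Z = Z' := Subgroup.eq_of_le_of_card_ge h (by rw [T.F.cardZ, T.F'.cardZ])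
    rw [h1]

/-- `S2` -/
theorem no_comm [Finite G] (i : Fin 3) : ∃ t ∈ Z', e i * t ≠ t * e i := by
  have F := T.F
  have F' := T.F'
  have hZQ' := T.ZleQ'
  by_contra hcon
  push Not at hcon
  obtain ⟨c, hc⟩ : ∃ c, c = e i := ⟨_, rfl⟩
  have hcC : c ∈ centralizer (Z : Set G) := hc ▸ F.eC i
  have hcC' : c ∈ centralizer (Z' : Set G) := by
    refine mem_centralizer_iff.2 fun t ht => ?_
    rw [hc]
    exact (hcon t ht).symm
  have hcc : c * c = 1 := by rw [hc]; exact F.e2 i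
  have hci : c⁻¹ = c := inv_eq_of_mul_eq_one_left hcc
  -- (b)
  have hb : ∀ x ∈ Q', c * x * c⁻¹ * x ∈ Z' → x ∈ Q := by
    intro x hx hcx
    have hxC : x ∈ centralizer (Z : Set G) := by
      refine mem_centralizer_iff.2 fun z hz => ?_
      refine (anti F' hcC' hx (hZQ' hz) hcx ?_).symm
      have h1 : c * z * c⁻¹ * z⁻¹ = 1 := by
        rw [← FrameL.zc F hz hcC, mul_inv_cancel_right, mul_inv_cancel]
      rw [h1, one_mul, mul_one]
    have hx3 : x ^ 3 = 1 := F'.exp x hx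
    have hxK : x ∈ FrameL.K F := by
      rw [FrameL.mem_K]
      refine ⟨hxC, fun j u => ⟨fun hu => T.N x hxC hx3 j u hu, fun hu => ?_⟩⟩
      have h1 := T.N x⁻¹ (inv_mem hxC) (by rw [inv_pow, hx3, inv_one]) j _ hu
      have h2 : x⁻¹ * (x * u * x⁻¹) * x⁻¹⁻¹ = u := by group
      rwa [h2] at h1
    have hcK : c ∈ FrameL.K F := by
      rw [FrameL.mem_K]
      refine ⟨hcC, ?_⟩
      have key : ∀ j, ∀ u ∈ U j, c * u * c⁻¹ ∈ U j := by
        intro j u hu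
        by_cases hj : j = i
        · subst hj
          have h1 := F.einv j u hu
          rw [← hc] at h1
          have h2 : c * u * c⁻¹ = c * u * c⁻¹ * u * u⁻¹ := by group
          rw [h2]
          exact (U j).mul_mem (F.ZleU j h1) ((U j).inv_mem hu)
        · rw [hc, F.eU i j hj u hu]
          exact hu
      intro j u
      refine ⟨key j u, fun hu => ?_⟩
      have h1 := key j _ hu
      have h2 : c * (c * u * c⁻¹) * c⁻¹ = (c * c) * u * (c * c)⁻¹ := by group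
      rw [h2, hcc] at h1
      simpa using h1
    obtain ⟨σ, hσ1, hσ2⟩ := FrameL.exists_sl3 F
    have hcent : ∀ j, σ j ⟨c, hcK⟩ = 1 ∨ σ j ⟨c, hcK⟩ = -1 := by
      intro j
      by_cases hj : j = i
      · subst hj
        right
        rw [hσ2]
        intro u hu
        change c * u * c⁻¹ * u ∈ Z
        rw [hc]
        exact F.einv j u hu
      · left
        rw [hσ1]
        intro u hu
        change c * u * c⁻¹ * u⁻¹ ∈ Z
        rw [hc, F.eU i j hj u hu, mul_inv_cancel]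
        exact Z.one_mem
    have hQ : x * c * x⁻¹ * c⁻¹ ∈ Q := by
      refine FrameL.kernel F fun j u hu => ?_
      have h1 : σ j (⟨x, hxK⟩ * ⟨c, hcK⟩ * (⟨x, hxK⟩)⁻¹ * (⟨c, hcK⟩)⁻¹) = 1 := by
        have h2 := neg_one_comm (hcent j) (σ j ⟨x, hxK⟩)
        rw [map_mul, map_mul, map_mul, map_inv, map_inv]
        have h3 : σ j ⟨c, hcK⟩ * σ j ⟨x, hxK⟩ = σ j ⟨x, hxK⟩ * σ j ⟨c, hcK⟩ := mul_inv_eq_iff_eq_mul.1 h2
        rw [← h3, mul_inv_cancel_right, mul_inv_cancel]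
      exact (hσ1 j _).1 h1 u hu
    obtain ⟨w, hw⟩ : ∃ w, w = c * x * c⁻¹ * x := ⟨_, rfl⟩
    rw [← hw] at hcx
    have h1 : x * c * x⁻¹ * c⁻¹ = x * x * w⁻¹ := by
      have h2 : c * x * c⁻¹ = w * x⁻¹ := by rw [hw]; group
      calc x * c * x⁻¹ * c⁻¹ = x * (c * x * c⁻¹)⁻¹ := by group
        _ = x * (w * x⁻¹)⁻¹ := by rw [h2]
        _ = _ := by group
    rw [h1] at hQ
    have h2 : x * x ∈ Q := by
      have h3 : x * x = x * x * w⁻¹ * w := by group
      rw [h3]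
      exact Q.mul_mem hQ (T.ZQ hcx)
    exact FrameL.mem_of_sq F' hx h2
  -- (c)
  have hab : ∀ x ∈ Q', c * x * c⁻¹ * x ∈ Z' → ∀ y ∈ Q', c * y * c⁻¹ * y ∈ Z' → x * y = y * x := by
    intro x hx hcx y hy hcy
    have h1 := T.triv (F.comZ x (hb x hx hcx) y (hb y hy hcy)) (F'.comZ x hx y hy)
    exact mul_inv_eq_iff_eq_mul.1 (mul_inv_eq_one.1 h1)
  -- (d)
  have hd0 : ∀ y ∈ Q', c * y * c⁻¹ * y⁻¹ ∈ Q' ∧
      c * (c * y * c⁻¹ * y⁻¹) * c⁻¹ * (c * y * c⁻¹ * y⁻¹) = 1 := by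
    intro y hy
    refine ⟨Q'.mul_mem (F'.conjQ c hcC' y hy) (Q'.inv_mem hy), ?_⟩
    calc c * (c * y * c⁻¹ * y⁻¹) * c⁻¹ * (c * y * c⁻¹ * y⁻¹)
        = (c * c) * y * c⁻¹ * (y⁻¹ * (c⁻¹ * c) * y) * c⁻¹ * y⁻¹ := by group
      _ = 1 * y * c * (y⁻¹ * 1 * y) * c⁻¹ * y⁻¹ := by rw [hcc, inv_mul_cancel, hci]
      _ = 1 := by group
  have hd : ∀ x ∈ Q', c * x * c⁻¹ * x ∈ Z' → x ∈ Z' := by
    intro x hx hcx
    refine F'.cenZ x hx fun y hy => ?_
    obtain ⟨h1, h2⟩ := hd0 y hy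
    refine anti F' hcC' hx hy hcx ?_
    exact hab x hx hcx _ h1 (by rw [h2]; exact Z'.one_mem)
  -- (e)
  have he : c ∈ Q' := by
    refine F'.CQ (mem_centralizer_iff.2 fun y hy => ?_)
    obtain ⟨h1, h2⟩ := hd0 y hy
    have h3 := hd _ h1 (by rw [h2]; exact Z'.one_mem)
    rw [← FrameL.zc F' h3 hcC', mul_inv_cancel_right] at h2
    have h4 := FrameL.eq_one_of_sq F' h1 h2
    exact (mul_inv_eq_iff_eq_mul.1 (mul_inv_eq_one.1 h4)).symm
  have hf : c = 1 := FrameL.eq_one_of_sq F' he hcc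
  obtain ⟨x, hx, hxZ⟩ := FrameL.exists_not_mem F i
  apply hxZ
  have h1 := F.einv i x hx
  rw [← hc, hf] at h1
  have h2 : (1 : G) * x * 1⁻¹ * x = x * x := by group
  rw [h2] at h1
  exact FrameL.mem_of_sq F (F.UleQ i hx) h1

/-- the components of elements of `Z'` -/
theorem comp_not_mem [Finite G] {i : Fin 3} {a y : G} (ht : a * y ∈ Z') (h1 : a * y ≠ 1)
    (hy : e i * y = y * e i) : a ∉ Z := by
  intro ha
  obtain ⟨t, ht', hne⟩ := T.no_comm i
  apply hne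
  have h2 : e i * (a * y) = a * y * e i := by
    have h3 := FrameL.zc T.F ha (T.F.eC i)
    calc e i * (a * y) = (e i * a) * y := by group
      _ = (a * e i) * y := by rw [h3]
      _ = a * (e i * y) := by group
      _ = a * (y * e i) := by rw [hy]
      _ = _ := by group
  have h3 : t ∈ zpowers (a * y) :=
    eq_of_mem_of_card_prime Nat.prime_three T.F'.cardZ ht h1 (mem_zpowers _) ht'
  obtain ⟨n, rfl⟩ := mem_zpowers_iff.1 h3
  have h4 : Commute (e i) (a * y) := h2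
  exact (h4.zpow_right n).eq

/-- `S3` -/
theorem comp_mem' [Finite G] {i : Fin 3} {a y : G} (ha : a ∈ U i) (ht : a * y ∈ Z') (h1 : a * y ≠ 1)
    (hy : ∀ u ∈ U i, u * y = y * u) : a ∈ Q' := by
  have F := T.F
  have F' := T.F'
  have hZQ' := T.ZleQ'
  have haQ : a ∈ Q := F.UleQ i ha
  have hgen : Z' ≤ zpowers (a * y) :=
    eq_of_mem_of_card_prime Nat.prime_three F'.cardZ ht h1 (mem_zpowers _)
  have haC : a ∈ centralizer (Z' : Set G) := by
    refine mem_centralizer_iff.2 fun t ht => ?_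
    obtain ⟨n, rfl⟩ := mem_zpowers_iff.1 (hgen ht)
    have h2 : Commute (a * y) a := (Commute.refl a).mul_left (hy a ha).symm
    exact (h2.zpow_left n).eq
  have ha3 : a ^ 3 = 1 := F.exp a haQ
  have haN : ∀ j, ∀ u ∈ U' j, a * u * a⁻¹ ∈ U' j := fun j u hu => T.N' a haC ha3 j u hu
  refine FrameL.kernel F' fun j u hu => ?_
  obtain ⟨k, l, hkj, hlj, hkl⟩ : ∃ k l : Fin 3, k ≠ j ∧ l ≠ j ∧ k ≠ l := by
    have h0 : ∀ i : Fin 3, ∃ j k : Fin 3, j ≠ i ∧ k ≠ i ∧ j ≠ k := by decide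
    exact h0 j
  obtain ⟨z, hz, hz1, hZz⟩ := FrameL.exists_gen F
  have hzQ' := hZQ' hz
  obtain ⟨b, hb, y', hy'Q, hzb, hy', hey'⟩ := dec_i F' hzQ' k
  have hbZ : b ∉ Z' := T.symm.comp_not_mem (i := k) (a := b) (y := y') (by rw [← hzb]; exact hz)
    (by rw [← hzb]; exact hz1) hey'
  have huQ' := F'.UleQ j hu
  have hw : (u * z * u⁻¹ * z⁻¹)⁻¹ ∈ Z' := Z'.inv_mem (F'.comZ u huQ' z hzQ')
  obtain ⟨v, hv, hvb⟩ := conj_line_U F' hb hbZ hw
  obtain ⟨w, hwdef⟩ : ∃ w, w = (u * z * u⁻¹ * z⁻¹)⁻¹ := ⟨_, rfl⟩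
  rw [← hwdef] at hw hvb
  have hvQ' := F'.UleQ k hv
  have hvz : v * z * v⁻¹ = w * z := by
    rw [hzb]
    have h2 := hy' v hv
    calc v * (b * y') * v⁻¹ = (v * b * v⁻¹) * (v * y') * v⁻¹ := by group
      _ = (w * b) * (y' * v) * v⁻¹ := by rw [hvb, h2]
      _ = _ := by group
  obtain ⟨p, hp⟩ : ∃ p, p = u * v := ⟨_, rfl⟩
  have hpQ' : p ∈ Q' := hp ▸ Q'.mul_mem huQ' hvQ'
  have hpz : p * z = z * p := by
    have h2 : p * z * p⁻¹ = z := by
      have h3 := FrameL.zc F' hw (F'.QleC huQ')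
      calc p * z * p⁻¹ = u * (v * z * v⁻¹) * u⁻¹ := by rw [hp]; group
        _ = (u * w) * z * u⁻¹ := by rw [hvz]; group
        _ = (w * u) * z * u⁻¹ := by rw [h3]
        _ = w * (u * z * u⁻¹ * z⁻¹) * z := by group
        _ = z := by rw [hwdef]; group
    exact mul_inv_eq_iff_eq_mul.1 h2
  have hpC : p ∈ centralizer (Z : Set G) := by
    refine mem_centralizer_iff.2 fun x hx => ?_
    have hx' : x ∈ zpowers z := by rw [← hZz]; exact hx
    obtain ⟨n, rfl⟩ := mem_zpowers_iff.1 hx'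
    have h2 : Commute z p := hpz.symm
    exact (h2.zpow_left n).eq
  have hp3 : p ^ 3 = 1 := F'.exp p hpQ'
  have hpN : ∀ x ∈ U i, p * x * p⁻¹ ∈ U i := fun x hx => T.N p hpC hp3 i x hx
  have hpN' : ∀ x ∈ U i, p⁻¹ * x * p ∈ U i := by
    intro x hx
    have h2 := T.N p⁻¹ (inv_mem hpC) (by rw [inv_pow, hp3, inv_one]) i x hx
    rwa [inv_inv] at h2
  have hpt : p * (a * y) = a * y * p := (FrameL.zc F' ht (F'.QleC hpQ')).symm
  -- `[p, a] ∈ Z`
  obtain ⟨ζ, hζ⟩ : ∃ ζ, ζ = a⁻¹ * (p * a * p⁻¹) := ⟨_, rfl⟩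
  have hζU : ζ ∈ U i := hζ ▸ (U i).mul_mem ((U i).inv_mem ha) (hpN a ha)
  have hζ2 : ζ = y * (p * y * p⁻¹)⁻¹ := by
    rw [hζ]
    have h2 : p * a * p⁻¹ = a * y * (p * y * p⁻¹)⁻¹ := by
      calc p * a * p⁻¹ = (p * (a * y)) * p⁻¹ * (p * y * p⁻¹)⁻¹ := by group
        _ = (a * y * p) * p⁻¹ * (p * y * p⁻¹)⁻¹ := by rw [hpt]
        _ = _ := by group
    rw [h2]
    group
  have hζZ : ζ ∈ Z := by
    refine FrameL.cenU F hζU fun x hx => ?_
    have c1 : Commute x y := hy x hx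
    have c2 : Commute x (p * y * p⁻¹) := by
      have h2 := hy _ (hpN' x hx)
      change x * (p * y * p⁻¹) = (p * y * p⁻¹) * x
      calc x * (p * y * p⁻¹) = p * ((p⁻¹ * x * p) * y) * p⁻¹ := by group
        _ = p * (y * (p⁻¹ * x * p)) * p⁻¹ := by rw [h2]
        _ = _ := by group
    have h3 : Commute x ζ := by
      rw [hζ2]
      exact c1.mul_right c2.inv_right
    exact h3.eq.symm
  -- `a p a⁻¹ = ζ⁻¹ p`
  have hap : a * p * a⁻¹ * p⁻¹ = ζ⁻¹ := by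
    have h2 : p * a * p⁻¹ = ζ * a := by
      rw [FrameL.zc F hζZ (F.QleC haQ), hζ]
      group
    have h3 : p * a = ζ * a * p := by rw [← h2]; group
    calc a * p * a⁻¹ * p⁻¹ = ζ⁻¹ * (ζ * a * p) * a⁻¹ * p⁻¹ := by group
      _ = ζ⁻¹ * (p * a) * a⁻¹ * p⁻¹ := by rw [h3]
      _ = ζ⁻¹ := by group
  obtain ⟨r, hr⟩ : ∃ r, r = (a * u * a⁻¹ * u⁻¹) * (a * v * a⁻¹ * v⁻¹) := ⟨_, rfl⟩
  have hu' := haN j u hu
  have hv' := haN k v hv
  have hvv : a * v * a⁻¹ * v⁻¹ ∈ U' k := (U' k).mul_mem hv' ((U' k).inv_mem hv)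
  have huu : a * u * a⁻¹ * u⁻¹ ∈ U' j := (U' j).mul_mem hu' ((U' j).inv_mem hu)
  have hrZ : r ∈ Z := by
    have h2 := F'.comm j k hkj.symm _ ((U' j).inv_mem hu) _ hvv
    have h3 : r = a * p * a⁻¹ * p⁻¹ := by
      rw [hr, hp]
      calc (a * u * a⁻¹ * u⁻¹) * (a * v * a⁻¹ * v⁻¹) = a * u * a⁻¹ * (u⁻¹ * (a * v * a⁻¹ * v⁻¹)) := by group
        _ = a * u * a⁻¹ * ((a * v * a⁻¹ * v⁻¹) * u⁻¹) := by rw [h2]
        _ = _ := by group
    rw [h3, hap]
    exact Z.inv_mem hζZ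
  have hr1 : r = 1 := by
    by_contra hne
    have h2 : e' l * r = r * e' l := by
      have c1 : Commute (e' l) (a * u * a⁻¹ * u⁻¹) :=
        mul_inv_eq_iff_eq_mul.1 (F'.eU l j hlj.symm _ huu)
      have c2 : Commute (e' l) (a * v * a⁻¹ * v⁻¹) :=
        mul_inv_eq_iff_eq_mul.1 (F'.eU l k hkl _ hvv)
      rw [hr]
      exact (c1.mul_right c2).eq
    exact T.symm.comp_not_mem (i := l) (a := 1) (y := r) (by rw [one_mul]; exact hrZ)
      (by rw [one_mul]; exact hne) h2 Z'.one_mem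
  have h2 : a * u * a⁻¹ * u⁻¹ = (a * v * a⁻¹ * v⁻¹)⁻¹ := by
    rw [hr] at hr1
    exact eq_inv_of_mul_eq_one_left hr1
  refine FrameL.inf F' hkj.symm huu ?_
  rw [h2]
  exact (U' k).inv_mem hvv

/-- the map of a pair -/
theorem next (h : G) (h1 : ∀ x ∈ Z', h * x * h⁻¹ ∈ Q') (h2 : ¬ ∀ x ∈ Z', h * x * h⁻¹ ∈ Z') :
    Two Z' Q' U' e' (Z'.map (MulAut.conj h).toMonoidHom) (Q'.map (MulAut.conj h).toMonoidHom)
      (fun i => (U' i).map (MulAut.conj h).toMonoidHom) (fun i => MulAut.conj h (e' i)) where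
  F := T.F'
  F' := T.F'.map (MulAut.conj h)
  N := T.N'
  N' := T.N'.map h
  ZQ := by
    rintro _ ⟨x, hx, rfl⟩
    exact h1 x hx
  ne := by
    intro h3
    apply h2
    intro x hx
    exact h3 ⟨x, hx, rfl⟩

/-- `S4` -/
theorem false [Finite G] : False := by
  have F := T.F
  have F' := T.F'
  have hZQ' := T.ZleQ'
  obtain ⟨t, ht, ht1, hZt⟩ := FrameL.exists_gen F'
  obtain ⟨z, hz, hz1, hZz⟩ := FrameL.exists_gen F
  have htQ : t ∈ Q := T.ZQ ht
  have htQ' : t ∈ Q' := FrameL.ZleQ F' ht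
  have htZ : t ∉ Z := fun h => ht1 (T.triv h ht)
  have hzQ' : z ∈ Q' := hZQ' hz
  obtain ⟨a, ha, y, hyQ, hta, hay, hey⟩ := dec_i F htQ 0
  obtain ⟨b, hb, y', hyQ', hzb, hby, hey'⟩ := dec_i F' hzQ' 0
  have haQ := F.UleQ 0 ha
  have haZ : a ∉ Z := T.comp_not_mem (i := 0) (by rw [← hta]; exact ht) (by rw [← hta]; exact ht1) hey
  have hbZ' : b ∉ Z' := T.symm.comp_not_mem (i := 0) (by rw [← hzb]; exact hz) (by rw [← hzb]; exact hz1) hey'
  have haQ' : a ∈ Q' := T.comp_mem' ha (by rw [← hta]; exact ht) (by rw [← hta]; exact ht1) hay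
  have hbQ : b ∈ Q := T.symm.comp_mem' hb (by rw [← hzb]; exact hz) (by rw [← hzb]; exact hz1) hby
  obtain ⟨s, hs⟩ : ∃ s, s = e 0 * t * (e 0)⁻¹ := ⟨_, rfl⟩
  obtain ⟨w, hw⟩ : ∃ w, w = e 0 * a * (e 0)⁻¹ * a := ⟨_, rfl⟩
  have hwZ : w ∈ Z := hw ▸ F.einv 0 a ha
  have hsay : s = w * a⁻¹ * y := by
    rw [hs, hta]
    calc e 0 * (a * y) * (e 0)⁻¹ = e 0 * a * (e 0)⁻¹ * (e 0 * y) * (e 0)⁻¹ := by group
      _ = e 0 * a * (e 0)⁻¹ * (y * e 0) * (e 0)⁻¹ := by rw [hey]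
      _ = (e 0 * a * (e 0)⁻¹ * a) * a⁻¹ * y := by group
      _ = w * a⁻¹ * y := by rw [← hw]
  have hsQ : s ∈ Q := hs ▸ F.conjQ _ (F.eC 0) t htQ
  have hyQ'2 : y ∈ Q' := by
    have h1 : y = a⁻¹ * t := by rw [hta]; group
    rw [h1]
    exact Q'.mul_mem (Q'.inv_mem haQ') htQ'
  have hsQ' : s ∈ Q' := by
    rw [hsay]
    exact Q'.mul_mem (Q'.mul_mem (hZQ' hwZ) (Q'.inv_mem haQ')) hyQ'2
  have hsZ : s ∉ Z := by
    intro h
    apply htZ
    have h1 : t = (e 0)⁻¹ * s * e 0 := by rw [hs]; group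
    rw [h1, mul_assoc, FrameL.zc F h (F.eC 0), ← mul_assoc, inv_mul_cancel, one_mul]
    exact h
  obtain ⟨c, hc, x, hxQ', hsc, hcx, hex⟩ := dec_i F' hsQ' 0
  have hbs : b * s = s * b := by
    have h1 := T.triv (F.comZ b hbQ s hsQ) (F'.comZ b (F'.UleQ 0 hb) s hsQ')
    exact mul_inv_eq_iff_eq_mul.1 (mul_inv_eq_one.1 h1)
  have hbc : b * c = c * b := by
    rw [hsc] at hbs
    have h1 := hcx b hb
    have h2 : (b * c) * x = (c * b) * x := by
      calc (b * c) * x = b * (c * x) := by group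
        _ = c * x * b := hbs
        _ = c * (b * x) := by rw [h1]; group
        _ = _ := by group
    exact mul_right_cancel h2
  obtain ⟨n, hn⟩ := cent_U F' hb hbZ' hc hbc
  -- the element `z ^ n * s`
  have he's : e' 0 * (z ^ n * s) = z ^ n * s * e' 0 := by
    have h1 : z ^ n = b ^ n * y' ^ n := by
      rw [hzb]
      have h2 : Commute b y' := hby b hb
      exact h2.mul_zpow n
    have h2 : y' ^ n * c = c * y' ^ n := by
      have h3 : Commute c y' := hby c hc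
      exact (h3.zpow_right n).eq.symm
    have h3 : z ^ n * s = (b ^ n * c) * (y' ^ n * x) := by
      rw [h1, hsc]
      calc b ^ n * y' ^ n * (c * x) = b ^ n * (y' ^ n * c) * x := by group
        _ = b ^ n * (c * y' ^ n) * x := by rw [h2]
        _ = _ := by group
    have c1 : Commute (e' 0) (b ^ n * c) := (FrameL.zc F' hn (F'.eC 0)).symm
    have c2 : Commute (e' 0) y' := hey'
    have c3 : Commute (e' 0) x := hex
    rw [h3]
    exact (c1.mul_right ((c2.zpow_right n).mul_right c3)).eq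
  obtain ⟨q, hq, hqs⟩ := FrameL.conj_line F hsQ hsZ (w := z ^ n) (Z.zpow_mem hz n)
  obtain ⟨h, hh⟩ : ∃ h, h = q * e 0 := ⟨_, rfl⟩
  have hht : h * t * h⁻¹ = z ^ n * s := by
    rw [← hqs, hs, hh]
    group
  have hz' : ∀ x ∈ Z', ∃ m : ℤ, h * x * h⁻¹ = (z ^ n * s) ^ m := by
    intro x hx
    rw [hZt] at hx
    obtain ⟨m, rfl⟩ := mem_zpowers_iff.1 hx
    exact ⟨m, by rw [← conj_zpow, hht]⟩
  have hns : z ^ n * s ∈ Q' := Q'.mul_mem (Q'.zpow_mem hzQ' n) hsQ'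
  have T2 := T.next h (by
    intro x hx
    obtain ⟨m, hm⟩ := hz' x hx
    rw [hm]
    exact Q'.zpow_mem hns m) (by
    intro hcon
    have h1 := hcon t ht
    rw [hht] at h1
    -- `z ^ n * s = t ^ m`
    have h1' : z ^ n * s ∈ zpowers t := by rw [← hZt]; exact h1
    obtain ⟨m, hm⟩ := mem_zpowers_iff.1 h1'
    have hzn : z ^ n ∈ Z := Z.zpow_mem hz n
    have ht3 : t ^ (3 : ℤ) = 1 := by
      have := F.exp t htQ
      exact_mod_cast this
    have hm3 : m % 3 = 0 ∨ m % 3 = 1 ∨ m % 3 = 2 := by omega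
    have htm : t ^ m = t ^ (m % 3) := by
      conv_lhs => rw [← Int.mul_ediv_add_emod m 3]
      rw [zpow_add, zpow_mul, ht3, one_zpow, one_mul]
    rw [htm] at hm
    have hyU : ∀ u ∈ U 0, u * y = y * u := hay
    rcases hm3 with h3 | h3 | h3
    · rw [h3, zpow_zero] at hm
      apply hsZ
      have h4 : s = (z ^ n)⁻¹ := eq_inv_of_mul_eq_one_right hm.symm
      rw [h4]
      exact Z.inv_mem hzn
    · rw [h3, zpow_one] at hm
      -- `t s⁻¹ = z ^ n`, `a * a ∈ Z`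
      apply haZ
      refine FrameL.mem_of_sq F haQ ?_
      have h4 : a * a = w * z ^ n := by
        have h5 : z ^ n = t * s⁻¹ := by rw [hm]; group
        have h6 : w * (a * a) = a * a * w := FrameL.zc F hwZ (F.QleC (Q.mul_mem haQ haQ))
        rw [h5, hta, hsay]
        calc a * a = w * (a * a) * w⁻¹ := by rw [h6]; group
          _ = _ := by group
      rw [h4]
      exact Z.mul_mem hwZ hzn
    · rw [h3] at hm
      -- `y ∈ Z`
      have hyZ : y ∈ Z := by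
        refine FrameL.mem_of_sq F hyQ ?_
        have h4 : t * s ∈ Z := by
          have h5 : t ^ (2 : ℤ) = t⁻¹ := by
            have h6 : t ^ (2 : ℤ) * t = 1 := by
              have : t ^ (2 : ℤ) * t = t ^ (3 : ℤ) := by group
              rw [this, ht3]
            exact eq_inv_of_mul_eq_one_left h6
          rw [h5] at hm
          have h6 : t * s = (z ^ n)⁻¹ := by
            have h7 : z ^ n * (t * s) = 1 := by
              have h8 := FrameL.zc F hzn (F.QleC htQ)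
              calc z ^ n * (t * s) = (z ^ n * t) * s := by group
                _ = (t * z ^ n) * s := by rw [h8]
                _ = t * (z ^ n * s) := by group
                _ = 1 := by rw [← hm]; group
            exact eq_inv_of_mul_eq_one_right h7
          rw [h6]
          exact Z.inv_mem hzn
        have h5 : t * s = w * (y * y) := by
          rw [hta, hsay]
          have h6 := hay a⁻¹ ((U 0).inv_mem ha)
          have h7 : w * (a * y) = a * y * w := FrameL.zc F hwZ (F.QleC (Q.mul_mem haQ hyQ))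
          calc a * y * (w * a⁻¹ * y) = (a * y * w) * a⁻¹ * y := by group
            _ = (w * (a * y)) * a⁻¹ * y := by rw [h7]
            _ = w * a * (y * a⁻¹) * y := by group
            _ = w * a * (a⁻¹ * y) * y := by rw [h6]
            _ = _ := by group
        rw [h5] at h4
        exact (Z.mul_mem_cancel_left hwZ).1 h4
      refine T.comp_not_mem (i := 1) (a := 1) (y := t) (by rw [one_mul]; exact ht) (by rw [one_mul]; exact ht1)
        ?_ Z.one_mem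
      have c1 : Commute (e 1) a := mul_inv_eq_iff_eq_mul.1 (F.eU 1 0 (by decide) a ha)
      have c2 : Commute (e 1) y := (FrameL.zc F hyZ (F.eC 1)).symm
      rw [hta]
      exact (c1.mul_right c2).eq)
  obtain ⟨r, hr, hne⟩ := T2.no_comm 0
  apply hne
  rw [mem_map_conj'] at hr
  obtain ⟨m, hm⟩ := hz' _ hr
  have h1 : r = (z ^ n * s) ^ m := by
    rw [← hm]
    group
  have c1 : Commute (e' 0) (z ^ n * s) := he's
  rw [h1]
  exact (c1.zpow_right m).eq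

end Two

/-- **Theorem T.**  If `Z` has a conjugate in `Q` different from `Z`, then some element of order three of `C(Z)`
moves a block. -/
theorem exists_moving [Finite G] (F : Frame Z Q U e)
    (fus : ∃ g : G, (∀ x ∈ Z, g * x * g⁻¹ ∈ Q) ∧ ¬ ∀ x ∈ Z, g * x * g⁻¹ ∈ Z) :
    ∃ c ∈ centralizer (Z : Set G), c ^ 3 = 1 ∧ ∃ i, ∃ u ∈ U i, c * u * c⁻¹ ∉ U i := by
  by_contra hcon
  have N : Fix Z U := by
    intro c hc hc3 i u hu
    by_contra h
    exact hcon ⟨c, hc, hc3, i, u, hu, h⟩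
  obtain ⟨g, h1, h2⟩ := fus
  have T : Two Z Q U e (Z.map (MulAut.conj g).toMonoidHom) (Q.map (MulAut.conj g).toMonoidHom)
      (fun i => (U i).map (MulAut.conj g).toMonoidHom) (fun i => MulAut.conj g (e i)) :=
    { F := F
      F' := F.map (MulAut.conj g)
      N := N
      N' := N.map g
      ZQ := by
        rintro _ ⟨x, hx, rfl⟩
        exact h1 x hx
      ne := by
        intro h3
        apply h2
        intro x hx
        exact h3 ⟨x, hx, rfl⟩ }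
  exact T.false

end Cfsg.Agent.H836.T3Move
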