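import Cfsg.Agent.H469.PiBS.Def
import Cfsg.Agent.H836.CosetPi
import Cfsg.Agent.S2363
import Cfsg.Agent.SmallSimple.S1000.PSLFacts
import Cfsg.Agent.SmallSimple.PSLTwoPart
import Cfsg.Prelude.Def_Sporadic

/-!
# S3876, groups of Lie type in characteristic `p ∉ π`

The Hall `π`-subgroup is a `p`-complement; `S3608` (subgroups of prime power index) and `S2363` (`|S| < |S|_p³`) leave
`A₅`, `PSL_d(q)` with `q` a power of a prime of `π`, and `PSL₂(11)`.
-/

set_option autoImplicit false

namespace Cfsg.Agent.H836.CosetEnd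

open Cfsg Subgroup
open Cfsg.Agent.H469.PiBS

universe u

/-- the conclusion of S3608 -/
def Idx (G : Type u) [Group G] (p k : ℕ) : Prop :=
    (5 ≤ p ^ k ∧ Nonempty (G ≃* alternatingGroup (Fin (p ^ k)))) ∨
    (∃ (d : ℕ) (F : Type) (_ : Field F) (_ : Fintype F), 2 ≤ d ∧
      Fintype.card F ^ d - 1 = p ^ k * (Fintype.card F - 1) ∧
      Nonempty (G ≃* Matrix.ProjectiveSpecialLinearGroup (Fin d) F)) ∨
    (p ^ k = 11 ∧ (Nonempty (G ≃* Matrix.ProjectiveSpecialLinearGroup (Fin 2) (ZMod 11)) ∨ Cfsg.IsM11 G)) ∨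
    (p ^ k = 23 ∧ Cfsg.IsM23 G) ∨
    (p ^ k = 27 ∧ Nonempty (G ≃* Cfsg.PSp 2 (ZMod 3)))

variable {S : Type u} [Group S] [Finite S]

/-- the Hall subgroup is a `p`-complement -/
theorem exists_compl {p : ℕ} (hp : p.Prime) {π : Set ℕ} (hpπ : p ∉ π)
    (hall : ∀ r : ℕ, r.Prime → r ∣ Nat.card S → r ≠ p → r ∈ π) {H : Subgroup S} (hH : IsPiHall π H) :
    H.index = p ^ (Nat.card S).factorization p := by
  have hi0 : H.index ≠ 0 := index_ne_zero_of_finite
  have h1 : ∀ r : ℕ, r.Prime → r ∣ H.index → r = p := by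
    intro r hr hri
    by_contra hne
    exact hH.2 r hr (hall r hr (hri.trans H.index_dvd_card) hne) hri
  have h2 : H.index = p ^ H.index.factorization p := by
    conv_lhs => rw [← Nat.prod_factorization_pow_eq_self hi0]
    rw [Finsupp.prod_of_support_subset (s := {p}) _ ?_ _ (by simp)]
    · simp
    · intro r hr
      rw [Finset.mem_singleton]
      have := Nat.support_factorization H.index ▸ hr
      exact h1 r (Nat.prime_of_mem_primeFactors this) (Nat.dvd_of_mem_primeFactors this)
  have h3 : ¬ p ∣ Nat.card H := fun h => hpπ (hH.1 p hp h)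
  have h4 : (Nat.card S).factorization p = H.index.factorization p := by
    rw [← H.card_mul_index, Nat.factorization_mul Nat.card_pos.ne' hi0, Finsupp.add_apply,
      Nat.factorization_eq_zero_of_not_dvd h3, zero_add]
  rw [h4]
  exact h2

/-- In a simple group of order 660 no subgroup of order 60 contains a subgroup of order 12 with a normal subgroup of
order 3. -/
theorem sixty_false [IsSimpleGroup S] (hc : Nat.card S = 660) {H K R : Subgroup S} (hH : Nat.card H = 60)
    (hK : Nat.card K = 12) (hR : Nat.card R = 3) (hRK : R ≤ K) (hKH : K ≤ H)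
    (hn : ∀ k ∈ K, ∀ r ∈ R, k * r * k⁻¹ ∈ R) : False := by
  classical
  have : Fact (Nat.Prime 3) := ⟨by norm_num⟩
  -- `R` as a Sylow 3-subgroup of `H`
  have hfac : (Nat.card H).factorization 3 = 1 := by
    rw [hH]
    have : (60 : ℕ) = 3 * 20 := by norm_num
    rw [this, Nat.factorization_mul (by norm_num) (by norm_num), Finsupp.add_apply,
      Nat.Prime.factorization_self (by norm_num), Nat.factorization_eq_zero_of_not_dvd (by norm_num)]
  have hRH : R ≤ H := hRK.trans hKH
  have hcR : Nat.card ↥(R.subgroupOf H) = 3 := by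
    rw [Nat.card_congr (subgroupOfEquivOfLe hRH).toEquiv, hR]
  let P : Sylow 3 H := Sylow.ofCard (R.subgroupOf H) (by rw [hcR, hfac, pow_one])
  have hP : (P : Subgroup H) = R.subgroupOf H := rfl
  have h1 : (normalizer ((R.subgroupOf H : Subgroup H) : Set H)).index % 3 = 1 := by
    have h2 := card_sylow_modEq_one 3 H
    rw [P.card_eq_index_normalizer] at h2
    exact h2
  have hKN : K.subgroupOf H ≤ normalizer ((R.subgroupOf H : Subgroup H) : Set H) := by
    intro k hk
    refine mem_normalizer_fintype fun y hy => ?_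
    exact hn _ hk _ hy
  have hKc : Nat.card ↥(K.subgroupOf H) = 12 := by
    rw [Nat.card_congr (subgroupOfEquivOfLe hKH).toEquiv, hK]
  have hKi : (K.subgroupOf H).index = 5 := by
    have := (K.subgroupOf H).card_mul_index
    rw [hKc, hH] at this
    omega
  have h3 : (normalizer ((R.subgroupOf H : Subgroup H) : Set H)).index ∣ 5 := hKi ▸ index_dvd_of_le hKN
  have h4 : (normalizer ((R.subgroupOf H : Subgroup H) : Set H)).index = 1 := by
    rcases (Nat.dvd_prime (by norm_num)).1 h3 with h | h
    · exact h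
    · rw [h] at h1
      omega
  rw [index_eq_one] at h4
  -- so `H` normalises `R`
  have hHN : H ≤ normalizer (R : Set S) := by
    intro h hh
    have h5 : (⟨h, hh⟩ : H) ∈ normalizer ((R.subgroupOf H : Subgroup H) : Set H) := h4 ▸ mem_top _
    refine mem_normalizer_fintype fun y hy => ?_
    exact (mem_normalizer_iff.1 h5 ⟨y, hRH hy⟩).1 hy
  have hfacS : (Nat.card S).factorization 3 = 1 := by
    rw [hc]
    have : (660 : ℕ) = 3 * 220 := by norm_num
    rw [this, Nat.factorization_mul (by norm_num) (by norm_num), Finsupp.add_apply,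
      Nat.Prime.factorization_self (by norm_num), Nat.factorization_eq_zero_of_not_dvd (by norm_num)]
  let Q : Sylow 3 S := Sylow.ofCard R (by rw [hR, hfacS, pow_one])
  have h6 : (normalizer (R : Set S)).index % 3 = 1 := by
    have h2 := card_sylow_modEq_one 3 S
    rw [Q.card_eq_index_normalizer] at h2
    exact h2
  have hHi : H.index = 11 := by
    have := H.card_mul_index
    rw [hH, hc] at this
    omega
  have h7 : (normalizer (R : Set S)).index ∣ 11 := hHi ▸ index_dvd_of_le hHN
  have h8 : (normalizer (R : Set S)).index = 1 := by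
    rcases (Nat.dvd_prime (by norm_num)).1 h7 with h | h
    · exact h
    · rw [h] at h6
      omega
  rw [index_eq_one, normalizer_eq_top_iff] at h8
  rcases IsSimpleGroup.eq_bot_or_eq_top_of_normal R h8 with h | h
  · rw [h, card_bot] at hR
    omega
  · rw [h, card_top, hc] at hR
    omega

/-- **The row of a group of Lie type in characteristic `p ∉ π`.** -/
theorem row_of {p : ℕ} (hp : p.Prime) (hG : IsLieTypeChar p S) {π : Set ℕ} (h2 : 2 ∈ π) (hpπ : p ∉ π)
    (h3608 : ∀ (H : Subgroup S) (p k : ℕ), p.Prime → 1 ≤ k → H.index = p ^ k → Idx S p k)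
    (hAlt : Nonempty (S ≃* alternatingGroup (Fin 5)) → Row π S)
    (hIn : ∀ r : ℕ, r.Prime → r ∈ π → IsPSLChar r S → Row π S)
    (h11 : Nonempty (S ≃* Matrix.ProjectiveSpecialLinearGroup (Fin 2) (ZMod 11)) →
      ∃ K R : Subgroup S, Nat.card K = 12 ∧ Nat.card R = 3 ∧ R ≤ K ∧ ∀ k ∈ K, ∀ r ∈ R, k * r * k⁻¹ ∈ R) :
    Row π S := by
  have : Fact p.Prime := ⟨hp⟩
  have hs : IsSimpleGroup S := H400.LieSimple.isSimple_of_lie hG
  intro A x l h
  have hx1 : x ≠ 1 := h.ne_one
  have hxp : ¬ p ∣ orderOf x := by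
    rw [h.ord]
    intro h1
    rw [(Nat.prime_dvd_prime_iff_eq hp h.prime).1 h1] at hpπ
    exact hpπ h.lpi
  have hX : ∀ g ∈ A, IsPiSubgroup π (closure ({x, g * x * g⁻¹} : Set (MulAut S))) := by
    intro g hg
    have h1 := h.pairs 1 (one_mem A) g hg
    rwa [one_mul, inv_one, mul_one] at h1
  have hA : (MulAut.conj (G := S)).range ≤ A := by
    rintro _ ⟨s, rfl⟩
    exact h.inn s
  have hall : ∀ r : ℕ, r.Prime → r ∣ Nat.card S → r ≠ p → r ∈ π := fun r hr hrS hrp =>
    CosetPi.prime_mem hG hpπ hA h.mem hx1 hxp hX hr hrS hrp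
  have hpS : p ∣ Nat.card S := H330.Gow.dvd_card (H330.Gow.hasSplit_of_ab (H716.SplitAb.hasSplitAb_of_lie hp hG))
  obtain ⟨H, hH, -⟩ := h.dom ⊥ (by
    intro r hr hd
    rw [card_bot] at hd
    exact absurd (Nat.dvd_one.1 hd) hr.one_lt.ne')
  obtain ⟨k, hk⟩ : ∃ k, k = (Nat.card S).factorization p := ⟨_, rfl⟩
  have hk1 : 1 ≤ k := hk ▸ hp.factorization_pos_of_dvd Nat.card_pos.ne' hpS
  have hidx := exists_compl hp hpπ hall hH
  rw [← hk] at hidx
  have hcube := (Cfsg.Agent.S2363.result p hp hG).1
  rw [← hk, mul_comm, pow_mul] at hcube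
  have hpodd : p ≠ 2 := fun h1 => hpπ (h1 ▸ h2)
  rcases h3608 H p k hp hk1 hidx with ⟨h5, ⟨e⟩⟩ | ⟨d, F, iF, iFt, hd, hF, ⟨e⟩⟩ | ⟨h1, h3⟩ | ⟨h1, h3⟩ | ⟨h1, ⟨e⟩⟩
  · -- alternating
    have hcA : 2 * Nat.card S = (p ^ k).factorial := by
      have : Nontrivial (Fin (p ^ k)) := Fin.nontrivial_iff_two_le.2 (by omega)
      rw [Nat.card_congr e.toEquiv, two_mul_nat_card_alternatingGroup, Nat.card_perm, Nat.card_eq_fintype_card,
        Fintype.card_fin]
    have h7 : p ^ k < 6 := by
      by_contra hge
      push Not at hge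
      have h6 : ∀ n : ℕ, 6 ≤ n → 2 * n ^ 3 ≤ n.factorial := by
        intro n hn
        induction n, hn using Nat.le_induction with
        | base => decide
        | succ n hn ih =>
          rw [Nat.factorial_succ]
          have h9 : 2 * (n + 1) ^ 3 ≤ (n + 1) * (2 * n ^ 3) := by
            have h10 : (n + 1) ^ 2 ≤ n ^ 3 := by nlinarith [Nat.pow_le_pow_left hn 2]
            calc 2 * (n + 1) ^ 3 = (n + 1) * (2 * (n + 1) ^ 2) := by ring
              _ ≤ (n + 1) * (2 * n ^ 3) := by gcongr
          exact h9.trans (Nat.mul_le_mul_left _ ih)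
      have := h6 _ hge
      omega
    have h8 : p ^ k = 5 := by omega
    rw [h8] at e
    exact hAlt ⟨e⟩ A x l h
  · -- linear groups
    obtain ⟨r, hr⟩ := CharP.exists F
    have hrp : r.Prime := CharP.char_is_prime F r
    obtain ⟨n, -, hn⟩ := FiniteField.card F r
    have hrF : r ∣ Fintype.card F := by
      rw [hn]
      exact dvd_pow_self r n.ne_zero
    have hcF : 2 ≤ Fintype.card F := Fintype.one_lt_card
    have hrne : r ≠ p := by
      rintro rfl
      have h3 : r ∣ Fintype.card F ^ d := dvd_pow hrF (by omega)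
      have h4 : r ∣ Fintype.card F ^ d - 1 := by
        rw [hF]
        exact Dvd.dvd.mul_right (dvd_pow_self r (by omega)) _
      have h5 : r ∣ 1 := by
        have h6 : 1 ≤ Fintype.card F ^ d := Nat.one_le_pow _ _ (by omega)
        have h7 := Nat.dvd_sub h3 h4
        rwa [Nat.sub_sub_self h6] at h7
      exact hrp.one_lt.ne' (Nat.dvd_one.1 h5)
    have h4 : d = 2 → 4 ≤ Fintype.card F := by
      rintro rfl
      by_contra hlt
      push Not at hlt
      have h5 : Fintype.card F + 1 = p ^ k := by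
        have h6 : Fintype.card F ^ 2 - 1 = (Fintype.card F + 1) * (Fintype.card F - 1) := by
          have := Nat.sq_sub_sq (Fintype.card F) 1
          rwa [one_pow] at this
        rw [h6] at hF
        exact Nat.eq_of_mul_eq_mul_right (by omega) hF
      rcases (by omega : Fintype.card F = 2 ∨ Fintype.card F = 3) with h6 | h6
      · rw [h6] at h5
        have h7 : Nat.card S = 6 := by
          rw [Nat.card_congr e.toEquiv, SmallSimple.PSLTwoPart.card_psl_two_even (by rw [h6]; decide), h6]
          norm_num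
        obtain ⟨P⟩ : Nonempty (Sylow p S) := inferInstance
        have h8 : Nat.card (P : Subgroup S) = 3 := by
          rw [P.card_eq_multiplicity, ← hk, ← h5]
        have h9 : (P : Subgroup S).index = 2 := by
          have := (P : Subgroup S).card_mul_index
          rw [h8, h7] at this
          omega
        rcases IsSimpleGroup.eq_bot_or_eq_top_of_normal (P : Subgroup S) (normal_of_index_eq_two h9) with h10 | h10
        · rw [h10, card_bot] at h8
          omega
        · rw [h10, index_top] at h9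
          omega
      · rw [h6] at h5
        have h7 : p ∣ 2 ^ 2 := by
          rw [show (2 : ℕ) ^ 2 = 3 + 1 by norm_num, h5]
          exact dvd_pow_self p (by omega)
        exact hpodd ((Nat.prime_dvd_prime_iff_eq hp Nat.prime_two).1 (hp.dvd_of_dvd_pow h7))
    have hPSL : IsPSLChar r S := ⟨F, iF, iFt, hr, d, hd, h4, ⟨e⟩⟩
    have hrS : r ∣ Nat.card S := by
      have : Fact r.Prime := ⟨hrp⟩
      exact H330.Gow.dvd_card (H330.Gow.hasSplit_of_ab (H716.SplitAb.hasSplitAb_of_lie hrp (Or.inl hPSL)))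
    exact hIn r hrp (hall r hrp hrS hrne) hPSL A x l h
  · rcases h3 with ⟨⟨e⟩⟩ | hM
    · exfalso
      obtain ⟨K, R, hK, hR, hRK, hn⟩ := h11 ⟨e⟩
      have hc : Nat.card S = 660 := by
        have := SmallSimple.PSLTwoPart.card_psl_two_odd (F := ZMod 11) (by decide)
        rw [Nat.card_congr e.toEquiv]
        simp only [ZMod.card] at this
        omega
      have hp11 : p = 11 := by
        have : p ∣ 11 := h1 ▸ dvd_pow_self p (by omega)
        exact (Nat.prime_dvd_prime_iff_eq hp (by norm_num)).1 this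
      obtain ⟨H', hH', hKH'⟩ := h.dom K (by
        intro r hr hd
        refine hall r hr (hd.trans (card_subgroup_dvd_card K)) ?_
        rintro rfl
        rw [hK, hp11] at hd
        omega)
      have hH'i := exists_compl hp hpπ hall hH'
      rw [← hk, h1] at hH'i
      have hH'c : Nat.card H' = 60 := by
        have := H'.card_mul_index
        rw [hH'i, hc] at this
        omega
      exact sixty_false hc hH'c hK hR hRK hKH' hn
    · exfalso
      rw [hM.2, h1] at hcube
      norm_num at hcube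
  · exfalso
    rw [h3.2, h1] at hcube
    norm_num at hcube
  · exfalso
    have hp3 : p = 3 := by
      have : p ∣ 3 ^ 3 := by
        rw [show (3 : ℕ) ^ 3 = 27 by norm_num, ← h1]
        exact dvd_pow_self p (by omega)
      exact (Nat.prime_dvd_prime_iff_eq hp (by norm_num)).1 (hp.dvd_of_dvd_pow this)
    have hc : Nat.card S = 25920 := by
      rw [Nat.card_congr e.toEquiv]
      exact SmallSimple.PSLFacts.card_psp_two_three (F := ZMod 3) (ZMod.card 3)
    have h3 : 3 ^ 4 ∣ p ^ k * 1 := by
      have h4 : 3 ^ 4 ∣ Nat.card S := by rw [hc]; norm_num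
      have h5 := (hp.pow_dvd_iff_le_factorization (k := 4) Nat.card_pos.ne').1 (hp3 ▸ h4 : p ^ 4 ∣ Nat.card S)
      rw [mul_one, hk, hp3]
      exact pow_dvd_pow 3 (hp3 ▸ h5)
    rw [mul_one, h1] at h3
    norm_num at h3

end Cfsg.Agent.H836.CosetEnd
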