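import Cfsg.Agent.H831.Types
import Cfsg.Agent.H845.T6Iso
import Cfsg.Agent.KFacts.FiTT.Final

/-!
# Type `M(22)`: the isomorphism with the presented `Fi22`, with `D` tracked (helper836)

The results of helper831 (`FGroup`, `IsT6`) and helper845 (the isomorphism) in the form `TK e = D`.
-/

set_option autoImplicit false

namespace Cfsg.Agent.H836.Bridge

open Cfsg Cfsg.Agent.KFacts.FiTT

universe u

/-- **A group of type `M(22)` is isomorphic to `Fi22` by an isomorphism which maps `D` to the class of transpositions.** -/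
theorem exists_iso {G : Type u} [Group G] [Finite G] {D : Set G} (hD : Cfsg.IsThreeTranspositionGroup D)
    (hprim : Cfsg.IsPrimitiveUnderConj D) (h22 : Cfsg.IsOfTypeM22 G D) : ∃ e : G ≃* Spor.Fi22, TK e = D := by
  obtain ⟨e, -, he⟩ := Cfsg.Agent.H845.T6Iso.exists_iso (Cfsg.Agent.H831.Types.fgroup_m22 hD hprim h22)
    (Cfsg.Agent.H831.Types.isT6 hD hprim h22)
  exact ⟨e.symm, he⟩

end Cfsg.Agent.H836.Bridge
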