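import Cfsg.Agent.H330.Gow
import Cfsg.Agent.CharactersDeep.AbelianQuotient

/-!
# Gow's theorem for a coset

Let `N` be a normal subgroup of `L` that is a simple group of Lie type in characteristic `p`, `L = N ⟨t⟩`, `p` prime to
`|L : N|` and to `|C_L(t)|`, and suppose that no product of a conjugate of `t⁻¹` and a conjugate of `t` is a nontrivial
`p`-element. Then every nontrivial `p`-regular element of `N` is the product of a conjugate of `t⁻¹` and a conjugate
of `t`.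
-/

set_option autoImplicit false

namespace Cfsg.Agent.H836.CosetGow

open Cfsg Subgroup
open Cfsg.Agent.Characters.Core
open Cfsg.Agent.CharactersDeep (AbelianQuotient.exists_linear_dual AbelianQuotient.classInner_restrict_self)
open Cfsg.Agent.BpLieP.Big (LocChar)
open Cfsg.Agent.Omega.ML.LieRow.CRB (HasSplitAb)
open scoped ComplexConjugate

section Restrict

variable {L : Type*} [Group L]

theorem exists_zpow (N : Subgroup L) [N.Normal] {t : L} (hgen : N ⊔ zpowers t = ⊤) (x : L) :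
    ∃ n ∈ N, ∃ i : ℤ, n * t ^ i = x := by
  have hx : x ∈ ((N ⊔ zpowers t : Subgroup L) : Set L) := by rw [hgen]; exact mem_top x
  rw [Subgroup.normal_mul] at hx
  obtain ⟨n, hn, y, hy, rfl⟩ := hx
  obtain ⟨i, rfl⟩ := mem_zpowers_iff.1 hy
  exact ⟨n, hn, i, rfl⟩

theorem quot_comm (N : Subgroup L) [N.Normal] {t : L} (hgen : N ⊔ zpowers t = ⊤) (x y : L) :
    x * y * x⁻¹ * y⁻¹ ∈ N := by
  obtain ⟨n, hn, i, rfl⟩ := exists_zpow N hgen x
  obtain ⟨m, hm, j, rfl⟩ := exists_zpow N hgen y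
  rw [← QuotientGroup.eq_one_iff]
  have h1 : ((n : L) : L ⧸ N) = 1 := (QuotientGroup.eq_one_iff n).2 hn
  have h2 : ((m : L) : L ⧸ N) = 1 := (QuotientGroup.eq_one_iff m).2 hm
  simp only [QuotientGroup.mk_mul, QuotientGroup.mk_inv, QuotientGroup.mk_zpow, h1, h2, one_mul]
  group

theorem restrict_irr [Finite L] (N : Subgroup L) [N.Normal] {t : L} (hgen : N ⊔ zpowers t = ⊤) {χ : L → ℂ}
    (hχ : IsIrrCharacter L χ) (h0 : χ t ≠ 0) : IsIrrCharacter N (fun n : N => χ n) := by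
  classical
  have := Fintype.ofFinite L
  have := Fintype.ofFinite N
  obtain ⟨Λ, hΛ, -, h1, h2⟩ := AbelianQuotient.exists_linear_dual N (quot_comm N hgen)
  have hc : IsCharacter N (fun n : N => χ n) := isCharacter_comp N.subtype (isIrr_isCharacter hχ)
  rw [isIrr_iff_classInner_self hc, AbelianQuotient.classInner_restrict_self N hχ Λ h1 h2]
  have h3 : Λ.filter (fun l => (fun g => (l g : ℂ)) * χ = χ) = {1} := by
    ext l
    simp only [Finset.mem_filter, Finset.mem_singleton]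
    constructor
    · rintro ⟨hl, h⟩
      have h3 : (l t : ℂ) * χ t = χ t := congrFun h t
      have h4 : (l t : ℂ) = 1 := mul_right_cancel₀ h0 (h3.trans (one_mul _).symm)
      have h5 : l t = 1 := Units.ext h4
      refine MonoidHom.ext fun x => ?_
      obtain ⟨n, hn, i, rfl⟩ := exists_zpow N hgen x
      rw [map_mul, map_zpow, h5, one_zpow, mul_one, (hΛ l).1 hl n hn, MonoidHom.one_apply]
    · rintro rfl
      refine ⟨(hΛ 1).2 fun _ _ => rfl, ?_⟩
      ext x
      simp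
  rw [h3]
  simp

end Restrict

section Count

variable {L : Type*} [Group L] [Finite L]

omit [Finite L] in
theorem card_one (t : L) :
    Nat.card {q : L × L // q.1 * t⁻¹ * q.1⁻¹ * (q.2 * t * q.2⁻¹) = 1} =
      Nat.card L * Nat.card ↥(centralizer ({t} : Set L)) := by
  rw [← Nat.card_prod]
  refine Nat.card_congr ⟨fun q => (q.1.1, ⟨q.1.1⁻¹ * q.1.2, ?_⟩), fun q => ⟨(q.1, q.1 * q.2.1), ?_⟩, ?_, ?_⟩
  · obtain ⟨⟨g, h⟩, hq⟩ := q
    simp only at hq ⊢
    rw [mem_centralizer_singleton_iff]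
    have h1 : h * t * h⁻¹ = g * t * g⁻¹ := by
      rw [mul_eq_one_iff_inv_eq] at hq
      rw [← hq]
      group
    calc g⁻¹ * h * t = g⁻¹ * (h * t * h⁻¹) * h := by group
      _ = t * (g⁻¹ * h) := by rw [h1]; group
  · obtain ⟨g, c, hc⟩ := q
    simp only
    have h1 := mem_centralizer_singleton_iff.1 hc
    calc g * t⁻¹ * g⁻¹ * (g * c * t * (g * c)⁻¹) = g * t⁻¹ * (c * t) * c⁻¹ * g⁻¹ := by group
      _ = 1 := by rw [h1]; group
  · rintro ⟨⟨g, h⟩, hq⟩
    simp
  · rintro ⟨g, c, hc⟩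
    simp

/-- The number of pairs whose product lies in the subgroup `U` in terms of the characters. -/
theorem card_centralizer_eq [Fintype (IrrCharacter L)] (t : L) (N : Subgroup L) (U : Subgroup N) [Fintype U]
    (hU : ∀ g h : L, ∀ u : U, g * t⁻¹ * g⁻¹ * (h * t * h⁻¹) = ((u : N) : L) → (u : N) = 1) :
    (Nat.card ↥(centralizer ({t} : Set L)) : ℂ) = ∑ ψ : IrrCharacter L, (ψ : L → ℂ) t⁻¹ * (ψ : L → ℂ) t *
      ((∑ u : U, conj ((ψ : L → ℂ) (u : N))) / (ψ : L → ℂ) 1) := by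
  classical
  have hc0 : (Nat.card L : ℂ) ≠ 0 := by exact_mod_cast Nat.card_pos.ne'
  have h1 : ∀ u : U, (Nat.card {q : L × L // q.1 * t⁻¹ * q.1⁻¹ * (q.2 * t * q.2⁻¹) = ((u : N) : L)} : ℂ) =
      if u = 1 then (Nat.card L : ℂ) * (Nat.card ↥(centralizer ({t} : Set L)) : ℂ) else 0 := by
    intro u
    split_ifs with hu
    · rw [hu, OneMemClass.coe_one, OneMemClass.coe_one, card_one, Nat.cast_mul]
    · have : IsEmpty {q : L × L // q.1 * t⁻¹ * q.1⁻¹ * (q.2 * t * q.2⁻¹) = ((u : N) : L)} :=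
        ⟨fun q => hu (Subtype.ext (hU q.1.1 q.1.2 u q.2))⟩
      rw [Nat.card_of_isEmpty, Nat.cast_zero]
  have h2 : ∑ u : U, (Nat.card {q : L × L // q.1 * t⁻¹ * q.1⁻¹ * (q.2 * t * q.2⁻¹) = ((u : N) : L)} : ℂ) =
      (Nat.card L : ℂ) * (Nat.card ↥(centralizer ({t} : Set L)) : ℂ) := by
    rw [Finset.sum_congr rfl fun u _ => h1 u, Finset.sum_ite_eq' Finset.univ (1 : U)]
    simp
  have h4 : ∑ u : U, (Nat.card {q : L × L // q.1 * t⁻¹ * q.1⁻¹ * (q.2 * t * q.2⁻¹) = ((u : N) : L)} : ℂ) =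
      ∑ u : U, (Nat.card L : ℂ) * ∑ χ : IrrCharacter L,
        (χ : L → ℂ) t⁻¹ * (χ : L → ℂ) t * conj ((χ : L → ℂ) ((u : N) : L)) / (χ : L → ℂ) 1 :=
    Finset.sum_congr rfl fun u _ => Characters.ClassMul.card_conj_mul_conj t⁻¹ t ((u : N) : L)
  rw [h4, ← Finset.mul_sum] at h2
  have h3 := mul_left_cancel₀ hc0 h2
  rw [← h3, Finset.sum_comm]
  refine Finset.sum_congr rfl fun ψ _ => ?_
  rw [Finset.sum_div, Finset.mul_sum]
  refine Finset.sum_congr rfl fun u _ => ?_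
  ring

end Count

section Local

variable {N : Type*} [Group N] [Finite N] {p : ℕ} [Fact p.Prime] {M : Ideal AlgInt}

/-- the sum of a character over a subgroup -/
theorem exists_sum_eq (U : Subgroup N) [Fintype U] {θ : N → ℂ} (hθ : IsIrrCharacter N θ) :
    ∃ m : ℕ, ∑ u : U, conj (θ u) = (Nat.card U : ℂ) * m := by
  obtain ⟨m, hm⟩ := classInner_isNat (isCharacter_one (G := U)) (isCharacter_comp U.subtype (isIrr_isCharacter hθ))
  refine ⟨m, ?_⟩
  rw [← hm, classInner_def]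
  have h0 : (Nat.card U : ℂ) ≠ 0 := by exact_mod_cast Nat.card_pos.ne'
  simp only [Pi.one_apply, one_mul, Function.comp_apply, subtype_apply]
  field_simp

theorem exists_eq (P : Sylow p N) [Fintype (P : Subgroup N)] {θ : N → ℂ} (hθ : IsIrrCharacter N θ) :
    ∃ n1 n2 m : ℕ, Nat.card N / charDegree θ = n1 ∧ ¬ p ∣ n2 ∧
      (∑ u : (P : Subgroup N), conj (θ u)) / θ 1 = (n1 : ℂ) / n2 * m := by
  have hp : p.Prime := Fact.out
  obtain ⟨m, hm⟩ := exists_sum_eq (P : Subgroup N) hθ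
  obtain ⟨k, hk⟩ := Blocks.Knorr.charDegree_dvd hθ
  have hd0 : charDegree θ ≠ 0 := (Blocks.Basic.charDegree_pos hθ).ne'
  have hd0' : (charDegree θ : ℂ) ≠ 0 := by exact_mod_cast hd0
  have hk1 : Nat.card N / charDegree θ = k := by
    rw [hk, Nat.mul_div_cancel_left _ (Nat.pos_of_ne_zero hd0)]
  refine ⟨k, (P : Subgroup N).index, m, hk1, P.not_dvd_index, ?_⟩
  have h1 : (Nat.card (P : Subgroup N) : ℂ) * ((P : Subgroup N).index : ℂ) = (charDegree θ : ℂ) * k := by
    rw [← Nat.cast_mul, ← Nat.cast_mul, Subgroup.card_mul_index, hk]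
  have hi0 : ((P : Subgroup N).index : ℂ) ≠ 0 := by exact_mod_cast Subgroup.index_ne_zero_of_finite
  rw [hm, Blocks.Basic.irr_one_eq_charDegree hθ]
  field_simp
  linear_combination (m : ℂ) * h1

theorem sum_div_memLocalRing (hM : IsPModular p M) (P : Sylow p N) [Fintype (P : Subgroup N)] {θ : N → ℂ}
    (hθ : IsIrrCharacter N θ) : MemLocalRing M ((∑ u : (P : Subgroup N), conj (θ u)) / θ 1) := by
  have hp : p.Prime := Fact.out
  have := Blocks.Local.isPrime_of_isPModular hM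
  obtain ⟨n1, n2, m, h1, h2, h3⟩ := exists_eq P hθ
  rw [h3, div_eq_mul_inv]
  exact Blocks.Local.memLocalRing_mul (Blocks.Local.memLocalRing_mul (Blocks.Local.memLocalRing_natCast n1)
    (Blocks.Local.memLocalRing_inv_natCast hM h2)) (Blocks.Local.memLocalRing_natCast m)

theorem sum_div_memLocalIdeal (hM : IsPModular p M) (P : Sylow p N) [Fintype (P : Subgroup N)] {θ : N → ℂ}
    (hθ : IsIrrCharacter N θ) (hd : p ∣ Nat.card N / charDegree θ) :
    MemLocalIdeal M ((∑ u : (P : Subgroup N), conj (θ u)) / θ 1) := by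
  have hp : p.Prime := Fact.out
  have := Blocks.Local.isPrime_of_isPModular hM
  obtain ⟨n1, n2, m, h1, h2, h3⟩ := exists_eq P hθ
  rw [h3, div_eq_mul_inv]
  rw [h1] at hd
  exact Blocks.Local.memLocalIdeal_mul_right (Blocks.Local.memLocalIdeal_mul_right
    ((Blocks.Local.memLocalIdeal_natCast_iff hM n1).2 hd) (Blocks.Local.memLocalRing_inv_natCast hM h2))
    (Blocks.Local.memLocalRing_natCast m)

end Local

section Main

variable {L : Type*} [Group L] [Finite L]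

/-- **Gow's theorem for a coset.** -/
theorem coset_gow (N : Subgroup L) [N.Normal] {p : ℕ} [Fact p.Prime] (hS : HasSplitAb p N)
    (hL : LocChar p N) (hcen : center N = ⊥) (hperf : commutator N = ⊤) {t : L} (hgen : N ⊔ zpowers t = ⊤)
    (ht : ¬ p ∣ Nat.card ↥(centralizer ({t} : Set L)))
    (hU : ∀ g h : L, (∃ k : ℕ, (g * t⁻¹ * g⁻¹ * (h * t * h⁻¹)) ^ p ^ k = 1) →
      g * t⁻¹ * g⁻¹ * (h * t * h⁻¹) = 1) {z : N} (hz : z ≠ 1) (hzr : ¬ p ∣ orderOf z) :
    ∃ g h : L, g * t⁻¹ * g⁻¹ * (h * t * h⁻¹) = z := by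
  classical
  have hp : p.Prime := Fact.out
  have : Fintype (IrrCharacter L) := @Fintype.ofFinite _ S0909.finite_irr
  obtain ⟨M, hM⟩ := Blocks.ExistsModular.exists_isPModular hp
  have hMp := Blocks.Local.isPrime_of_isPModular hM
  have hdvd := H330.Gow.dvd_card (H330.Gow.hasSplit_of_ab hS)
  obtain ⟨χ, hχ, hχ1, hχv⟩ := H330.GowSt.exists_st_of_hasSplit (H330.Gow.hasSplit_of_ab hS)
  let st : IrrCharacter N := ⟨χ, hχ⟩
  have hdeg : charDegree χ = p ^ (Nat.card N).factorization p := Blocks.Basic.charDegree_of_eq hχ1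
  have hst : ¬ p ∣ Nat.card N / charDegree (st : N → ℂ) := by
    rw [H143.ChevBlocks.not_dvd_iff st.2]
    show _ ≤ (charDegree χ).factorization p
    rw [hdeg, hp.factorization_pow]
    simp
  have huniq : ∀ ψ : IrrCharacter N, ¬ p ∣ Nat.card N / charDegree (ψ : N → ℂ) → ψ = st := fun ψ hψ =>
    H330.GowOne.unique_of_hasSplitAb hS hperf ψ st hψ hst
  by_contra hcon
  push Not at hcon
  -- restrictions
  let res : IrrCharacter L → N → ℂ := fun ψ n => (ψ : L → ℂ) n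
  have hres : ∀ ψ : IrrCharacter L, (ψ : L → ℂ) t ≠ 0 → IsIrrCharacter N (res ψ) := fun ψ h =>
    restrict_irr N hgen ψ.2 h
  let a : IrrCharacter L → ℂ := fun ψ => (ψ : L → ℂ) t⁻¹ * (ψ : L → ℂ) t
  have haint : ∀ ψ, MemLocalRing M (a ψ) := fun ψ => Blocks.Local.memLocalRing_of_isIntegral
    ((CharactersDeep.ModCongr.isIntegral_irr ψ.2 t⁻¹).mul (CharactersDeep.ModCongr.isIntegral_irr ψ.2 t))
  let F : Finset (IrrCharacter L) := Finset.univ.filter fun ψ => (ψ : L → ℂ) t ≠ 0 ∧ res ψ = χ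
  have hF : ∀ ψ, ψ ∉ F → a ψ = 0 ∨ ∃ θ : IrrCharacter N, θ ≠ st ∧ (θ : N → ℂ) = res ψ := by
    intro ψ hψ
    by_cases h0 : (ψ : L → ℂ) t = 0
    · left
      show (ψ : L → ℂ) t⁻¹ * (ψ : L → ℂ) t = 0
      rw [h0, mul_zero]
    · right
      refine ⟨⟨res ψ, hres ψ h0⟩, ?_, rfl⟩
      intro h
      apply hψ
      rw [Finset.mem_filter]
      exact ⟨Finset.mem_univ _, h0, congrArg Subtype.val h⟩
  -- the first sum
  have hcount : Nat.card {q : L × L // q.1 * t⁻¹ * q.1⁻¹ * (q.2 * t * q.2⁻¹) = (z : L)} = 0 := by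
    have : IsEmpty {q : L × L // q.1 * t⁻¹ * q.1⁻¹ * (q.2 * t * q.2⁻¹) = (z : L)} := ⟨fun q => hcon _ _ q.2⟩
    exact Nat.card_of_isEmpty
  have hsum := Characters.ClassMul.card_conj_mul_conj t⁻¹ t (z : L)
  rw [hcount, Nat.cast_zero] at hsum
  have hc0 : (Nat.card L : ℂ) ≠ 0 := by exact_mod_cast Nat.card_pos.ne'
  have hsum0 := (mul_eq_zero.1 hsum.symm).resolve_left hc0
  have hsum1 : ∑ ψ : IrrCharacter L, a ψ * centralChar (res ψ) z⁻¹ = 0 := by
    have h1 : ∀ ψ : IrrCharacter L, a ψ * centralChar (res ψ) z⁻¹ =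
        ((centralizer ({z⁻¹} : Set N)).index : ℂ) *
          ((ψ : L → ℂ) t⁻¹ * (ψ : L → ℂ) t * conj ((ψ : L → ℂ) z) / (ψ : L → ℂ) 1) := by
      intro ψ
      unfold centralChar
      rw [Blocks.CyclicUpper.conj_irr ψ (z : L)]
      show (ψ : L → ℂ) t⁻¹ * (ψ : L → ℂ) t * (_ * (ψ : L → ℂ) ((z⁻¹ : N) : L) / (ψ : L → ℂ) ((1 : N) : L)) = _
      rw [InvMemClass.coe_inv, OneMemClass.coe_one]
      ring
    rw [Finset.sum_congr rfl fun ψ _ => h1 ψ, ← Finset.mul_sum, hsum0, mul_zero]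
  have hzi : z⁻¹ ≠ 1 := inv_ne_one.2 hz
  have hzri : ¬ p ∣ orderOf z⁻¹ := by rwa [orderOf_inv]
  have hA1 : MemLocalIdeal M ((∑ ψ ∈ F, a ψ) * centralChar χ z⁻¹) := by
    have h1 : (∑ ψ ∈ F, a ψ) * centralChar χ z⁻¹ = - ∑ ψ ∈ Finset.univ \ F, a ψ * centralChar (res ψ) z⁻¹ := by
      rw [eq_neg_iff_add_eq_zero, Finset.sum_mul, ← hsum1,
        ← Finset.sum_sdiff (Finset.subset_univ F), add_comm]
      congr 1
      refine Finset.sum_congr rfl fun ψ hψ => ?_
      rw [(Finset.mem_filter.1 hψ).2.2]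
    rw [h1]
    refine Blocks.Local.memLocalIdeal_neg (Blocks.Local.memLocalIdeal_sum fun ψ hψ => ?_)
    rcases hF ψ (Finset.mem_sdiff.1 hψ).2 with h2 | ⟨θ, h2, h3⟩
    · rw [h2, zero_mul]
      exact Blocks.Local.memLocalIdeal_zero
    · rw [← h3]
      exact Blocks.Local.memLocalIdeal_mul_left (haint ψ)
        (H330.GowBlock.centralChar_mem hM hdvd hL hcen st hst huniq θ h2 hzi hzri)
  have hAint : MemLocalRing M (∑ ψ ∈ F, a ψ) := Blocks.Local.memLocalRing_sum fun ψ _ => haint ψ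
  obtain ⟨m, hm, hω⟩ : ∃ m : ℕ, ¬ p ∣ m ∧ (centralChar χ z⁻¹ = (m : ℂ) ∨ centralChar χ z⁻¹ = -(m : ℂ)) := by
    have h1 := (centralizer ({z⁻¹} : Set N)).card_mul_index
    have hi0 : (centralizer ({z⁻¹} : Set N)).index ≠ 0 := Subgroup.index_ne_zero_of_finite
    have hfac : (Nat.card N).factorization p = (Nat.card ↥(centralizer ({z⁻¹} : Set N))).factorization p +
        (centralizer ({z⁻¹} : Set N)).index.factorization p := by
      rw [← h1, Nat.factorization_mul Nat.card_pos.ne' hi0]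
      rfl
    refine ⟨ordCompl[p] (centralizer ({z⁻¹} : Set N)).index, Nat.not_dvd_ordCompl hp hi0, ?_⟩
    have h2 : ((centralizer ({z⁻¹} : Set N)).index : ℂ) =
        (p : ℂ) ^ (centralizer ({z⁻¹} : Set N)).index.factorization p *
          ((ordCompl[p] (centralizer ({z⁻¹} : Set N)).index : ℕ) : ℂ) := by
      rw [← Nat.cast_pow, ← Nat.cast_mul, Nat.ordProj_mul_ordCompl_eq_self]
    have hp0 : (p : ℂ) ≠ 0 := by exact_mod_cast hp.ne_zero
    unfold centralChar
    rcases hχv z⁻¹ hzri with h3 | h3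
    · left
      rw [h3, hχ1, hfac, h2, pow_add, Nat.cast_mul, Nat.cast_pow, Nat.cast_pow]
      field_simp
    · right
      rw [h3, hχ1, hfac, h2, pow_add, Nat.cast_mul, Nat.cast_pow, Nat.cast_pow]
      field_simp
  have hm' : ¬ MemLocalIdeal M (centralChar χ z⁻¹) := by
    intro h1
    apply hm
    rw [← Blocks.Local.memLocalIdeal_natCast_iff hM]
    rcases hω with h2 | h2
    · rwa [h2] at h1
    · rw [h2] at h1
      exact Blocks.Local.memLocalIdeal_neg_iff.1 h1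
  have hωint : MemLocalRing M (centralChar χ z⁻¹) := by
    rcases hω with h2 | h2
    · rw [h2]; exact Blocks.Local.memLocalRing_natCast m
    · rw [h2]; exact Blocks.Local.memLocalRing_neg (Blocks.Local.memLocalRing_natCast m)
  have hA : MemLocalIdeal M (∑ ψ ∈ F, a ψ) :=
    (Blocks.Local.memLocalIdeal_or_of_mul hAint hωint hA1).resolve_right hm'
  -- the second sum
  obtain ⟨P⟩ : Nonempty (Sylow p N) := inferInstance
  have : Fintype (P : Subgroup N) := Fintype.ofFinite _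
  have hcen2 := card_centralizer_eq t N (P : Subgroup N) (fun g h u hu => by
    obtain ⟨k, hk⟩ := P.isPGroup' u
    have h1 := hU g h ⟨k, by
      rw [hu]
      have := congrArg (fun y : (P : Subgroup N) => (((y : N)) : L)) hk
      simpa using this⟩
    rw [hu] at h1
    exact Subtype.ext h1)
  apply ht
  rw [← Blocks.Local.memLocalIdeal_natCast_iff hM, hcen2, ← Finset.sum_sdiff (Finset.subset_univ F)]
  refine Blocks.Local.memLocalIdeal_add (Blocks.Local.memLocalIdeal_sum fun ψ hψ => ?_) ?_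
  · rcases hF ψ (Finset.mem_sdiff.1 hψ).2 with h2 | ⟨θ, h2, h3⟩
    · have h4 : (ψ : L → ℂ) t⁻¹ * (ψ : L → ℂ) t = 0 := h2
      rw [h4, zero_mul]
      exact Blocks.Local.memLocalIdeal_zero
    · refine Blocks.Local.memLocalIdeal_mul_left (haint ψ) ?_
      have h4 : (∑ u : (P : Subgroup N), conj ((ψ : L → ℂ) (u : N))) / (ψ : L → ℂ) 1 =
          (∑ u : (P : Subgroup N), conj ((θ : N → ℂ) u)) / (θ : N → ℂ) 1 := by
        rw [h3]
        show _ = (∑ u : (P : Subgroup N), conj ((ψ : L → ℂ) (u : N))) / (ψ : L → ℂ) ((1 : N) : L)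
        rw [OneMemClass.coe_one]
      rw [h4]
      refine sum_div_memLocalIdeal hM P θ.2 ?_
      by_contra h5
      exact h2 (huniq θ h5)
  · have h1 : ∑ ψ ∈ F, (ψ : L → ℂ) t⁻¹ * (ψ : L → ℂ) t *
        ((∑ u : (P : Subgroup N), conj ((ψ : L → ℂ) (u : N))) / (ψ : L → ℂ) 1) =
        (∑ ψ ∈ F, a ψ) * ((∑ u : (P : Subgroup N), conj (χ u)) / χ 1) := by
      rw [Finset.sum_mul]
      refine Finset.sum_congr rfl fun ψ hψ => ?_
      rw [← (Finset.mem_filter.1 hψ).2.2]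
      show _ = (ψ : L → ℂ) t⁻¹ * (ψ : L → ℂ) t * ((∑ u : (P : Subgroup N), conj ((ψ : L → ℂ) (u : N))) /
        (ψ : L → ℂ) ((1 : N) : L))
      rw [OneMemClass.coe_one]
    rw [h1]
    exact Blocks.Local.memLocalIdeal_mul_right hA (sum_div_memLocalRing hM P hχ)

end Main

end Cfsg.Agent.H836.CosetGow
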