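import Cfsg.Agent.H836.JFi22

/-!
# The Thompson subgroup data in a group isomorphic to `Fi22` or `Fi23` (helper836)
-/

set_option autoImplicit false

namespace Cfsg.Agent.H836.JIso

open Subgroup Cfsg Cfsg.Spor

universe u

theorem isConj_map_iff {G : Type u} [Group G] {H : Type*} [Group H] (f : G ≃* H) {x y : G} :
    IsConj (f x) (f y) ↔ IsConj x y := by
  rw [isConj_iff, isConj_iff]
  constructor
  · rintro ⟨c, hc⟩
    obtain ⟨c, rfl⟩ := f.surjective c
    exact ⟨c, f.injective (by rw [map_mul, map_mul, map_inv, hc])⟩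
  · rintro ⟨c, rfl⟩
    exact ⟨f c, by rw [map_mul, map_mul, map_inv]⟩

theorem image_eq {G : Type u} [Group G] {H : Type*} [Group H] (f : G ≃* H) {d : G} {t : H} (h : IsConj t (f d)) :
    f.symm '' {x | IsConj t x} = {x | IsConj d x} := by
  ext x
  constructor
  · rintro ⟨y, hy, rfl⟩
    have h1 : IsConj (f d) y := h.symm.trans hy
    show IsConj d (f.symm y)
    rw [← isConj_map_iff f, f.apply_symm_apply]
    exact h1
  · intro hx
    exact ⟨f x, h.trans ((isConj_map_iff f).2 hx), f.symm_apply_apply x⟩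

theorem fi22 {G : Type u} [Group G] (f : G ≃* Spor.Fi22) {d : G} (hd : f d ∈ R01.Fi22Facts.T) :
    Thompson.JData {x | IsConj d x} 10 22 (JFi22.E.map f.symm.toMonoidHom) := by
  have J := JFi22.jdata.map f.symm
  rw [← image_eq f (show IsConj _ (f d) from hd)]
  exact J

theorem fi23 {G : Type u} [Group G] (f : G ≃* Spor.Fi23) {d : G} (hd : f d ∈ R08.FiTwentyThree.D) :
    Thompson.JData {x | IsConj d x} 11 23 ((KFacts.FiTTh.BasDef.A KFacts.FiTTh.BasFi.e).map f.symm.toMonoidHom) := by
  have J := JFi23.jdata.map f.symm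
  rw [← image_eq f (show IsConj _ (f d) from hd)]
  exact J

end Cfsg.Agent.H836.JIso
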