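import Cfsg.Agent.S1713
import Cfsg.Agent.S1714
import Cfsg.Agent.KFacts.FiTTh.Has
import Cfsg.Agent.Fischer.Fi22Order
import Cfsg.Agent.H836.JIso

/-!
# Recognition of `Fi23` with its transpositions (helper836)

`exists_iso` : in the situation of S1714 (with `C(d)/⟨d⟩` as in S1713) there is `f : G ≃* Fi23` with `f d` conjugate to `z0`.
-/

set_option autoImplicit false

namespace Cfsg.Agent.H836.Rec23

open Subgroup Cfsg Cfsg.Spor
open Cfsg.Agent.KFacts.FiTTh Cfsg.Agent.R08.FiTwentyThree
open Cfsg.Agent.Fischer.Fi23Z (z0)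

universe u

theorem mem_D_of_thirteen {t : Fi23} (h2 : t * t = 1) (h1 : t ≠ 1)
    (h13 : 13 ∣ Nat.card (centralizer ({t} : Set Fi23))) : t ∈ D := by
  rcases Has.inv t h2 h1 with h | h | h
  · exact h.symm
  · rw [Has.card_cent_of_isConj h] at h13
    exact absurd h13 Cent.c2
  · rw [Has.card_cent_of_isConj h] at h13
    exact absurd h13 Cent.c3

theorem card_cent_map {G H : Type*} [Group G] [Group H] (f : G ≃* H) (x : G) :
    Nat.card (centralizer ({f x} : Set H)) = Nat.card (centralizer ({x} : Set G)) := by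
  have h : (centralizer ({x} : Set G)).map f.toMonoidHom = centralizer ({f x} : Set H) := by
    ext y
    rw [mem_centralizer_singleton_iff]
    constructor
    · rintro ⟨z, hz, rfl⟩
      have hz' := mem_centralizer_singleton_iff.1 hz
      show f z * f x = f x * f z
      rw [← map_mul, hz', map_mul]
    · intro hy
      refine ⟨f.symm y, mem_centralizer_singleton_iff.2 ?_, f.apply_symm_apply y⟩
      apply f.injective
      rw [map_mul, map_mul, f.apply_symm_apply, hy]
  rw [← h]
  exact (Nat.card_congr ((centralizer ({x} : Set G)).equivMapOfInjective _ f.injective).toEquiv).symm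

/-- see the file docstring -/
theorem exists_iso {G : Type u} [Group G] [Finite G] (d : G) (hd : orderOf d = 2)
    (hq : Cfsg.IsQuasisimple ↥(Subgroup.centralizer ({d} : Set G)))
    [hzn : ((Subgroup.zpowers d).subgroupOf (Subgroup.centralizer ({d} : Set G))).Normal]
    (hinvol : ∃ d' : ↥(Subgroup.centralizer ({d} : Set G)) ⧸ (Subgroup.zpowers d).subgroupOf (Subgroup.centralizer ({d} : Set G)),
      orderOf d' = 2 ∧ Cfsg.IsQuasisimple ↥(Subgroup.centralizer ({d'} : Set _)) ∧
      (∃ (K : Type) (_ : Field K) (_ : Fintype K), Fintype.card K = 4 ∧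
        ∃ _ : ((Subgroup.zpowers d').subgroupOf (Subgroup.centralizer ({d'} : Set _))).Normal,
          Nonempty (↥(Subgroup.centralizer ({d'} : Set _)) ⧸ (Subgroup.zpowers d').subgroupOf (Subgroup.centralizer ({d'} : Set _)) ≃* Cfsg.PSU 6 K 2)) ∧
      ∃ g, g * d' * g⁻¹ ∈ Subgroup.centralizer ({d'} : Set _) ∧ g * d' * g⁻¹ ≠ d')
    (hnwc : ∃ g : G, g * d * g⁻¹ ∈ Subgroup.centralizer ({d} : Set G) ∧ g * d * g⁻¹ ≠ d) :
    ∃ f : G ≃* Spor.Fi23, f d ∈ D := by
  obtain ⟨d', hd', hq', ⟨K, _, _, hK, hn', ⟨e⟩⟩, hnwc'⟩ := hinvol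
  have h22 := Cfsg.Agent.S1713.result d' hd' hq' K hK e hnwc'
  obtain ⟨f⟩ := Cfsg.Agent.S1714.result d hd hq h22 hnwc
  refine ⟨f, ?_⟩
  have hdd : d * d = 1 := by rw [← pow_two, ← hd, pow_orderOf_eq_one]
  apply mem_D_of_thirteen
  · rw [← map_mul, hdd, map_one]
  · intro h
    have h1 : d = 1 := f.injective (by rw [h, map_one])
    rw [h1, orderOf_one] at hd
    exact absurd hd (by norm_num)
  · rw [card_cent_map]
    obtain ⟨e'⟩ := h22
    have h1 : Nat.card (↥(Subgroup.centralizer ({d} : Set G)) ⧸ (Subgroup.zpowers d).subgroupOf (Subgroup.centralizer ({d} : Set G))) =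
        64561751654400 := by
      rw [Nat.card_congr e'.toEquiv]
      exact Cfsg.Agent.Fischer.Fi22Order.card_fi22
    have h2 : Nat.card (↥(Subgroup.centralizer ({d} : Set G)) ⧸ (Subgroup.zpowers d).subgroupOf (Subgroup.centralizer ({d} : Set G))) ∣
        Nat.card ↥(Subgroup.centralizer ({d} : Set G)) := Subgroup.card_quotient_dvd_card _
    rw [h1] at h2
    exact Dvd.dvd.trans (by norm_num) h2

end Cfsg.Agent.H836.Rec23
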