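import Cfsg.Agent.H836.S3Base

/-!
# Burnside's theorem for the normal subgroups not containing `z` (helper836)
-/

set_option autoImplicit false

namespace Cfsg.Agent.H836

open Subgroup
open scoped commutatorElement
open Cfsg.Agent.H316.Red (Ce mem_Ce mem_Ce' mem_zpowers_two le_normalizer_inf le_normalizer_commutator
  perfect_centralizes normalizer_le_normalizer_map)

variable {G : Type*} [Group G]

/-- Burnside's theorem, in a subgroup -/
theorem burnside [Finite G] {L S : Subgroup G} (hSL : S ≤ L) (h2 : IsPGroup 2 S) (hidx : ¬ 2 ∣ S.relIndex L)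
    (hN : ∀ g ∈ L, g ∈ normalizer (S : Set G) → ∀ s ∈ S, g * s = s * g) :
    ∃ N : Subgroup G, N ≤ L ∧ L ≤ normalizer (N : Set G) ∧ Odd (Nat.card N) ∧
      ∀ x ∈ L, ∃ n ∈ N, ∃ s ∈ S, x = n * s := by
  classical
  have : Fact (Nat.Prime 2) := ⟨Nat.prime_two⟩
  have hp : IsPGroup 2 (S.subgroupOf L) := h2.comap_of_injective _ (subtype_injective _)
  set P : Sylow 2 L := hp.toSylow hidx with hP
  have hPc : (P : Subgroup L) = S.subgroupOf L := rfl
  have hPN : normalizer ((P : Subgroup L) : Set L) ≤ centralizer ((P : Subgroup L) : Set L) := by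
    intro g hg
    rw [mem_centralizer_iff]
    intro s hs
    apply Subtype.ext
    rw [SetLike.mem_coe, hPc, mem_subgroupOf] at hs
    refine (hN g g.2 ?_ s hs).symm
    rw [mem_normalizer_iff]
    intro x
    constructor
    · intro hx
      have h3 := (mem_normalizer_iff.1 hg (⟨x, hSL hx⟩ : L)).1 (by rw [hPc, mem_subgroupOf]; exact hx)
      rw [hPc, mem_subgroupOf] at h3
      exact h3
    · intro hx
      have h3 := (mem_normalizer_iff.1 hg (g⁻¹ * ⟨(g : G) * x * (g : G)⁻¹, hSL hx⟩ * g : L)).2 (by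
        rw [hPc, mem_subgroupOf]
        have e : ((g * (g⁻¹ * ⟨(g : G) * x * (g : G)⁻¹, hSL hx⟩ * g) * g⁻¹ : L) : G) = (g : G) * x * (g : G)⁻¹ := by
          simp only [coe_mul, coe_inv]; group
        rw [e]; exact hx)
      rw [hPc, mem_subgroupOf] at h3
      have e : ((g⁻¹ * ⟨(g : G) * x * (g : G)⁻¹, hSL hx⟩ * g : L) : G) = x := by
        simp only [coe_mul, coe_inv]; group
      rwa [e] at h3
  obtain ⟨K, hKn, hnd, hsup⟩ : ∃ K : Subgroup L, K.Normal ∧ ¬ 2 ∣ Nat.card K ∧ K ⊔ (P : Subgroup L) = ⊤ :=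
    ⟨(MonoidHom.transferSylow P hPN).ker, MonoidHom.normal_ker _,
      MonoidHom.not_dvd_card_ker_transferSylow P hPN,
      (MonoidHom.ker_transferSylow_isComplement' P hPN).sup_eq_top⟩
  refine ⟨K.map L.subtype, map_subtype_le _, ?_, ?_, ?_⟩
  · rw [le_normalizer_iff]
    rintro g hg _ ⟨y, hy, rfl⟩
    exact ⟨⟨g, hg⟩ * y * ⟨g, hg⟩⁻¹, hKn.conj_mem y hy ⟨g, hg⟩, rfl⟩
  · rw [card_map_of_injective L.subtype_injective, ← Nat.not_even_iff_odd, even_iff_two_dvd]
    exact hnd
  · intro x hx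
    have h3 : (⟨x, hx⟩ : L) ∈ K ⊔ (P : Subgroup L) := by rw [hsup]; exact mem_top _
    obtain ⟨n, hn, s, hs, hns⟩ := mem_sup_of_normal_left.1 h3
    rw [hPc, mem_subgroupOf] at hs
    exact ⟨n, ⟨n, hn, rfl⟩, s, hs, (congrArg Subtype.val hns).symm⟩

/-- an odd order normal subgroup of a normal subgroup lies in `O(G)` -/
theorem odd_le [Finite G] {M N : Subgroup G} (hM : M.Normal) (hNM : N ≤ M) (hn : M ≤ normalizer (N : Set G))
    (hodd : Odd (Nat.card N)) : N ≤ Cfsg.oddCore G := by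
  have : Fact (Nat.Prime 2) := ⟨Nat.prime_two⟩
  have h1 : (N.subgroupOf M).Normal := by
    rw [normal_subgroupOf_iff_le_normalizer hNM]; exact hn
  have h2 : N.subgroupOf M ≤ Cfsg.pPrimeCore 2 M := by
    apply Cfsg.Agent.Lib.Cores.le_pPrimeCore h1
    apply Nat.coprime_two_right.mpr
    rw [Nat.card_congr (subgroupOfEquivOfLe hNM).toEquiv]; exact hodd
  have h3 : N ≤ (Cfsg.pPrimeCore 2 M).map M.subtype := by
    have h4 := map_mono (f := M.subtype) h2
    rwa [subgroupOf_map_subtype, inf_eq_left.2 hNM] at h4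
  refine h3.trans ?_
  apply Cfsg.Agent.Lib.Cores.le_pPrimeCore
  · have h5 := Cfsg.Agent.Lib.Cores.pPrimeCore_characteristic (G := M) 2
    have := hM
    infer_instance
  · rw [card_map_of_injective M.subtype_injective]
    exact Cfsg.Agent.Lib.Cores.pPrimeCore_coprime 2

namespace S3

variable {z : G} {J X V : Subgroup G} (h : S3 z J X V)
include h

theorem mem_sup_iff {M : Subgroup G} (hM : M.Normal) {x : G} : x ∈ M ⊔ zpowers z ↔ x ∈ M ∨ x * z ∈ M := by
  constructor
  · intro hx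
    obtain ⟨k, hk, y, hy, rfl⟩ := mem_sup_of_normal_left.1 hx
    rcases (mem_zpowers_two h.hz).1 hy with rfl | rfl
    · left; rwa [mul_one]
    · right; rwa [mul_assoc, h.zz, mul_one]
  · rintro (hx | hx)
    · exact mem_sup_left hx
    · have : x = x * z * z := by rw [mul_assoc, h.zz, mul_one]
      rw [this]
      exact mul_mem (mem_sup_left hx) (mem_sup_right (mem_zpowers z))

/-- `M ≤ O(G) (Q ∩ M)` when `M ∩ C(z) ≤ V` and `Q ∩ M ≤ V`, `Q` a Sylow 2-subgroup -/
theorem le_oddCore_sup [Finite G] (Q : Sylow 2 G) (M : Subgroup G) (hM : M.Normal) (hzM : z ∉ M)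
    (hMC : M ⊓ Ce z ≤ V) (hQM : (Q : Subgroup G) ⊓ M ≤ V) : M ≤ Cfsg.oddCore G ⊔ ((Q : Subgroup G) ⊓ M) := by
  classical
  have : Fact (Nat.Prime 2) := ⟨Nat.prime_two⟩
  set P : Subgroup G := (Q : Subgroup G) ⊓ M with hPdef
  set S : Subgroup G := P ⊔ zpowers z with hS
  have hSV : S ≤ Vz z V := sup_le (hQM.trans le_sup_left) le_sup_right
  -- elements of `S`
  have hzS : z ∈ S := mem_sup_right (mem_zpowers z)
  have hSmem : ∀ x ∈ S, x ∈ P ∨ x * z ∈ P := by
    have hPz : P ≤ normalizer (zpowers z : Set G) := by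
      rw [le_normalizer_iff]
      intro p hp x hx
      have hpJ : p ∈ J := h.V_le (hQM hp)
      exact (mem_normalizer_iff.1 (h.zpowers_norm (h.J_le hpJ)) x).1 hx
    intro x hx
    have h1 : x ∈ ((P ⊔ zpowers z : Subgroup G) : Set G) := hx
    rw [coe_mul_of_left_le_normalizer_right P (zpowers z) hPz] at h1
    obtain ⟨a, ha, b, hb, hab⟩ := Set.mem_mul.1 h1
    rcases (mem_zpowers_two h.hz).1 hb with rfl | rfl
    · left; rw [← hab, mul_one]; exact ha
    · right; rw [← hab, mul_assoc, h.zz, mul_one]; exact ha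
  have hSM : S ⊓ M = P := by
    apply le_antisymm
    · rintro x ⟨hx, hxM⟩
      rcases hSmem x hx with h1 | h1
      · exact h1
      · exfalso
        apply hzM
        have h2 : z = x⁻¹ * (x * z) := by group
        rw [h2]
        exact M.mul_mem (M.inv_mem hxM) h1.2
    · exact le_inf le_sup_left inf_le_right
  have hSp : IsPGroup 2 S := h.J_two.to_le (hSV.trans h.Vz_le)
  set L : Subgroup G := S ⊔ M with hL
  have hLz : L = M ⊔ zpowers z := by
    apply le_antisymm
    · exact sup_le (sup_le (inf_le_right.trans le_sup_left) le_sup_right) le_sup_left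
    · exact sup_le le_sup_right (le_sup_of_le_left le_sup_right)
  have hidx : ¬ 2 ∣ S.relIndex L := by
    rw [hL, Cfsg.Agent.Lib.SylowNormalInf.relIndex_sup_of_normal, ← inf_relIndex_right, hSM, hPdef,
      inf_relIndex_right]
    exact Cfsg.Agent.Lib.SylowNormalInf.not_dvd_relIndex Q M
  obtain ⟨N, hNL, hNn, hNodd, hNS⟩ := burnside (L := L) (S := S) le_sup_left hSp hidx (by
    intro g hg hgn s hs
    have h1 : g * z * g⁻¹ ∈ S := (mem_normalizer_iff.1 hgn z).1 hzS
    have hgC : g ∈ Ce z := h.key_Vz (hSV h1)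
    have hgV : g ∈ Vz z V := by
      rw [hLz, h.mem_sup_iff hM] at hg
      rcases hg with h2 | h2
      · exact mem_sup_left (hMC (mem_inf.2 ⟨h2, hgC⟩))
      · have h3 : g * z ∈ V := hMC (mem_inf.2 ⟨h2, mul_mem hgC z_mem_Ce⟩)
        have h4 : g = g * z * z := by rw [mul_assoc, h.zz, mul_one]
        rw [h4]
        exact mul_mem (mem_sup_left h3) (mem_sup_right (mem_zpowers z))
    exact h.Vz_ab g hgV s (hSV hs))
  -- `N ≤ M`
  have hNM : N ≤ M := by
    intro n hn
    have h1 : n * n ∈ M := by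
      have h2 := hNL hn
      rw [hLz, h.mem_sup_iff hM] at h2
      rcases h2 with h2 | h2
      · exact M.mul_mem h2 h2
      · have h3 : n * n = (n * z) * (z * (n * z) * z⁻¹) := by
          calc n * n = n * (z * z) * n * (z * z⁻¹) := by rw [h.zz, mul_one, mul_inv_cancel, mul_one]
            _ = _ := by group
        rw [h3]
        exact M.mul_mem h2 (hM.conj_mem _ h2 z)
    have h2 : Odd (orderOf n) := by
      have h3 : orderOf n ∣ Nat.card N := by
        rw [← Subgroup.orderOf_mk n hn]; exact orderOf_dvd_natCard _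
      exact Odd.of_dvd_nat hNodd h3
    obtain ⟨m, hm⟩ := h2
    have h3 : n = (n * n) ^ (m + 1) := by
      rw [← sq, ← pow_mul, show 2 * (m + 1) = (2 * m + 1) + 1 by ring, pow_succ, ← hm, pow_orderOf_eq_one,
        one_mul]
    rw [h3]
    exact M.pow_mem h1 _
  have hNO : N ≤ Cfsg.oddCore G := odd_le hM hNM (le_sup_right.trans hNn) hNodd
  intro x hx
  obtain ⟨n, hn, s, hs, rfl⟩ := hNS x (mem_sup_right hx)
  have hsM : s ∈ M := by
    have : s = n⁻¹ * (n * s) := by group
    rw [this]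
    exact M.mul_mem (M.inv_mem (hNM hn)) hx
  have hsP : s ∈ P := by rw [← hSM]; exact mem_inf.2 ⟨hs, hsM⟩
  exact mul_mem (mem_sup_left (hNO hn)) (mem_sup_right hsP)

end S3

end Cfsg.Agent.H836
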