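import Cfsg.Agent.H836.S3QuoLib
import Cfsg.Agent.H316.Final

/-!
# The case `O_2(G) = V` (helper836)
-/

set_option autoImplicit false
set_option linter.unusedSectionVars false

namespace Cfsg.Agent.H836

open Subgroup
open scoped commutatorElement
open Cfsg.Agent.H316.Red (Ce mem_Ce mem_Ce' mem_zpowers_two le_normalizer_inf le_normalizer_commutator
  perfect_centralizes normalizer_le_normalizer_map card_mul_relIndex' card_sq_le QData qdata_self)

universe u

variable {G : Type u} [Group G]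

theorem mem_ker_conjNormal {N : Subgroup G} [N.Normal] {g : G} :
    MulAut.conjNormal (H := N) g = 1 ↔ g ∈ centralizer (N : Set G) := by
  rw [mem_centralizer_iff]
  constructor
  · intro h1 m hm
    have h2 : ((MulAut.conjNormal g) (⟨m, hm⟩ : N) : G) = m := by rw [h1]; rfl
    rw [MulAut.conjNormal_apply] at h2
    exact (mul_inv_eq_iff_eq_mul.1 h2).symm
  · intro h1
    ext m
    rw [MulAut.conjNormal_apply]
    show g * (m : G) * g⁻¹ = m
    rw [← h1 m m.2, mul_inv_cancel_right]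

/-- if `c` is not inverted modulo `P` the class of `c` is contained in `P c`, which is impossible -/
theorem exists_inv {C : Type*} [Group C] [Finite C] {P : Subgroup C} {zc c : C} (hzP : zc ∈ P)
    (hzc : orderOf zc = 2) (hcen : ∀ g : C, g * zc = zc * g) (hc : orderOf c = 3)
    (hcard : (centralizer ({c} : Set C)).index = Nat.card P) : ∃ g : C, ∀ j ∈ P, g * c * g⁻¹ ≠ j * c := by
  by_contra hcon
  push Not at hcon
  have hcon' : ∀ g : C, g * c * g⁻¹ * c⁻¹ ∈ P := by
    intro g
    obtain ⟨j, hj, hgj⟩ := hcon g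
    rw [hgj, mul_inv_cancel_right]; exact hj
  let f : C ⧸ centralizer ({c} : Set C) → P := fun q => ⟨_, hcon' q.out⟩
  have hinj : Function.Injective f := by
    intro q q' hqq
    have h1 : q.out * c * q.out⁻¹ * c⁻¹ = q'.out * c * q'.out⁻¹ * c⁻¹ := congrArg Subtype.val hqq
    have h2 : q.out * c * q.out⁻¹ = q'.out * c * q'.out⁻¹ := mul_right_cancel h1
    rw [← QuotientGroup.out_eq' q, ← QuotientGroup.out_eq' q', QuotientGroup.eq,
      mem_centralizer_singleton_iff]
    calc q.out⁻¹ * q'.out * c = q.out⁻¹ * (q'.out * c * q'.out⁻¹) * q'.out := by group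
      _ = q.out⁻¹ * (q.out * c * q.out⁻¹) * q'.out := by rw [h2]
      _ = c * (q.out⁻¹ * q'.out) := by group
  have hbij : Function.Bijective f := by
    rw [Nat.bijective_iff_injective_and_card]
    exact ⟨hinj, hcard⟩
  obtain ⟨q, hq⟩ := hbij.2 ⟨zc, hzP⟩
  have h1 : q.out * c * q.out⁻¹ * c⁻¹ = zc := congrArg Subtype.val hq
  have h2 : q.out * c * q.out⁻¹ = zc * c := by rw [← h1]; group
  have hccc : c * c * c = 1 := by rw [← pow_three', ← hc, pow_orderOf_eq_one]
  have hzz : zc * zc = 1 := by rw [← sq, ← hzc, pow_orderOf_eq_one]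
  have h3 : (q.out * c * q.out⁻¹) * (q.out * c * q.out⁻¹) * (q.out * c * q.out⁻¹) = 1 := by
    calc (q.out * c * q.out⁻¹) * (q.out * c * q.out⁻¹) * (q.out * c * q.out⁻¹)
        = q.out * (c * c * c) * q.out⁻¹ := by group
      _ = 1 := by rw [hccc]; group
  rw [h2] at h3
  have h4 : zc * c * (zc * c) * (zc * c) = (zc * zc) * zc * (c * c * c) := by
    have e := hcen c
    calc zc * c * (zc * c) * (zc * c) = zc * (c * zc) * (c * zc) * c := by group
      _ = zc * (zc * c) * (zc * c) * c := by rw [e]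
      _ = zc * zc * (c * zc) * c * c := by group
      _ = zc * zc * (zc * c) * c * c := by rw [e]
      _ = (zc * zc) * zc * (c * c * c) := by group
  rw [h4, hzz, hccc, one_mul, mul_one] at h3
  rw [h3, orderOf_one] at hzc
  omega

namespace P3

variable {z c : G} {J X : Subgroup G} (h : P3 z J X c)
include h

theorem c_ne : c ≠ 1 := by
  intro h1
  have := h.c_ord
  rw [h1, orderOf_one] at this
  omega

theorem c_notMem_J : c ∉ J := by
  intro hc
  obtain ⟨n, hn⟩ := h.J_two ⟨c, hc⟩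
  have hn' : c ^ 2 ^ n = 1 := congrArg Subtype.val hn
  have h4 : orderOf c ∣ 2 ^ n := orderOf_dvd_of_pow_eq_one hn'
  rw [h.c_ord] at h4
  have := Nat.prime_three.dvd_of_dvd_pow h4
  omega

/-- `C(V)` -/
abbrev CV : Subgroup G := centralizer (h.Vc : Set G)

theorem c_notMem_CV [Finite G] : c ∉ h.CV := by
  intro hc
  have h1 : h.Vc ≠ ⊥ := by
    intro h1
    have := h.card_Vc
    rw [h1, card_bot] at this
    omega
  obtain ⟨⟨v, hv⟩, hv1⟩ := (h.Vc).ne_bot_iff_exists_ne_one.1 h1
  have hv1' : v ≠ 1 := fun h1 => hv1 (Subtype.ext h1)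
  have h2 : c * v = v * c := (mem_centralizer_iff.1 hc v hv).symm
  rcases h.cJ v (h.Vc_le_Z hv).1 h2 with h3 | h3
  · exact hv1' h3
  · rw [h3] at hv; exact h.z_notMem_Vc hv

theorem J_le_CV : J ≤ h.CV := by
  intro j hj
  rw [mem_centralizer_iff]
  intro v hv
  exact (Zj_comm hj (h.Vc_le_Z hv)).symm

theorem z_mem_CV : z ∈ h.CV := h.J_le_CV h.z_mem_J

/-- `C(V) ∩ J⟨c⟩ = J` -/
theorem CV_inf_D [Finite G] {x : G} (hx : x ∈ h.CV) (hxD : x ∈ J ⊔ zpowers c) : x ∈ J := by
  obtain ⟨j, hj, hxj⟩ := h.mem_D hxD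
  have hj' := h.J_le_CV hj
  rcases hxj with rfl | rfl | rfl
  · exact hj
  · exfalso
    apply h.c_notMem_CV
    have h1 := mul_mem (inv_mem hj') hx
    rwa [inv_mul_cancel_left] at h1
  · exfalso
    apply h.c_notMem_CV
    have h1 := mul_mem (inv_mem hj') hx
    rw [inv_mul_cancel_left] at h1
    have h2 := mul_mem h1 h1
    have e : c * c * (c * c) = c := by rw [← mul_assoc, h.ccc, one_mul]
    rwa [e] at h2

section normal

variable [Finite G] [hV : (h.Vc).Normal] (hinv : ∃ g ∈ Ce z, ∀ j ∈ J, g * c * g⁻¹ ≠ j * c)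
include hinv

theorem map_eq_top : (Ce z).map (MulAut.conjNormal (H := h.Vc)) = ⊤ := by
  set f : G →* MulAut h.Vc := MulAut.conjNormal (H := h.Vc) with hf
  set K := (Ce z).map f with hK
  have h6 : Nat.card (MulAut h.Vc) = 6 :=
    card_mulAut_four h.card_Vc (fun x => Subtype.ext (h.Vc_sq x.2))
  have hfin : Finite (MulAut h.Vc) := Nat.finite_of_card_ne_zero (by omega)
  have hd : Nat.card K ∣ 6 := by rw [← h6]; exact card_subgroup_dvd_card K
  have hfc : f c ≠ 1 := fun h1 => h.c_notMem_CV (mem_ker_conjNormal.1 h1)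
  have hfc3 : orderOf (f c) = 3 := by
    have : Fact (Nat.Prime 3) := ⟨Nat.prime_three⟩
    refine orderOf_eq_prime ?_ hfc
    rw [← map_pow, ← h.c_ord, pow_orderOf_eq_one, map_one]
  have hcK : f c ∈ K := ⟨c, h.c_mem, rfl⟩
  have h3 : 3 ∣ Nat.card K := by
    rw [← hfc3, ← Subgroup.orderOf_mk _ hcK]; exact orderOf_dvd_natCard _
  have hne : Nat.card K ≠ 3 := by
    intro h3'
    have hz' : zpowers (f c) = K := by
      apply eq_of_le_of_card_ge (zpowers_le.2 hcK)
      rw [h3', Nat.card_zpowers, hfc3]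
    obtain ⟨g, hg, hgj⟩ := hinv
    have hgK : f g ∈ zpowers (f c) := by rw [hz']; exact ⟨g, hg, rfl⟩
    obtain ⟨n, hn⟩ := mem_zpowers_iff.1 hgK
    have h7 : g * c * g⁻¹ * c⁻¹ ∈ h.CV := by
      refine mem_ker_conjNormal.1 ?_
      show f (g * c * g⁻¹ * c⁻¹) = 1
      rw [map_mul, map_mul, map_mul, map_inv, map_inv, ← hn]
      group
    have h8 : g * c * g⁻¹ ∈ J ⊔ zpowers c :=
      (mem_normalizer_iff.1 (h.D_norm hg) c).1 (mem_sup_right (mem_zpowers c))
    obtain ⟨j, hj, h9⟩ := h.mem_D h8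
    rcases h9 with h9 | h9 | h9
    · apply h.c_notMem_J
      have e : c = g⁻¹ * (g * c * g⁻¹) * g⁻¹⁻¹ := by group
      rw [e, h9]
      exact h.conj_J (inv_mem hg) hj
    · exact hgj j hj h9
    · apply h.c_notMem_CV
      rw [h9] at h7
      have h10 := mul_mem (inv_mem (h.J_le_CV hj)) h7
      have e : j⁻¹ * (j * (c * c) * c⁻¹) = c := by group
      rwa [e] at h10
  have hK6 : Nat.card K = 6 := by
    obtain ⟨m, hm⟩ := h3
    rw [hm] at hd hne ⊢
    have h10 : 3 * m ≤ 6 := Nat.le_of_dvd (by norm_num) hd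
    have h11 : m ≤ 2 := by omega
    interval_cases m
    · omega
    · omega
    · rfl
  exact eq_top_of_card_eq K (by rw [hK6, h6])

theorem sup_CV : Ce z ⊔ h.CV = ⊤ := by
  rw [eq_top_iff]
  intro x _
  have h1 : MulAut.conjNormal (H := h.Vc) x ∈ (Ce z).map (MulAut.conjNormal (H := h.Vc)) := by
    rw [h.map_eq_top hinv]; exact mem_top _
  obtain ⟨g, hg, hgx⟩ := h1
  have h2 : g⁻¹ * x ∈ h.CV := by
    refine mem_ker_conjNormal.1 ?_
    rw [map_mul, map_inv, hgx, inv_mul_cancel]
  have h3 : x = g * (g⁻¹ * x) := by group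
  rw [h3]
  exact mul_mem (mem_sup_left hg) (mem_sup_right h2)

theorem index_CV : (h.CV).index = 6 := by
  have h1 : (MulAut.conjNormal (H := h.Vc)).ker = h.CV := by
    ext x
    rw [MonoidHom.mem_ker]
    exact mem_ker_conjNormal
  have h2 : (MulAut.conjNormal (H := h.Vc)).range = ⊤ := by
    rw [eq_top_iff, ← h.map_eq_top hinv]
    exact map_le_range _ _
  rw [← h1, Subgroup.index_ker, h2, card_top]
  exact card_mulAut_four h.card_Vc (fun x => Subtype.ext (h.Vc_sq x.2))

theorem relIndex_CV : (h.CV).relIndex (Ce z) = 6 := by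
  have hn : (h.CV).Normal := inferInstance
  rw [← relIndex_sup_right, h.sup_CV hinv, relIndex_top_right]
  exact h.index_CV hinv

end normal

end P3

end Cfsg.Agent.H836
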