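import Cfsg.Agent.H836.S3Burn

/-!
# Reduction for involutions with a four-group in `Z(O_2(C(z)))`: the cores (helper836)

* `oddCore_eq_bot` : `G = C(z) O(G)` or `O(G) = 1`;
* `twoCore` : if `z` is not central then `O_2(G) ≤ V`.
-/

set_option autoImplicit false

namespace Cfsg.Agent.H836

open Subgroup
open scoped commutatorElement
open Cfsg.Agent.GH.C2GrowG (mem_normalizer_of conj_mem exists_mem_normalizer)
open Cfsg.Agent.H316.Red (Ce mem_Ce mem_Ce' mem_zpowers_two le_normalizer_inf le_normalizer_commutator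
  perfect_centralizes normalizer_le_normalizer_map)

variable {G : Type*} [Group G]

namespace S3

variable {z : G} {J X V : Subgroup G} (h : S3 z J X V)
include h

theorem bot_of_odd [Finite G] {O : Subgroup G} (hV : O ≤ V) (hodd : Odd (Nat.card O)) : O = ⊥ := by
  have : Fact (Nat.Prime 2) := ⟨Nat.prime_two⟩
  have h1 : IsPGroup 2 O := h.J_two.to_le (hV.trans h.V_le)
  obtain ⟨n, hn⟩ := IsPGroup.iff_card.1 h1
  apply card_eq_one.1
  rcases n with _ | n
  · rw [hn, pow_zero]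
  · rw [hn, pow_succ] at hodd
    exact absurd hodd (by rw [Nat.not_odd_iff_even]; exact even_iff_two_dvd.2 (Dvd.intro_left _ rfl))

theorem z_not_odd [Finite G] {O : Subgroup G} (hodd : Odd (Nat.card O)) : z ∉ O := by
  intro hz
  have h1 : orderOf z ∣ Nat.card O := by
    rw [← Subgroup.orderOf_mk z hz]; exact orderOf_dvd_natCard _
  rw [h.hz] at h1
  exact (Nat.not_even_iff_odd.2 hodd) (even_iff_two_dvd.2 h1)

/-- a normal subgroup of odd order meets `C(z)` trivially -/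
theorem inf_odd [Finite G] {O : Subgroup G} (hn : O.Normal) (hodd : Odd (Nat.card O)) : O ⊓ Ce z = ⊥ := by
  have hz : z ∉ O := h.z_not_odd hodd
  have h1 := h.small (O ⊓ Ce z) inf_le_right
    (le_normalizer_inf (by rw [normalizer_eq_top_iff.2 hn]; exact le_top) le_normalizer)
    (fun hx => hz hx.1)
  have h2 : Nat.card (O ⊓ Ce z : Subgroup G) ∣ Nat.card O := card_dvd_of_le inf_le_left
  exact h.bot_of_odd h1 (Odd.of_dvd_nat hodd h2)

theorem inverts [Finite G] {O : Subgroup G} (hn : O.Normal) (hodd : Odd (Nat.card O)) {o : G} (ho : o ∈ O) :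
    z * o * z⁻¹ = o⁻¹ := by
  obtain ⟨c, hc, k, hk, hzc, hzk, rfl⟩ := Cfsg.Agent.Lib.KleinGen.exists_centralizer_mul_inverted O hodd z
    h.zz (fun x hx => hn.conj_mem x hx z) ho
  have h1 : c ∈ O ⊓ Ce z := ⟨hc, mem_Ce.2 hzc.symm⟩
  rw [h.inf_odd hn hodd, mem_bot] at h1
  rw [h1, one_mul]; exact hzk

/-- a normal subgroup `M` of `G` with `z ∉ M`: `M ∩ C(z) ≤ V`, `Q ∩ M ≤ V` and `M ≤ O(G) (Q ∩ M)` -/
theorem of_notMem [Finite G] (Q : Sylow 2 G) (hQ : J ≤ (Q : Subgroup G)) {M : Subgroup G} (hM : M.Normal)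
    (hzM : z ∉ M) : M ⊓ Ce z ≤ V ∧ (Q : Subgroup G) ⊓ M ≤ V ∧
      M ≤ Cfsg.oddCore G ⊔ ((Q : Subgroup G) ⊓ M) := by
  have hMtop : normalizer (M : Set G) = ⊤ := normalizer_eq_top_iff.2 hM
  have hMC : M ⊓ Ce z ≤ V :=
    h.small _ inf_le_right (le_normalizer_inf (by rw [hMtop]; exact le_top) le_normalizer)
      (fun hx => hzM hx.1)
  have hPC : (Q : Subgroup G) ⊓ M ⊓ Ce z ≤ V := (inf_le_inf_right _ inf_le_right).trans hMC
  have hPle := h.le_of_small (P := (Q : Subgroup G) ⊓ M) (Q.isPGroup'.to_le inf_le_left)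
    (le_normalizer_inf (hQ.trans le_normalizer) (by rw [hMtop]; exact le_top)) hPC
  rw [inf_eq_left.2 hPle] at hPC
  exact ⟨hMC, hPC, h.le_oddCore_sup Q M hM hzM hMC hPC⟩

/-- `G = C(z) O(G)` or `O(G) = 1` -/
theorem oddCore_eq_bot [Finite G] : Ce z ⊔ Cfsg.oddCore G = ⊤ ∨ Cfsg.oddCore G = ⊥ := by
  classical
  have : Fact (Nat.Prime 2) := ⟨Nat.prime_two⟩
  by_cases hO1 : Cfsg.oddCore G = ⊥
  · exact Or.inr hO1
  left
  set O : Subgroup G := Cfsg.oddCore G with hOdef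
  have hOn : O.Normal := Cfsg.Agent.Lib.Cores.pPrimeCore_normal 2
  have hOodd : Odd (Nat.card O) :=
    Nat.coprime_two_right.mp (Cfsg.Agent.Lib.Cores.pPrimeCore_coprime (G := G) 2)
  have hinv : ∀ o ∈ O, z * o * z⁻¹ = o⁻¹ := fun o ho => h.inverts hOn hOodd ho
  -- the centralizer `K` of `O`
  set K : Subgroup G := centralizer (O : Set G) with hKdef
  have hKn : K.Normal := by rw [hKdef]; infer_instance
  have hzK : z ∉ K := by
    intro hz
    apply hO1
    rw [eq_bot_iff]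
    intro o ho
    have h1 : o * z = z * o := mem_centralizer_iff.1 hz o ho
    have h2 : z * o * z⁻¹ = o := by rw [← h1, mul_inv_cancel_right]
    have h3 : o = o⁻¹ := h2.symm.trans (hinv o ho)
    have h4 : o * o = 1 := by nth_rewrite 2 [h3]; exact mul_inv_cancel o
    have h5 : orderOf o ∣ 2 := orderOf_dvd_of_pow_eq_one (by rw [pow_two]; exact h4)
    have h6 : orderOf o ∣ Nat.card O := by
      rw [← Subgroup.orderOf_mk o ho]; exact orderOf_dvd_natCard _
    have h7 : Odd (orderOf o) := Odd.of_dvd_nat hOodd h6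
    rcases (Nat.dvd_prime Nat.prime_two).1 h5 with h8 | h8
    · exact mem_bot.2 (orderOf_eq_one_iff.1 h8)
    · rw [h8] at h7; exact absurd h7 (by decide)
  -- a Sylow 2-subgroup containing `J`
  obtain ⟨Q, hQ⟩ := h.J_two.exists_le_sylow
  obtain ⟨hMC, hQM, hKO⟩ := h.of_notMem Q hQ hKn hzK
  set P : Subgroup G := (Q : Subgroup G) ⊓ K with hPdef
  -- `K z` is central in `G / K`
  have hcen : ∀ g : G, g * z * g⁻¹ * z⁻¹ ∈ K := by
    intro g
    rw [hKdef, mem_centralizer_iff]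
    intro o ho
    have e1 : z⁻¹ * o * z⁻¹⁻¹ = o⁻¹ := by rw [h.z_inv]; exact hinv o ho
    have ho' : g⁻¹ * o⁻¹ * g ∈ O := by
      have := hOn.conj_mem o⁻¹ (inv_mem ho) g⁻¹
      rwa [inv_inv] at this
    have e2 := hinv _ ho'
    have e3 : g * z * g⁻¹ * z⁻¹ * o * (g * z * g⁻¹ * z⁻¹)⁻¹ = o := by
      calc g * z * g⁻¹ * z⁻¹ * o * (g * z * g⁻¹ * z⁻¹)⁻¹
          = g * (z * (g⁻¹ * (z⁻¹ * o * z⁻¹⁻¹) * g) * z⁻¹) * g⁻¹ := by group
        _ = g * (z * (g⁻¹ * o⁻¹ * g) * z⁻¹) * g⁻¹ := by rw [e1]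
        _ = g * (g⁻¹ * o⁻¹ * g)⁻¹ * g⁻¹ := by rw [e2]
        _ = o := by group
    exact (mul_inv_eq_iff_eq_mul.1 e3).symm
  -- Frattini argument
  set N1 : Subgroup G := K ⊔ zpowers z with hN1
  have hmemN1 : ∀ x, x ∈ N1 ↔ x ∈ K ∨ x * z ∈ K := fun x => h.mem_sup_iff hKn
  have hN1n : N1.Normal := by
    refine ⟨fun x hx g => ?_⟩
    rw [hmemN1] at hx ⊢
    rcases hx with hx | hx
    · exact Or.inl (hKn.conj_mem x hx g)
    · right
      have e : g * x * g⁻¹ * z = g * (x * z) * g⁻¹ * (g * z * g⁻¹ * z⁻¹) := by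
        rw [h.z_inv]
        calc g * x * g⁻¹ * z = g * x * (z * z) * g⁻¹ * z := by rw [h.zz, mul_one]
          _ = _ := by group
      rw [e]
      exact mul_mem (hKn.conj_mem _ hx g) (hcen g)
  have hF := Cfsg.Agent.Lib.SylowNormalInf.normalizer_inf_sup_eq_top Q N1
  -- the normalizer of `D = Q ⊓ N1` is contained in `C(z)`
  have hzQ : z ∈ (Q : Subgroup G) := hQ h.z_mem_J
  have hmemD : ∀ x ∈ (Q : Subgroup G) ⊓ N1, x ∈ Vz z V := by
    rintro x ⟨hxQ, hxN⟩
    rcases (hmemN1 x).1 hxN with hx | hx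
    · exact mem_sup_left (hQM ⟨hxQ, hx⟩)
    · have h4 : x = x * z * z := by rw [mul_assoc, h.zz, mul_one]
      rw [h4]
      exact mul_mem (mem_sup_left (hQM ⟨mul_mem hxQ hzQ, hx⟩)) (mem_sup_right (mem_zpowers z))
  have hnorm : normalizer (((Q : Subgroup G) ⊓ N1 : Subgroup G) : Set G) ≤ Ce z := by
    intro g hg
    apply h.key_Vz
    apply hmemD
    exact (mem_normalizer_iff.1 hg z).1 ⟨hzQ, mem_sup_right (mem_zpowers z)⟩
  -- `K ≤ C(z) O`
  have hKle : K ≤ Ce z ⊔ O :=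
    hKO.trans (sup_le le_sup_right ((hQM.trans (h.V_le.trans h.J_le)).trans le_sup_left))
  rw [eq_top_iff, ← hF]
  refine sup_le (hnorm.trans le_sup_left) (sup_le hKle ?_)
  rw [zpowers_le]
  exact mem_sup_left z_mem_Ce

/-- **The 2-core.** If `z` is not central, `O_2(G) ≤ V`. -/
theorem twoCore [Finite G] (hz : Ce z ≠ ⊤) : Cfsg.pCore 2 G ≤ V := by
  have : Fact (Nat.Prime 2) := ⟨Nat.prime_two⟩
  set R : Subgroup G := Cfsg.pCore 2 G with hRdef
  have hRn : R.Normal := Cfsg.Agent.Lib.Cores.pCore_normal 2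
  have hRtop : normalizer (R : Set G) = ⊤ := normalizer_eq_top_iff.2 hRn
  have hRp : IsPGroup 2 R := Cfsg.Agent.Lib.Cores.pCore_isPGroup 2
  set N : Subgroup G := R ⊓ Ce z with hN
  have hHN : Ce z ≤ normalizer (N : Set G) := le_normalizer_inf (by rw [hRtop]; exact le_top) le_normalizer
  have hNp : IsPGroup 2 N := hRp.to_le inf_le_left
  have hNJ : N ≤ J := h.J_max N inf_le_right hHN hNp
  -- whatever normalises `N` and lies in `C(z)`...
  have grow : normalizer (N : Set G) ≤ Ce z → False := by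
    intro hle
    have hRN : R ≤ N := by
      by_contra hne
      obtain ⟨r, hrR, hrN, hrn⟩ := exists_mem_normalizer hRp hNp
        (inf_le_left.trans (le_normalizer : R ≤ normalizer (R : Set G))) hne
      exact hrN ⟨hrR, hle hrn⟩
    have e : N = R := le_antisymm inf_le_left hRN
    apply hz
    rw [eq_top_iff]
    have : normalizer (N : Set G) = ⊤ := by rw [e]; exact hRtop
    rw [← this]; exact hle
  by_cases hzR : z ∈ R
  · exfalso
    have hzN : z ∈ N := ⟨hzR, z_mem_Ce⟩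
    by_cases hab : ∀ x ∈ N, ∀ y ∈ N, x * y = y * x
    · apply grow
      intro g hg
      exact h.key_abelian hNJ hHN hab ((mem_normalizer_iff.1 hg z).1 hzN)
    · apply grow
      intro g hg
      exact h.mem_Ce_of_normalizer hNJ hab hg
  · have hc : R ⊓ Ce z ≤ V := h.small N inf_le_right hHN (fun hx => hzR hx.1)
    have hle := h.le_of_small hRp (by rw [hRtop]; exact le_top) hc
    rwa [inf_eq_left.2 hle] at hc

/-- if `z` is not central, `O_2(G) = 1` or `O_2(G) = V` -/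
theorem twoCore' [Finite G] (hz : Ce z ≠ ⊤) : Cfsg.pCore 2 G = ⊥ ∨ Cfsg.pCore 2 G = V := by
  have hRn : (Cfsg.pCore 2 G).Normal := Cfsg.Agent.Lib.Cores.pCore_normal 2
  refine h.irr _ (h.twoCore hz) ?_
  rw [normalizer_eq_top_iff.2 hRn]; exact le_top

/-- every nontrivial normal subgroup contains `z` if `O(G) = 1 = O_2(G)` -/
theorem z_mem_of_normal [Finite G] (hO : Cfsg.oddCore G = ⊥) (h2 : Cfsg.pCore 2 G = ⊥) {M : Subgroup G}
    (hM : M.Normal) (hne : M ≠ ⊥) : z ∈ M := by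
  by_contra hzM
  have : Fact (Nat.Prime 2) := ⟨Nat.prime_two⟩
  obtain ⟨Q, hQ⟩ := h.J_two.exists_le_sylow
  obtain ⟨-, -, h3⟩ := h.of_notMem Q hQ hM hzM
  rw [hO, bot_sup_eq] at h3
  have h4 : IsPGroup 2 M := Q.isPGroup'.to_le (h3.trans inf_le_left)
  have h5 := Cfsg.Agent.Lib.Cores.le_pCore hM h4
  rw [h2, le_bot_iff] at h5
  exact hne h5

end S3

end Cfsg.Agent.H836
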