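import Cfsg.Agent.H316.K23
import Cfsg.Agent.H836.S3Lie18

/-!
# Elimination for S3233, complete (helper836)
-/

set_option autoImplicit false

namespace Cfsg.Agent.H836

open Subgroup Cfsg

universe u

/-- **The elimination of the simple groups.** -/
theorem killAll (hS : ∀ (X : Type u) [Group X] [Finite X] [IsSimpleGroup X], IsKnownSimple' X)
    (G : Type u) [Group G] [Finite G] : KillStmt G := by
  refine Cfsg.Agent.H316.Kill23.kill hS (fun X _ _ t ht a ha hc ho hL => ?_) G
  refine Lie18.lie18 hL ht ?_ ho
  rw [hc]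
  rcases ha with rfl | rfl
  · exact Dvd.intro_left (2 ^ 18) (by norm_num)
  · exact Dvd.intro_left (2 ^ 18 * 3) (by norm_num)

end Cfsg.Agent.H836
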