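import Cfsg.Agent.H836.S3Core

/-!
# The residual `X` lies in every normal subgroup containing `z` (helper836, after helper316)
-/

set_option autoImplicit false

namespace Cfsg.Agent.H836

open Subgroup
open scoped commutatorElement
open Cfsg.Agent.GH.C2GrowG (mem_normalizer_of conj_mem exists_mem_normalizer)
open Cfsg.Agent.H316.Red (Ce mem_Ce mem_Ce' mem_zpowers_two le_normalizer_inf le_normalizer_commutator
  perfect_centralizes normalizer_le_normalizer_map perfect_quot perfect_quot')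

variable {G : Type*} [Group G]

theorem le_normalizer_centralizer {A B : Subgroup G} (h : A ≤ normalizer (B : Set G)) :
    A ≤ normalizer ((centralizer (B : Set G) : Subgroup G) : Set G) := by
  rw [le_normalizer_iff]
  intro g hg c hc
  rw [mem_centralizer_iff]
  intro n hn'
  have h1 : g⁻¹ * n * g ∈ B := by
    have := (mem_normalizer_iff.1 (h (inv_mem hg)) n).1 hn'
    rwa [inv_inv] at this
  have h2 := mem_centralizer_iff.1 hc _ h1
  calc n * (g * c * g⁻¹) = g * ((g⁻¹ * n * g) * c) * g⁻¹ := by group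
    _ = g * (c * (g⁻¹ * n * g)) * g⁻¹ := by rw [h2]
    _ = g * c * g⁻¹ * n := by group

namespace S3

variable {z : G} {J X V : Subgroup G} (h : S3 z J X V)
include h

/-- for `a ∈ J`, `|T : C_T(a)| ≤ 2` for `T ≤ J` -/
theorem relIndex_centralizer_le [Finite G] {T : Subgroup G} (hT : T ≤ J) {a : G} (ha : a ∈ J) :
    (centralizer ({a} : Set G)).relIndex T ≤ 2 := by
  by_cases h1 : T ≤ centralizer ({a} : Set G)
  · rw [relIndex_eq_one.2 h1]; omega
  · obtain ⟨t, ht, hta⟩ := SetLike.not_le_iff_exists.1 h1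
    have hcm : ∀ s ∈ T, ⁅s, a⁆ = 1 ∨ ⁅s, a⁆ = z := by
      intro s hs
      rw [← mem_zpowers_two h.hz, ← h.J_comm]
      exact commutator_mem_commutator (hT hs) ha
    have hz2 : ∀ s ∈ T, s * z = z * s := fun s hs => mem_Ce.1 (h.J_le (hT hs))
    have h2 : (centralizer ({a} : Set G)).relIndex T = 2 := by
      rw [relIndex_eq_two_iff]
      have hmc : ∀ s : G, s ∈ centralizer ({a} : Set G) ↔ ⁅s, a⁆ = 1 := by
        intro s
        rw [mem_centralizer_singleton_iff, commutatorElement_eq_one_iff_mul_comm]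
      refine ⟨t, ht, fun b hb => ?_⟩
      rw [hmc, hmc]
      have hta' : ⁅t, a⁆ = z := by
        rcases hcm t ht with h3 | h3
        · exact absurd ((hmc t).2 h3) hta
        · exact h3
      have e1 : ⁅b * t, a⁆ = ⁅b, a⁆ * z := by
        have e2 : ⁅b * t, a⁆ = b * ⁅t, a⁆ * b⁻¹ * ⁅b, a⁆ := by
          simp only [commutatorElement_def]; group
        rw [e2, hta', hz2 b hb, mul_inv_cancel_right]
        rcases hcm b hb with h3 | h3 <;> rw [h3]
        · rw [mul_one, one_mul]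
      rw [e1]
      rcases hcm b hb with h3 | h3
      · rw [h3, one_mul]
        right
        exact ⟨rfl, h.z_ne⟩
      · rw [h3, h.zz]
        left
        exact ⟨rfl, h.z_ne⟩
    omega

/-- If `T ≤ J` is normal in `C(z)` and `C_T(a)` is abelian for some `a ∈ T`, then `X` centralises `T`. -/
theorem centralizes_of_abelian [Finite G] {T : Subgroup G} (hT : T ≤ J) (hn : Ce z ≤ normalizer (T : Set G))
    {a : G} (ha : a ∈ T) (hab : ∀ x ∈ T ⊓ centralizer ({a} : Set G), ∀ y ∈ T ⊓ centralizer ({a} : Set G),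
      x * y = y * x) : X ≤ centralizer (T : Set G) := by
  set Z : Subgroup G := T ⊓ centralizer (T : Set G) with hZ
  have hZn : Ce z ≤ normalizer (Z : Set G) := by
    refine le_normalizer_inf hn ?_
    rw [le_normalizer_iff]
    intro g hg c hc
    rw [mem_centralizer_iff]
    intro n hn'
    have h1 : g⁻¹ * n * g ∈ T := by
      have := (mem_normalizer_iff.1 (hn (inv_mem hg)) n).1 hn'
      rwa [inv_inv] at this
    have h2 := mem_centralizer_iff.1 hc _ h1
    calc n * (g * c * g⁻¹) = g * ((g⁻¹ * n * g) * c) * g⁻¹ := by group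
      _ = g * (c * (g⁻¹ * n * g)) * g⁻¹ := by rw [h2]
      _ = g * c * g⁻¹ * n := by group
  have hXZ : X ≤ centralizer (Z : Set G) :=
    h.act Z (inf_le_left.trans hT) hZn (fun x hx y hy => (mem_centralizer_iff.1 hx.2 y hy.1).symm)
  have hc : Z.relIndex T ≤ 4 := by
    by_cases h1 : T ≤ centralizer ({a} : Set G)
    · have : T ≤ Z := by
        refine le_inf le_rfl fun x hx => mem_centralizer_iff.2 fun y hy => ?_
        exact hab y ⟨hy, h1 hy⟩ x ⟨hx, h1 hx⟩
      rw [relIndex_eq_one.2 this]; omega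
    · obtain ⟨t, ht, hta⟩ := SetLike.not_le_iff_exists.1 h1
      have h2 := h.relIndex_centralizer_le hT (hT ha)
      have h3 := h.relIndex_centralizer_le hT (hT ht)
      have h5 : (centralizer ({a} : Set G)).relIndex T = 2 := by
        have h6 : (centralizer ({a} : Set G)).relIndex T ≠ 1 := fun h6 => h1 (relIndex_eq_one.1 h6)
        have h7 : (centralizer ({a} : Set G)).relIndex T ≠ 0 := index_ne_zero_of_finite
        omega
      have h4 : (centralizer ({a} : Set G) ⊓ centralizer ({t} : Set G)) ⊓ T ≤ Z := by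
        rintro x ⟨⟨hxa, hxt⟩, hxT⟩
        refine ⟨hxT, mem_centralizer_iff.2 fun y hy => ?_⟩
        by_cases hya : y ∈ centralizer ({a} : Set G)
        · exact hab y ⟨hy, hya⟩ x ⟨hxT, hxa⟩
        · -- `y ∈ t C_T(a)`
          obtain ⟨s, hs, hxor⟩ := relIndex_eq_two_iff.1 h5
          have hy' : y * t⁻¹ ∈ centralizer ({a} : Set G) := by
            have e1 : y * s ∈ centralizer ({a} : Set G) := by
              rcases hxor y hy with h6 | h6
              · exact h6.1
              · exact absurd h6.1 hya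
            have e2 : t * s ∈ centralizer ({a} : Set G) := by
              rcases hxor t ht with h6 | h6
              · exact h6.1
              · exact absurd h6.1 hta
            have e3 := (centralizer ({a} : Set G)).mul_mem e1 ((centralizer ({a} : Set G)).inv_mem e2)
            have e4 : y * s * (t * s)⁻¹ = y * t⁻¹ := by group
            rwa [e4] at e3
          have h6 : y * t⁻¹ ∈ T := T.mul_mem hy (T.inv_mem ht)
          have h7 := hab (y * t⁻¹) ⟨h6, hy'⟩ x ⟨hxT, hxa⟩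
          have h8 : x * t = t * x := mem_centralizer_singleton_iff.1 hxt
          calc y * x = y * t⁻¹ * (t * x) := by group
            _ = y * t⁻¹ * x * t := by rw [← h8, mul_assoc, mul_assoc, mul_assoc]
            _ = x * (y * t⁻¹) * t := by rw [h7]
            _ = x * y := by group
      calc Z.relIndex T ≤ ((centralizer ({a} : Set G) ⊓ centralizer ({t} : Set G)) ⊓ T).relIndex T :=
            Nat.le_of_dvd (Nat.pos_of_ne_zero index_ne_zero_of_finite) (relIndex_dvd_of_le_left T h4)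
        _ = (centralizer ({a} : Set G) ⊓ centralizer ({t} : Set G)).relIndex T := inf_relIndex_right _ _
        _ ≤ (centralizer ({a} : Set G)).relIndex T * (centralizer ({t} : Set G)).relIndex T := relIndex_inf_le
        _ ≤ 4 := by nlinarith
  apply perfect_centralizes h.X_perfect
  intro x hx b hb y hy
  have h5 : ⁅b, x⁆ ∈ Z := perfect_quot' h.X_perfect (h.X_le.trans hZn) (h.X_le.trans hn) hc hx hb
  exact (mem_centralizer_iff.1 (hXZ hy) _ h5).symm

theorem exists_fused [Finite G] (hO : Cfsg.oddCore G = ⊥) (hz : Ce z ≠ ⊤) (Q : Sylow 2 G)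
    (hQ : z ∈ (Q : Subgroup G)) : ∃ g : G, g * z * g⁻¹ ∈ (Q : Subgroup G) ∧ g * z * g⁻¹ ≠ z := by
  by_contra hcon
  push Not at hcon
  obtain ⟨N, hN, hodd, hcom⟩ := Cfsg.Agent.S0215.result Q z h.hz hQ hcon
  have h1 : N ≤ Cfsg.oddCore G := Cfsg.Agent.Lib.Cores.le_pPrimeCore hN (Nat.coprime_two_right.mpr hodd)
  rw [hO, le_bot_iff] at h1
  apply hz
  rw [eq_top_iff]
  intro g _
  have h2 := hcom g
  rw [h1, mem_bot] at h2
  rw [mem_Ce]
  have h3 : z * g * z⁻¹ = g := by
    have : z * g * z⁻¹ * g⁻¹ * g = 1 * g := by rw [h2]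
    simpa using this
  exact (mul_inv_eq_iff_eq_mul.1 h3).symm

/-- **`X` lies in every normal subgroup containing `z`.** -/
theorem X_le_of_normal [Finite G] (hO : Cfsg.oddCore G = ⊥) (hz : Ce z ≠ ⊤) {M : Subgroup G} (hM : M.Normal)
    (hzM : z ∈ M) : X ≤ M := by
  have : Fact (Nat.Prime 2) := ⟨Nat.prime_two⟩
  have hMtop : normalizer (M : Set G) = ⊤ := normalizer_eq_top_iff.2 hM
  have hT0n : Ce z ≤ normalizer ((M ⊓ Ce z : Subgroup G) : Set G) :=
    le_normalizer_inf (by rw [hMtop]; exact le_top) le_normalizer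
  rcases h.dich (M ⊓ Ce z) inf_le_right hT0n with hXT | hTJ0
  · exact hXT.trans inf_le_left
  exfalso
  set T : Subgroup G := M ⊓ J with hTdef
  have hTn : Ce z ≤ normalizer (T : Set G) := le_normalizer_inf (by rw [hMtop]; exact le_top) h.J_norm
  have hTJ : T ≤ J := inf_le_right
  have hzT : z ∈ T := mem_inf.2 ⟨hzM, h.z_mem_J⟩
  obtain ⟨Q, hQ⟩ := h.J_two.exists_le_sylow
  set P : Subgroup G := (Q : Subgroup G) ⊓ M with hPdef
  have hP2 : IsPGroup 2 P := Q.isPGroup'.to_le inf_le_left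
  have hT2 : IsPGroup 2 T := h.J_two.to_le hTJ
  have hTP : T ≤ P := le_inf (hTJ.trans hQ) inf_le_left
  have hTnP : T ≤ normalizer (P : Set G) := hTP.trans le_normalizer
  -- 2-elements of `M ∩ C(z)` lie in `T`
  have hPT' : P ⊓ Ce z ≤ T := by
    have h1 : P ⊓ Ce z ≤ J := hTJ0 _ (inf_le_inf_right _ inf_le_right) (hP2.to_le inf_le_left)
    exact le_inf (inf_le_left.trans inf_le_right) h1
  obtain ⟨g, hgQ, hgz⟩ := h.exists_fused hO hz Q (hQ h.z_mem_J)
  have hgM : g * z * g⁻¹ ∈ M := hM.conj_mem z hzM g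
  have hgP : g * z * g⁻¹ ∈ P := ⟨hgQ, hgM⟩
  by_cases hab : ∀ x ∈ T, ∀ y ∈ T, x * y = y * x
  · by_cases hPT : P ≤ T
    · exact hgz (mem_Ce'.1 (h.key_abelian hTJ hTn hab (hPT hgP)))
    · obtain ⟨r, hrP, hrT, hrn⟩ := exists_mem_normalizer hP2 hT2 hTnP hPT
      have h1 : r * z * r⁻¹ ∈ T := (mem_normalizer_iff.1 hrn z).1 hzT
      exact hrT (hPT' ⟨hrP, h.key_abelian hTJ hTn hab h1⟩)
  · have hPT : P ≤ T := by
      by_contra hPT
      obtain ⟨r, hrP, hrT, hrn⟩ := exists_mem_normalizer hP2 hT2 hTnP hPT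
      exact hrT (hPT' ⟨hrP, h.mem_Ce_of_normalizer hTJ hab hrn⟩)
    have hgT : g * z * g⁻¹ ∈ T := hPT hgP
    by_cases hD : ∀ x ∈ T ⊓ centralizer ({g * z * g⁻¹} : Set G),
        ∀ y ∈ T ⊓ centralizer ({g * z * g⁻¹} : Set G), x * y = y * x
    · have h1 := h.centralizes_of_abelian hTJ hTn hgT hD
      have h2 : X ≤ Ce (g * z * g⁻¹) := by
        intro x hx
        exact mem_Ce.2 (mem_centralizer_iff.1 (h1 hx) _ hgT).symm
      exact hgz (mem_Ce'.1 (h.key h2))
    · push Not at hD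
      obtain ⟨x, hx, y, hy, hxy⟩ := hD
      -- the conjugate of `D` lies in `J`
      set D : Subgroup G := T ⊓ centralizer ({g * z * g⁻¹} : Set G) with hDdef
      have hDconj : D.map (MulAut.conj g⁻¹).toMonoidHom ≤ J := by
        refine hTJ0 _ ?_ ((hT2.to_le inf_le_left).map _)
        rintro _ ⟨d, hd, rfl⟩
        refine mem_inf.2 ⟨hM.conj_mem d hd.1.1 g⁻¹, ?_⟩
        show g⁻¹ * d * g⁻¹⁻¹ ∈ Ce z
        rw [mem_Ce]
        have h3 : d * (g * z * g⁻¹) = (g * z * g⁻¹) * d := mem_centralizer_singleton_iff.1 hd.2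
        calc g⁻¹ * d * g⁻¹⁻¹ * z = g⁻¹ * (d * (g * z * g⁻¹)) * g := by group
          _ = g⁻¹ * ((g * z * g⁻¹) * d) * g := by rw [h3]
          _ = z * (g⁻¹ * d * g⁻¹⁻¹) := by group
      have hc : ∀ d ∈ D, g⁻¹ * d * g ∈ J := by
        intro d hd
        have h3 := hDconj ⟨d, hd, rfl⟩
        have h4 : (MulAut.conj g⁻¹).toMonoidHom d = g⁻¹ * d * g := by
          show g⁻¹ * d * g⁻¹⁻¹ = _
          rw [inv_inv]
        rwa [h4] at h3
      have h4 : ⁅x, y⁆ ∈ zpowers z := by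
        rw [← h.J_comm]; exact commutator_mem_commutator (hTJ hx.1) (hTJ hy.1)
      have h5 : ⁅x, y⁆ = z := by
        rcases (mem_zpowers_two h.hz).1 h4 with h6 | h6
        · exact absurd (commutatorElement_eq_one_iff_mul_comm.1 h6) hxy
        · exact h6
      have h7 : ⁅g⁻¹ * x * g, g⁻¹ * y * g⁆ ∈ zpowers z := by
        rw [← h.J_comm]; exact commutator_mem_commutator (hc x hx) (hc y hy)
      have h8 : ⁅g⁻¹ * x * g, g⁻¹ * y * g⁆ = g⁻¹ * z * g := by
        rw [← h5, commutatorElement_def, commutatorElement_def]; group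
      rw [h8] at h7
      rcases (mem_zpowers_two h.hz).1 h7 with h9 | h9
      · apply h.z_ne
        have : z = g * (g⁻¹ * z * g) * g⁻¹ := by group
        rw [this, h9]; group
      · apply hgz
        calc g * z * g⁻¹ = g * (g⁻¹ * z * g) * g⁻¹ := by rw [h9]
          _ = z := by group

/-- `Z(J) ∩ C(z)`: conjugates of `z` centralising `J` are trivial conjugates -/
theorem mem_Ce_of_centralizer_J [Finite G] {g : G} (h1 : g * z * g⁻¹ ∈ Ce z)
    (h2 : g * z * g⁻¹ ∈ centralizer (J : Set G)) : g ∈ Ce z := by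
  have h3 : g * z * g⁻¹ ∈ J ⊓ centralizer (J : Set G) := ⟨h.J_cent ⟨h1, h2⟩, h2⟩
  refine h.key_abelian (W := J ⊓ centralizer (J : Set G)) inf_le_left ?_ ?_ h3
  · refine le_normalizer_inf h.J_norm ?_
    rw [le_normalizer_iff]
    intro g hg c hc
    rw [mem_centralizer_iff]
    intro n hn'
    have h1 : g⁻¹ * n * g ∈ J := by
      have := (mem_normalizer_iff.1 (h.J_norm (inv_mem hg)) n).1 hn'
      rwa [inv_inv] at this
    have h2 := mem_centralizer_iff.1 hc _ h1
    calc n * (g * c * g⁻¹) = g * ((g⁻¹ * n * g) * c) * g⁻¹ := by group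
      _ = g * (c * (g⁻¹ * n * g)) * g⁻¹ := by rw [h2]
      _ = g * c * g⁻¹ * n := by group
  · intro x hx y hy
    exact (mem_centralizer_iff.1 hx.2 y hy.1).symm

/-- `C(z)` contains a Sylow 2-subgroup of `G`, containing `J` -/
theorem sylow_le [Finite G] : ∃ Q : Sylow 2 G, (Q : Subgroup G) ≤ Ce z ∧ J ≤ (Q : Subgroup G) := by
  have : Fact (Nat.Prime 2) := ⟨Nat.prime_two⟩
  -- a Sylow subgroup of `C(z)`
  obtain ⟨S₀⟩ := (inferInstance : Nonempty (Sylow 2 (Ce z)))
  set S : Subgroup G := (S₀ : Subgroup (Ce z)).map (Ce z).subtype with hS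
  have hSle : S ≤ Ce z := map_subtype_le _
  have hS2 : IsPGroup 2 S := S₀.isPGroup'.map _
  have hJS : J ≤ S := by
    have h1 : (J.subgroupOf (Ce z)).Normal := by
      rw [normal_subgroupOf_iff_le_normalizer h.J_le]; exact h.J_norm
    have h1' : IsPGroup 2 (J.subgroupOf (Ce z)) := h.J_two.comap_of_injective _ (subtype_injective _)
    have h2 : J.subgroupOf (Ce z) ≤ (S₀ : Subgroup (Ce z)) := @IsPGroup.le_sylow_of_normal _ _ _ _ h1 h1' S₀
    have h3 := map_mono (f := (Ce z).subtype) h2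
    rwa [subgroupOf_map_subtype, inf_eq_left.2 h.J_le] at h3
  -- maximality
  have hmax : ∀ P : Subgroup G, IsPGroup 2 P → P ≤ Ce z → S ≤ P → P ≤ S := by
    intro P hP hPle hSP
    have h1 : (S₀ : Subgroup (Ce z)) ≤ P.subgroupOf (Ce z) := by
      intro x hx
      rw [mem_subgroupOf]
      exact hSP ⟨x, hx, rfl⟩
    have h2 : P.subgroupOf (Ce z) = S₀ := S₀.is_maximal' (hP.comap_of_injective _ (subtype_injective _)) h1
    rw [hS, ← h2, subgroupOf_map_subtype, inf_eq_left.2 hPle]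
  obtain ⟨Q, hQ⟩ := hS2.exists_le_sylow
  refine ⟨Q, ?_, hJS.trans hQ⟩
  by_contra hne
  have hne' : ¬ (Q : Subgroup G) ≤ S := fun hle => hne (hle.trans hSle)
  obtain ⟨r, hrQ, hrS, hrn⟩ := exists_mem_normalizer Q.isPGroup' hS2 (hQ.trans le_normalizer) hne'
  -- `r ∈ C(z)`
  have hzS : z ∈ S := hJS h.z_mem_J
  have hrz : r * z * r⁻¹ ∈ S := (mem_normalizer_iff.1 hrn z).1 hzS
  have hrzc : r * z * r⁻¹ ∈ centralizer (J : Set G) := by
    rw [mem_centralizer_iff]
    intro j hj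
    have h1 : r⁻¹ * j * r ∈ S := by
      have := (mem_normalizer_iff.1 (inv_mem hrn) j).1 (hJS hj)
      rwa [inv_inv] at this
    have h2 : (r⁻¹ * j * r) * z = z * (r⁻¹ * j * r) := mem_Ce.1 (hSle h1)
    calc j * (r * z * r⁻¹) = r * ((r⁻¹ * j * r) * z) * r⁻¹ := by group
      _ = r * (z * (r⁻¹ * j * r)) * r⁻¹ := by rw [h2]
      _ = r * z * r⁻¹ * j := by group
  have hr : r ∈ Ce z := h.mem_Ce_of_centralizer_J (hSle hrz) hrzc
  -- `S ⟨r⟩` is a 2-subgroup of `C(z)`
  have h5 : S ⊔ zpowers r ≤ (Q : Subgroup G) := sup_le hQ (zpowers_le.2 hrQ)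
  have h6 := hmax (S ⊔ zpowers r) (Q.isPGroup'.to_le h5) (sup_le hSle (zpowers_le.2 hr)) le_sup_left
  exact hrS (h6 (mem_sup_right (mem_zpowers r)))

/-- **`G = C(z) M`** for every normal subgroup `M` containing `X`. -/
theorem sup_eq_top [Finite G] {M : Subgroup G} (hM : M.Normal) (hXM : X ≤ M) : Ce z ⊔ M = ⊤ := by
  have : Fact (Nat.Prime 2) := ⟨Nat.prime_two⟩
  obtain ⟨Q, hQ, hJQ⟩ := h.sylow_le
  have hzM : z ∈ M := hXM h.z_mem_X
  have hMtop : normalizer (M : Set G) = ⊤ := normalizer_eq_top_iff.2 hM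
  set T : Subgroup G := M ⊓ Ce z with hTdef
  have hTn : Ce z ≤ normalizer (T : Set G) := le_normalizer_inf (by rw [hMtop]; exact le_top) le_normalizer
  have hTJn : Ce z ≤ normalizer ((T ⊓ J : Subgroup G) : Set G) := le_normalizer_inf hTn h.J_norm
  set C : Subgroup G := T ⊓ centralizer ((T ⊓ J : Subgroup G) : Set G) with hC
  have hCn : Ce z ≤ normalizer (C : Set G) := le_normalizer_inf hTn (le_normalizer_centralizer hTJn)
  have hCJ0 : ∀ P : Subgroup G, P ≤ C → IsPGroup 2 P → P ≤ J := by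
    rcases h.dich C (inf_le_left.trans inf_le_right) hCn with h1 | h1
    · exfalso
      apply h.inf_not_abelian
      intro x hx y hy
      have h2 : y ∈ T ⊓ J := ⟨⟨hXM hy.1, h.X_le hy.1⟩, hy.2⟩
      exact (mem_centralizer_iff.1 (h1 hx.1).2 y h2).symm
    · exact h1
  have hCab : ∀ x ∈ C ⊓ J, ∀ y ∈ C ⊓ J, x * y = y * x := fun x hx y hy =>
    (mem_centralizer_iff.1 hx.1.2 y (mem_inf.2 ⟨hy.1.1, hy.2⟩)).symm
  have hF := Cfsg.Agent.Lib.SylowNormalInf.normalizer_inf_sup_eq_top Q M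
  rw [eq_top_iff, ← hF]
  refine sup_le_sup_right ?_ _
  intro g hg
  -- `g z g⁻¹ ∈ C ∩ J`
  have hTJ : T ⊓ J ≤ (Q : Subgroup G) ⊓ M := le_inf (inf_le_right.trans hJQ) (inf_le_left.trans inf_le_left)
  have hgz : g * z * g⁻¹ ∈ (Q : Subgroup G) ⊓ M := (mem_normalizer_iff.1 hg z).1 ⟨hJQ h.z_mem_J, hzM⟩
  have hgC : g * z * g⁻¹ ∈ C := by
    refine mem_inf.2 ⟨mem_inf.2 ⟨hgz.2, hQ hgz.1⟩, ?_⟩
    rw [mem_centralizer_iff]
    intro j hj
    have h1 : g⁻¹ * j * g ∈ (Q : Subgroup G) ⊓ M := by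
      have := (mem_normalizer_iff.1 (inv_mem hg) j).1 (hTJ hj)
      rwa [inv_inv] at this
    have h2 : (g⁻¹ * j * g) * z = z * (g⁻¹ * j * g) := mem_Ce.1 (hQ h1.1)
    calc j * (g * z * g⁻¹) = g * ((g⁻¹ * j * g) * z) * g⁻¹ := by group
      _ = g * (z * (g⁻¹ * j * g)) * g⁻¹ := by rw [h2]
      _ = g * z * g⁻¹ * j := by group
  have hgJ : g * z * g⁻¹ ∈ J := by
    have h1 : IsPGroup 2 (C ⊓ (Q : Subgroup G) : Subgroup G) := Q.isPGroup'.to_le inf_le_right
    exact hCJ0 _ inf_le_left h1 (mem_inf.2 ⟨hgC, hgz.1⟩)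
  exact h.key_abelian inf_le_right (le_normalizer_inf hCn h.J_norm) hCab (mem_inf.2 ⟨hgC, hgJ⟩)

end S3

end Cfsg.Agent.H836
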