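import Cfsg.Agent.H836.S3Set

/-!
# `P3` from the hypotheses of S3233 (helper836)
-/

set_option autoImplicit false
set_option linter.unusedSectionVars false

namespace Cfsg.Agent.H836

open Subgroup
open scoped commutatorElement
open Cfsg.Agent.H316.Red (Ce mem_Ce mem_Ce' mem_zpowers_two le_normalizer_inf le_normalizer_commutator
  perfect_centralizes normalizer_le_normalizer_map card_mul_relIndex' card_sq_le commute_of_card_le_two
  mem_prod card_prod Jz mem_Jz Xr Xr_le Xr_max Xr_perfect perfect_le_of_solvable perfect_le_of_sup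
  exists_perfect_preimage QData card_Jz)

/-! ### the centralizer as an abstract group -/

section AE

variable {C : Type*} [Group C] [Finite C] {A E P : Subgroup C} {zc c : C}

omit [Finite C] in
theorem comm_of_sq (hA2 : ∀ v ∈ A, v ^ 2 = 1) {x y : C} (hx : x ∈ A) (hy : y ∈ A) : x * y = y * x := by
  have h1 : x * x = 1 := by rw [← sq]; exact hA2 x hx
  have h2 : y * y = 1 := by rw [← sq]; exact hA2 y hy
  have h3 : (x * y) * (x * y) = 1 := by rw [← sq]; exact hA2 _ (mul_mem hx hy)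
  have h4 : x⁻¹ = x := inv_eq_of_mul_eq_one_left h1
  have h5 : y⁻¹ = y := inv_eq_of_mul_eq_one_left h2
  have h6 : (x * y)⁻¹ = x * y := inv_eq_of_mul_eq_one_left h3
  rw [mul_inv_rev, h4, h5] at h6
  exact h6.symm

omit [Finite C] in
theorem A_cent (h : Cfsg.IsInternalDirectProduct A E P) (hA2 : ∀ v ∈ A, v ^ 2 = 1) {a x : C} (ha : a ∈ A)
    (hx : x ∈ P) : x * a = a * x := by
  obtain ⟨b, hb, e, he, rfl⟩ := mem_prod h hx
  have h1 := comm_of_sq hA2 hb ha
  have h2 := h.2.2.1 a ha e he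
  calc b * e * a = b * (e * a) := by group
    _ = b * a * e := by rw [← h2]; group
    _ = a * (b * e) := by rw [h1]; group

omit [Finite C] in
theorem comm_ZE (hE : Cfsg.IsExtraspecial 2 E) : ⁅E, E⁆ = (center E).map E.subtype := by
  rw [← hE.1.2.2, commutator_def, map_commutator, ← MonoidHom.range_eq_map, range_subtype]

/-- `[P, P] = [E, E]` -/
theorem comm_le (h : Cfsg.IsInternalDirectProduct A E P) (hA2 : ∀ v ∈ A, v ^ 2 = 1)
    (hE : Cfsg.IsExtraspecial 2 E) : ⁅P, P⁆ = (center E).map E.subtype := by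
  rw [← comm_ZE hE]
  apply le_antisymm
  · rw [commutator_le]
    intro x hx y hy
    obtain ⟨a, ha, e, he, rfl⟩ := mem_prod h hx
    obtain ⟨b, hb, f, hf, rfl⟩ := mem_prod h hy
    have h1 : ∀ x ∈ P, a * x * a⁻¹ = x := fun x hx => by rw [← A_cent h hA2 ha hx, mul_inv_cancel_right]
    have h2 : ∀ x ∈ P, b * x * b⁻¹ = x := fun x hx => by rw [← A_cent h hA2 hb hx, mul_inv_cancel_right]
    have he' := h.2.1 he
    have hf' := h.2.1 hf
    have e1 : ⁅a * e, b * f⁆ = ⁅e, f⁆ := by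
      rw [commutatorElement_def, commutatorElement_def]
      calc a * e * (b * f) * (a * e)⁻¹ * (b * f)⁻¹ = (a * (e * (b * f) * e⁻¹) * a⁻¹) * (b * f)⁻¹ := by group
        _ = (e * (b * f) * e⁻¹) * (b * f)⁻¹ := by
            rw [h1 _ (mul_mem (mul_mem he' hy) (inv_mem he'))]
        _ = (e * b * e⁻¹) * (e * f * e⁻¹ * f⁻¹) * b⁻¹ := by group
        _ = b * (e * f * e⁻¹ * f⁻¹) * b⁻¹ := by rw [A_cent h hA2 hb he', mul_inv_cancel_right]
        _ = e * f * e⁻¹ * f⁻¹ := h2 _ (mul_mem (mul_mem (mul_mem he' hf') (inv_mem he')) (inv_mem hf'))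
    rw [e1]
    exact commutator_mem_commutator he hf
  · exact commutator_mono h.2.1 h.2.1

omit [Finite C] in
theorem card_ZE (hE : Cfsg.IsExtraspecial 2 E) : Nat.card ((center E).map E.subtype) = 2 := by
  rw [card_map_of_injective E.subtype_injective]; exact hE.2

/-- `P' = ⟨zc⟩` -/
theorem comm_eq (h : Cfsg.IsInternalDirectProduct A E P) (hA2 : ∀ v ∈ A, v ^ 2 = 1)
    (hE : Cfsg.IsExtraspecial 2 E) (hPn : P.Normal) (hzc : orderOf zc = 2)
    (hcJ : ∀ x ∈ P, c * x = x * c → x = 1 ∨ x = zc) : ⁅P, P⁆ = zpowers zc := by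
  have h1 := comm_le h hA2 hE
  have h2 : Nat.card (⁅P, P⁆ : Subgroup C) = 2 := by rw [h1]; exact card_ZE hE
  have h3 : ⁅P, P⁆ ≤ zpowers zc := by
    intro x hx
    rw [mem_zpowers_two hzc]
    refine hcJ x (commutator_le_self P hx) ?_
    refine commute_of_card_le_two (N := ⁅P, P⁆) h2.le (fun y hy => ?_) hx
    have : (⁅P, P⁆ : Subgroup C).Normal := inferInstance
    exact this.conj_mem y hy c
  apply eq_of_le_of_card_ge h3
  rw [h2, Nat.card_zpowers, hzc]

theorem sq_mem (h : Cfsg.IsInternalDirectProduct A E P) (hA2 : ∀ v ∈ A, v ^ 2 = 1)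
    (hE : Cfsg.IsExtraspecial 2 E) (hP : ⁅P, P⁆ = zpowers zc) {x : C} (hx : x ∈ P) : x * x ∈ zpowers zc := by
  obtain ⟨a, ha, e, he, rfl⟩ := mem_prod h hx
  have h1 : a * a = 1 := by rw [← sq]; exact hA2 a ha
  have h2 : e * e ∈ zpowers zc := by
    rw [← hP, comm_le h hA2 hE]
    have h3 : (⟨e, he⟩ : E) ^ 2 ∈ center E := Cfsg.Agent.Transfer.Extraspecial.pow_mem_center hE ⟨e, he⟩
    exact ⟨_, h3, by simp [sq]⟩
  have h3 : a * e * (a * e) = (a * a) * (e * e) := by
    have h4 := h.2.2.1 a ha e he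
    calc a * e * (a * e) = (a * e) * a * e := by group
      _ = (e * a) * a * e := by rw [h4]
      _ = e * (a * a) * e := by group
      _ = (a * a) * (e * e) := by rw [h1]; group
  rw [h3, h1, one_mul]
  exact h2

/-- `|Z(P)| = 2 |A|` -/
theorem card_center (h : Cfsg.IsInternalDirectProduct A E P) (hA2 : ∀ v ∈ A, v ^ 2 = 1)
    (hE : Cfsg.IsExtraspecial 2 E) :
    Nat.card (P ⊓ centralizer (P : Set C) : Subgroup C) = Nat.card A * 2 := by
  rw [← card_ZE hE]
  apply card_prod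
  have hZE : ∀ e ∈ (center E).map E.subtype, e ∈ E ∧ ∀ f ∈ E, f * e = e * f := by
    rintro _ ⟨e, he, rfl⟩
    refine ⟨e.2, fun f hf => ?_⟩
    exact congrArg Subtype.val (mem_center_iff.1 he ⟨f, hf⟩)
  refine ⟨?_, ?_, ?_, ?_, ?_⟩
  · intro a ha
    refine mem_inf.2 ⟨h.1 ha, mem_centralizer_iff.2 fun x hx => A_cent h hA2 ha hx⟩
  · intro e he
    obtain ⟨he1, he2⟩ := hZE e he
    refine mem_inf.2 ⟨h.2.1 he1, mem_centralizer_iff.2 fun x hx => ?_⟩
    obtain ⟨a, ha, f, hf, rfl⟩ := mem_prod h hx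
    rw [mul_assoc, he2 f hf, ← mul_assoc, h.2.2.1 a ha e he1, mul_assoc]
  · intro a ha e he
    exact h.2.2.1 a ha e (hZE e he).1
  · rw [eq_bot_iff, ← h.2.2.2.1]
    exact inf_le_inf_left _ fun e he => (hZE e he).1
  · apply le_antisymm
    · refine sup_le ?_ ?_
      · intro a ha
        refine mem_inf.2 ⟨h.1 ha, mem_centralizer_iff.2 fun x hx => A_cent h hA2 ha hx⟩
      · intro e he
        obtain ⟨he1, he2⟩ := hZE e he
        refine mem_inf.2 ⟨h.2.1 he1, mem_centralizer_iff.2 fun x hx => ?_⟩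
        obtain ⟨a, ha, f, hf, rfl⟩ := mem_prod h hx
        rw [mul_assoc, he2 f hf, ← mul_assoc, h.2.2.1 a ha e he1, mul_assoc]
    · rintro x ⟨hx, hxc⟩
      obtain ⟨a, ha, e, he, rfl⟩ := mem_prod h hx
      refine mul_mem (mem_sup_left ha) (mem_sup_right ⟨⟨e, he⟩, ?_, rfl⟩)
      rw [SetLike.mem_coe, mem_center_iff]
      intro f
      apply Subtype.ext
      show (f : C) * e = e * f
      have h2 := mem_centralizer_iff.1 hxc f (h.2.1 f.2)
      have h3 := h.2.2.1 a ha f f.2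
      have h4 : a * (f * e) = a * (e * f) := by
        calc a * ((f : C) * e) = (a * f) * e := by group
          _ = f * (a * e) := by rw [h3]; group
          _ = a * e * f := h2
          _ = a * (e * f) := by group
      exact mul_left_cancel h4

/-- `|P⟨c⟩| = 3 |P|` -/
theorem card_D (hPn : P.Normal) (hP : IsPGroup 2 P) (hc : orderOf c = 3) :
    Nat.card (P ⊔ zpowers c : Subgroup C) = Nat.card P * 3 := by
  have : Fact (Nat.Prime 2) := ⟨Nat.prime_two⟩
  have h1 := card_mul_relIndex' (A := P) (B := P ⊔ zpowers c) le_sup_left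
  rw [sup_comm, relIndex_sup_right] at h1
  rw [sup_comm, ← h1]
  congr 1
  have h2 : P ⊓ zpowers c = ⊥ := by
    rw [← card_eq_one]
    have h3 : IsPGroup 2 (P ⊓ zpowers c : Subgroup C) := hP.to_le inf_le_left
    obtain ⟨n, hn⟩ := IsPGroup.iff_card.1 h3
    have h4 : Nat.card (P ⊓ zpowers c : Subgroup C) ∣ 3 := by
      rw [← hc, ← Nat.card_zpowers]; exact card_dvd_of_le inf_le_right
    rw [hn] at h4 ⊢
    rcases (Nat.dvd_prime Nat.prime_three).1 h4 with h5 | h5
    · exact h5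
    · exfalso
      rcases n with _ | n
      · omega
      · rw [pow_succ] at h5; omega
  have h5 := card_mul_relIndex' (A := P ⊓ zpowers c) (B := zpowers c) inf_le_right
  rw [inf_relIndex_right, h2, card_bot, one_mul, Nat.card_zpowers, hc] at h5
  exact h5

end AE

/-! ### the instance -/

section inst

variable {G : Type*} [Group G] [Finite G] {z : G} {A E : Subgroup (Ce z)} {zc c : Ce z}
  {Q : Type*} [Group Q] {S : Subgroup Q} {φ : Ce z →* Q}

theorem p3_of (hz : orderOf z = 2) (hAE : Cfsg.IsInternalDirectProduct A E (Cfsg.pCore 2 (Ce z)))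
    (hA : Nat.card A = 4) (hA2 : ∀ v ∈ A, v ^ 2 = 1) (hE : Cfsg.IsExtraspecial 2 E)
    (hEc : Nat.card E = 2 ^ 9) (hCJ : centralizer (Cfsg.pCore 2 (Ce z) : Set (Ce z)) ≤ Cfsg.pCore 2 (Ce z))
    (hzc : (zc : G) = z) (hc : orderOf c = 3) (hJc : (Cfsg.pCore 2 (Ce z) ⊔ zpowers c).Normal)
    (hφ : Function.Surjective φ) (hker : φ.ker = Cfsg.pCore 2 (Ce z) ⊔ zpowers c) (D : QData Q S)
    (hQ : Nat.card Q = 51840) (hcJ : ∀ x ∈ Cfsg.pCore 2 (Ce z), c * x = x * c → x = 1 ∨ x = zc) :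
    P3 z (Jz z) (Xr z) (c : G) ∧ Nat.card (Ce z) = 2 ^ 18 * 1215 := by
  have : Fact (Nat.Prime 2) := ⟨Nat.prime_two⟩
  have hSn := D.norm
  have hPn : (Cfsg.pCore 2 (Ce z)).Normal := Cfsg.Agent.Lib.Cores.pCore_normal 2
  have hJp : IsPGroup 2 (Cfsg.pCore 2 (Ce z)) := Cfsg.Agent.Lib.Cores.pCore_isPGroup 2
  have hJsol : Group.IsSolvable (Cfsg.pCore 2 (Ce z)) := by
    have := hJp.isNilpotent
    infer_instance
  have hzc2 : orderOf zc = 2 := by rw [← Subgroup.orderOf_coe, hzc]; exact hz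
  have hcom := comm_eq hAE hA2 hE hPn hzc2 hcJ
  have hcardP : Nat.card (Cfsg.pCore 2 (Ce z)) = 2 ^ 11 := by
    rw [card_prod hAE, hA, hEc]; norm_num
  have hcardH : Nat.card (Ce z) = 2 ^ 18 * 1215 := by
    rw [← Subgroup.card_mul_index φ.ker, Subgroup.index_ker, hker, card_D hPn hJp hc, hcardP,
      MonoidHom.range_eq_top.2 hφ, card_top, hQ]
    norm_num
  have hcomG : ⁅Jz z, Jz z⁆ = zpowers z := by
    rw [← map_commutator, hcom, MonoidHom.map_zpowers]
    congr 1
  have hDG : (Cfsg.pCore 2 (Ce z) ⊔ zpowers c).map (Ce z).subtype = Jz z ⊔ zpowers (c : G) := by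
    rw [Subgroup.map_sup, MonoidHom.map_zpowers]; rfl
  obtain ⟨Y, hY1, hY2⟩ := exists_perfect_preimage hφ D.perf
  have hYX : Y.map (Ce z).subtype ≤ Xr z := Xr_max z (map_subtype_le _) (by rw [← map_commutator, hY1])
  refine ⟨?_, hcardH⟩
  refine
    { hz := hz
      J_le := map_subtype_le _
      J_norm := (le_normalizer : Ce z ≤ _).trans
        (normalizer_le_normalizer_map _ (Cfsg.Agent.Lib.Cores.pCore_characteristic 2))
      J_two := hJp.map _
      J_max := ?_
      J_cent := ?_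
      J_comm := hcomG
      X_le := Xr_le z
      X_perfect := Xr_perfect z
      X_max := fun Y h1 h2 => Xr_max z h1 h2
      X_not := ?_
      c_mem := c.2
      c_ord := by rw [Subgroup.orderOf_coe]; exact hc
      cJ := ?_
      D_norm := ?_
      dich := ?_
      dvd := by rw [hcardH]; exact ⟨2 ^ 18 * 5, by norm_num⟩
      sq := ?_
      card_J := card_Jz hcardP
      card_Z := ?_ }
  · intro N hN hn hp
    have h1 : (N.subgroupOf (Ce z)).Normal := by
      rw [normal_subgroupOf_iff_le_normalizer hN]; exact hn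
    have h2 : N.subgroupOf (Ce z) ≤ Cfsg.pCore 2 (Ce z) :=
      Cfsg.Agent.Lib.Cores.le_pCore h1 (hp.comap_of_injective _ (subtype_injective _))
    have h3 := map_mono (f := (Ce z).subtype) h2
    rwa [subgroupOf_map_subtype, inf_eq_left.2 hN] at h3
  · rintro x ⟨hx, hxc⟩
    refine mem_Jz.2 ⟨hx, hCJ ?_⟩
    rw [mem_centralizer_iff]
    intro j hj
    apply Subtype.ext
    exact mem_centralizer_iff.1 hxc (j : G) ⟨j, hj, rfl⟩
  · intro hle
    apply D.ne
    rw [eq_bot_iff, ← hY2]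
    rintro _ ⟨y, hy, rfl⟩
    obtain ⟨h1, h2⟩ := mem_Jz.1 (hle (hYX ⟨y, hy, rfl⟩))
    have h3 : y ∈ φ.ker := by rw [hker]; exact mem_sup_left h2
    exact h3
  · rintro _ ⟨x, hx, rfl⟩ hxc
    have h1 : c * x = x * c := Subtype.ext hxc
    rcases hcJ x hx h1 with h2 | h2
    · left; rw [h2]; rfl
    · right; rw [h2]; exact hzc
  · rw [← hDG, le_normalizer_iff]
    rintro g hg _ ⟨y, hy, rfl⟩
    exact ⟨⟨g, hg⟩ * y * ⟨g, hg⟩⁻¹, hJc.conj_mem y hy ⟨g, hg⟩, rfl⟩
  · intro N hN hn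
    have h1 : (N.subgroupOf (Ce z)).Normal := by
      rw [normal_subgroupOf_iff_le_normalizer hN]; exact hn
    have h2 : ((N.subgroupOf (Ce z)).map φ).Normal := h1.map φ hφ
    have hXX : ⁅(Xr z).subgroupOf (Ce z), (Xr z).subgroupOf (Ce z)⁆ = (Xr z).subgroupOf (Ce z) := by
      apply map_injective (Ce z).subtype_injective
      rw [map_commutator, subgroupOf_map_subtype, inf_eq_left.2 (Xr_le z), Xr_perfect]
    rcases D.min _ h2 with h3 | h3
    · left
      rw [Subgroup.map_eq_bot_iff, hker] at h3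
      have h4 := map_mono (f := (Ce z).subtype) h3
      rwa [subgroupOf_map_subtype, inf_eq_left.2 hN, hDG] at h4
    · right
      have h4 : (Xr z).subgroupOf (Ce z) ≤ (N.subgroupOf (Ce z) ⊔ Cfsg.pCore 2 (Ce z)) ⊔ zpowers c := by
        have h5 : ((Xr z).subgroupOf (Ce z)).map φ ≤ S := by
          apply perfect_le_of_solvable (N := S) _ D.solv
          rw [← map_commutator, hXX]
        intro x hx
        have h6 : φ x ∈ (N.subgroupOf (Ce z)).map φ := h3 (h5 ⟨x, hx, rfl⟩)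
        obtain ⟨n, hn, hnx⟩ := h6
        have h7 : n⁻¹ * x ∈ φ.ker := by rw [MonoidHom.mem_ker, map_mul, map_inv, hnx, inv_mul_cancel]
        rw [hker] at h7
        have h8 : x = n * (n⁻¹ * x) := by group
        rw [h8, sup_assoc]
        exact mul_mem (mem_sup_left hn) (mem_sup_right h7)
      have hcs : Group.IsSolvable (zpowers c) := inferInstance
      have h5 : (Xr z).subgroupOf (Ce z) ≤ N.subgroupOf (Ce z) ⊔ Cfsg.pCore 2 (Ce z) :=
        perfect_le_of_sup hXX hcs h4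
      have h6 : (Xr z).subgroupOf (Ce z) ≤ N.subgroupOf (Ce z) := perfect_le_of_sup hXX hJsol h5
      have h7 := map_mono (f := (Ce z).subtype) h6
      rwa [subgroupOf_map_subtype, subgroupOf_map_subtype, inf_eq_left.2 hN, inf_eq_left.2 (Xr_le z)] at h7
  · rintro _ ⟨x, hx, rfl⟩
    obtain ⟨n, hn⟩ := mem_zpowers_iff.1 (sq_mem hAE hA2 hE hcom hx)
    refine mem_zpowers_iff.2 ⟨n, ?_⟩
    have h1 : ((zc : G)) ^ n = (x : G) * x := congrArg Subtype.val hn
    have h2 : z ^ n = (zc : G) ^ n := by rw [hzc]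
    exact h2.trans h1
  · have h1 := card_center hAE hA2 hE
    rw [hA] at h1
    rw [← card_map_of_injective (K := Cfsg.pCore 2 (Ce z) ⊓ centralizer (Cfsg.pCore 2 (Ce z) : Set (Ce z)))
      (Ce z).subtype_injective] at h1
    have h2 : (Cfsg.pCore 2 (Ce z) ⊓ centralizer (Cfsg.pCore 2 (Ce z) : Set (Ce z))).map (Ce z).subtype =
        Jz z ⊓ centralizer (Jz z : Set G) := by
      ext x
      constructor
      · rintro ⟨y, ⟨hy1, hy2⟩, rfl⟩
        refine mem_inf.2 ⟨⟨y, hy1, rfl⟩, ?_⟩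
        rw [mem_centralizer_iff]
        rintro _ ⟨w, hw, rfl⟩
        exact congrArg Subtype.val (mem_centralizer_iff.1 hy2 w hw)
      · rintro ⟨⟨x, hx, rfl⟩, hxc⟩
        refine ⟨x, mem_inf.2 ⟨hx, mem_centralizer_iff.2 fun y hy => ?_⟩, rfl⟩
        apply Subtype.ext
        exact mem_centralizer_iff.1 hxc (y : G) ⟨y, hy, rfl⟩
    rw [← h2, h1]

/-- `2^15 * 405 ∣ |X|` -/
theorem card_Xr (hφ : Function.Surjective φ) (hker : φ.ker = Cfsg.pCore 2 (Ce z) ⊔ zpowers c) (D : QData Q S)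
    (hP : P3 z (Jz z) (Xr z) (c : G)) : 2 ^ 15 * 405 ∣ Nat.card (Xr z) := by
  have : Fact (Nat.Prime 2) := ⟨Nat.prime_two⟩
  obtain ⟨Y, hY1, hY2⟩ := exists_perfect_preimage hφ D.perf
  have hYX : Y.map (Ce z).subtype ≤ Xr z := Xr_max z (map_subtype_le _) (by rw [← map_commutator, hY1])
  set X' : Subgroup (Ce z) := (Xr z).subgroupOf (Ce z) with hX'
  have hYX' : Y ≤ X' := by
    intro y hy
    rw [hX', mem_subgroupOf]
    exact hYX ⟨y, hy, rfl⟩
  have h1 : Nat.card X' = Nat.card (Xr z) := by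
    have h5 : X'.map (Ce z).subtype = Xr z := by
      rw [hX', subgroupOf_map_subtype, inf_eq_left.2 (Xr_le z)]
    rw [← h5, card_map_of_injective (Ce z).subtype_injective]
  set f : X' →* Q := φ.comp X'.subtype with hf
  have h2 : Nat.card f.ker * Nat.card f.range = Nat.card X' := by
    rw [← Subgroup.index_ker, Subgroup.card_mul_index]
  have h3 : Nat.card S ∣ Nat.card f.range := by
    apply card_dvd_of_le
    rw [← hY2]
    rintro _ ⟨y, hy, rfl⟩
    exact ⟨⟨y, hYX' hy⟩, rfl⟩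
  have h4 : Nat.card (Xr z ⊓ Jz z : Subgroup G) ∣ Nat.card f.ker := by
    have h5 : Xr z ⊓ Jz z ≤ (f.ker.map X'.subtype).map (Ce z).subtype := by
      rintro x ⟨hx1, hx2⟩
      obtain ⟨h6, h7⟩ := mem_Jz.1 hx2
      have h8 : (⟨x, h6⟩ : Ce z) ∈ φ.ker := by rw [hker]; exact mem_sup_left h7
      exact ⟨_, ⟨⟨⟨x, h6⟩, hx1⟩, h8, rfl⟩, rfl⟩
    have h6 := card_dvd_of_le h5
    rwa [card_map_of_injective (Ce z).subtype_injective, card_map_of_injective X'.subtype_injective] at h6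
  have h5 : 2 ^ 9 ∣ Nat.card f.ker := by
    refine dvd_trans ?_ h4
    have h6 : IsPGroup 2 (Xr z ⊓ Jz z : Subgroup G) := hP.J_two.to_le inf_le_right
    obtain ⟨n, hn⟩ := IsPGroup.iff_card.1 h6
    have h7 := hP.card_inf_ge
    rw [hn] at h7 ⊢
    exact pow_dvd_pow 2 ((Nat.pow_le_pow_iff_right (by norm_num)).1 h7)
  rw [← h1, ← h2]
  rw [D.card] at h3
  have h6 : 2 ^ 15 * 405 = 2 ^ 9 * 25920 := by norm_num
  rw [h6]
  exact mul_dvd_mul h5 h3

end inst

/-! ### the centralizer of `c` -/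

section e'

variable {C : Type*} [Group C] [Finite C] {P : Subgroup C} {zc c : C}

/-- `C_P(c) = ⟨zc⟩` if `C(c) / ⟨c, zc⟩` is simple of order 25920 -/
theorem cent_c (hPn : P.Normal) (hP : IsPGroup 2 P) (hzP : zc ∈ P) (hzc : orderOf zc = 2)
    (hcen : ∀ g : C, g * zc = zc * g) (hc : orderOf c = 3) {S : Type*} [Group S] [IsSimpleGroup S]
    (hS : Nat.card S = 25920)
    [hn : ((zpowers c ⊔ zpowers zc).subgroupOf (centralizer ({c} : Set C))).Normal]
    (e' : (centralizer ({c} : Set C) ⧸ (zpowers c ⊔ zpowers zc).subgroupOf (centralizer ({c} : Set C))) ≃* S)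
    {x : C} (hx : x ∈ P) (hxc : c * x = x * c) : x = 1 ∨ x = zc := by
  have : Fact (Nat.Prime 2) := ⟨Nat.prime_two⟩
  set ψ : centralizer ({c} : Set C) →* S := e'.toMonoidHom.comp (QuotientGroup.mk' _) with hψ
  have hψs : Function.Surjective ψ := e'.surjective.comp (QuotientGroup.mk'_surjective _)
  have hψk : ∀ y, ψ y = 1 → (y : C) ∈ zpowers c ⊔ zpowers zc := by
    intro y hy
    have h1 : e' (QuotientGroup.mk' _ y) = 1 := hy
    rw [map_eq_one_iff e' e'.injective] at h1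
    exact mem_subgroupOf.1 ((QuotientGroup.eq_one_iff y).1 h1)
  have hR : ((P.subgroupOf (centralizer ({c} : Set C))).map ψ).Normal :=
    (hPn.subgroupOf _).map ψ hψs
  have hR2 : IsPGroup 2 ((P.subgroupOf (centralizer ({c} : Set C))).map ψ) :=
    (hP.comap_of_injective _ (subtype_injective _)).map ψ
  have hRb : (P.subgroupOf (centralizer ({c} : Set C))).map ψ = ⊥ := by
    rcases hR.eq_bot_or_eq_top with h1 | h1
    · exact h1
    · exfalso
      rw [h1] at hR2
      have : Finite S := Nat.finite_of_card_ne_zero (by omega)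
      obtain ⟨n, hn⟩ := IsPGroup.iff_card.1 hR2
      rw [card_top, hS] at hn
      have h3 : 3 ∣ 2 ^ n := by rw [← hn]; norm_num
      have := Nat.prime_three.dvd_of_dvd_pow h3
      omega
  have hxm : x ∈ centralizer ({c} : Set C) := mem_centralizer_singleton_iff.2 hxc.symm
  have h1 : ψ ⟨x, hxm⟩ = 1 := by
    have h2 : ψ ⟨x, hxm⟩ ∈ (P.subgroupOf (centralizer ({c} : Set C))).map ψ := ⟨⟨x, hxm⟩, hx, rfl⟩
    rw [hRb, mem_bot] at h2
    exact h2
  have h2 := hψk _ h1
  have h3 : x ∈ ((zpowers c ⊔ zpowers zc : Subgroup C) : Set C) := h2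
  have hnz : zpowers c ≤ normalizer (zpowers zc : Set C) := by
    rw [le_normalizer_iff]
    intro g _ y hy
    rcases (mem_zpowers_two hzc).1 hy with rfl | rfl
    · rw [mul_one, mul_inv_cancel]; exact one_mem _
    · rw [hcen g, mul_inv_cancel_right]; exact mem_zpowers _
  rw [coe_mul_of_left_le_normalizer_right (zpowers c) (zpowers zc) hnz] at h3
  obtain ⟨a, ha, b, hb, hab⟩ := Set.mem_mul.1 h3
  have hbP : b ∈ P := (zpowers_le.2 hzP) hb
  have haP : a ∈ P := by
    have : a = (a * b) * b⁻¹ := by group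
    rw [this, hab]
    exact mul_mem hx (inv_mem hbP)
  have ha1 : a = 1 := by
    obtain ⟨n, hn⟩ := hP ⟨a, haP⟩
    have hn' : a ^ 2 ^ n = 1 := congrArg Subtype.val hn
    have h4 : orderOf a ∣ 2 ^ n := orderOf_dvd_of_pow_eq_one hn'
    have h5 : orderOf a ∣ 3 := by
      have h6 : orderOf a ∣ Nat.card (zpowers c) := by
        rw [← Subgroup.orderOf_mk a ha]; exact orderOf_dvd_natCard _
      rwa [Nat.card_zpowers, hc] at h6
    have h6 : Nat.Coprime (2 ^ n) 3 := Nat.Coprime.pow_left n (by norm_num)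
    exact orderOf_eq_one_iff.1 (Nat.eq_one_of_dvd_coprimes h6 h4 h5)
  rw [ha1, one_mul] at hab
  rw [← hab]
  exact (mem_zpowers_two hzc).1 hb

end e'

end Cfsg.Agent.H836
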