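import Mathlib

/-!
# Elements of order 5 commuting with an involution in `GL₃(64)`, `GL₄(8)`, `GU₄(8)` (helper836)

Linear algebra for S3233: in a linear group of dimension 4 over the field with 8 elements, of dimension 3 over the
field with 64 elements, or a unitary group of dimension 4 over the field with 64 elements, an element of order 5 does
not commute with an involution.
-/

set_option autoImplicit false
set_option linter.unusedSectionVars false
set_option linter.unusedTactic false
set_option linter.unreachableTactic false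

namespace Cfsg.Agent.H836.S3Lin

open Module

variable {F V : Type*} [Field F] [Finite F] [AddCommGroup V] [Module F V] [FiniteDimensional F V]

/-- fixed points modulo 5 -/
theorem count {g : V →ₗ[F] V} (hg : ∀ v, g (g (g (g (g v)))) = v) (W : Submodule F V) (hW : ∀ v ∈ W, g v ∈ W) :
    Nat.card F ^ finrank F W ≡ Nat.card F ^ finrank F ↥(W ⊓ LinearMap.ker (g - 1)) [MOD 5] := by
  classical
  have : Fact (Nat.Prime 5) := ⟨by norm_num⟩
  have : Finite V := Module.finite_of_finite F
  have : Fintype W := Fintype.ofFinite W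
  let f : Function.End W := fun v => ⟨g v, hW v v.2⟩
  have hf : f ^ 5 ^ 1 = 1 := by
    funext v
    apply Subtype.ext
    exact hg v
  have h1 := Equiv.Perm.card_fixedPoints_modEq hf
  rw [← Module.natCard_eq_pow_finrank, ← Module.natCard_eq_pow_finrank, Nat.card_eq_fintype_card]
  have h2 : Fintype.card f.fixedPoints = Nat.card ↥(W ⊓ LinearMap.ker (g - 1)) := by
    rw [← Nat.card_eq_fintype_card]
    refine Nat.card_congr
      { toFun := fun v => ⟨v.1.1, v.1.2, ?_⟩
        invFun := fun v => ⟨⟨v.1, v.2.1⟩, ?_⟩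
        left_inv := fun v => rfl
        right_inv := fun v => rfl }
    · have h3 : f v.1 = v.1 := v.2
      have h4 := congrArg Subtype.val h3
      rw [SetLike.mem_coe, LinearMap.mem_ker, LinearMap.sub_apply]
      exact sub_eq_zero.2 h4
    · have h3 := v.2.2
      rw [SetLike.mem_coe, LinearMap.mem_ker, LinearMap.sub_apply] at h3
      exact Subtype.ext (sub_eq_zero.1 h3)
  rw [← h2]
  exact h1

/-- commuting maps `g` with `g⁵ = 1` and `t` with `t² = 1`, `t ≠ 1` -/
structure Pair (g t : V →ₗ[F] V) : Prop where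
  five : ∀ v, g (g (g (g (g v)))) = v
  two : ∀ v, t (t v) = v
  ne : ∃ v, t v ≠ v
  comm : ∀ v, t (g v) = g (t v)

variable {g t : V →ₗ[F] V}

omit [Finite F] [FiniteDimensional F V] in
theorem mem_ker {f : V →ₗ[F] V} {v : V} : v ∈ LinearMap.ker (f - 1) ↔ f v = v := by
  rw [LinearMap.mem_ker, LinearMap.sub_apply]
  exact sub_eq_zero

omit [Finite F] [FiniteDimensional F V] in
theorem mem_t [CharP F 2] (h : Pair g t) (v : V) : t v + v ∈ LinearMap.ker (t - 1) := by
  rw [mem_ker, map_add, h.two, add_comm]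

/-- the dimension of the fixed space of `t` -/
theorem two_mul [CharP F 2] (h : Pair g t) : finrank F V ≤ 2 * finrank F ↥(LinearMap.ker (t - 1)) := by
  have h1 := LinearMap.finrank_range_add_finrank_ker (t - 1)
  have h2 : finrank F ↥(LinearMap.range (t - 1)) ≤ finrank F ↥(LinearMap.ker (t - 1)) := by
    apply Submodule.finrank_mono
    rintro _ ⟨v, rfl⟩
    have h3 : (t - 1) v = t v + v := by
      rw [LinearMap.sub_apply, sub_eq_add_neg]
      congr 1
      have : ((2 : F)) • v = 0 := by rw [CharTwo.two_eq_zero, zero_smul]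
      rw [two_smul] at this
      exact neg_eq_of_add_eq_zero_left this
    rw [h3]
    exact mem_t h v
  omega

theorem lt (h : Pair g t) : finrank F ↥(LinearMap.ker (t - 1)) < finrank F V := by
  apply Submodule.finrank_lt
  intro h1
  obtain ⟨v, hv⟩ := h.ne
  exact hv (mem_ker.1 (by rw [h1]; trivial))

omit [Finite F] [FiniteDimensional F V] in
theorem inv_t (h : Pair g t) : ∀ v ∈ LinearMap.ker (t - 1), g v ∈ LinearMap.ker (t - 1) := by
  intro v hv
  rw [mem_ker] at hv ⊢
  rw [h.comm, hv]

/-- a nonzero invariant subspace contains a nonzero fixed vector of `t` -/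
theorem meet [CharP F 2] (h : Pair g t) {W : Submodule F V} (hW : ∀ v ∈ W, t v ∈ W) (h0 : finrank F W ≠ 0) :
    finrank F ↥(W ⊓ LinearMap.ker (t - 1)) ≠ 0 := by
  intro h1
  have h2 : W ⊓ LinearMap.ker (t - 1) = ⊥ := Submodule.finrank_eq_zero.1 h1
  apply h0
  rw [Submodule.finrank_eq_zero, eq_bot_iff]
  intro v hv
  have h3 : t v + v ∈ W ⊓ LinearMap.ker (t - 1) := ⟨W.add_mem (hW v hv) hv, mem_t h v⟩
  rw [h2, Submodule.mem_bot] at h3
  have h4 : t v = v := by
    have h5 : ((2 : F)) • v = 0 := by rw [CharTwo.two_eq_zero, zero_smul]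
    rw [two_smul] at h5
    exact add_right_cancel (h3.trans h5.symm)
  have h6 : v ∈ W ⊓ LinearMap.ker (t - 1) := ⟨hv, mem_ker.2 h4⟩
  rwa [h2] at h6

theorem eq_one_of {g : V →ₗ[F] V} (h : finrank F ↥(LinearMap.ker (g - 1)) = finrank F V) (v : V) : g v = v := by
  have h1 : LinearMap.ker (g - 1) = ⊤ := Submodule.eq_top_of_finrank_eq h
  exact mem_ker.1 (by rw [h1]; trivial)

theorem count_top {g : V →ₗ[F] V} (hg : ∀ v, g (g (g (g (g v)))) = v) :
    Nat.card F ^ finrank F V ≡ Nat.card F ^ finrank F ↥(LinearMap.ker (g - 1)) [MOD 5] := by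
  have h := count hg ⊤ (fun v _ => trivial)
  rwa [top_inf_eq, finrank_top] at h

/-- dimension 4 over the field of order 8 -/
theorem four_eight [CharP F 2] (hF : Nat.card F = 8) (hV : finrank F V = 4) (h : Pair g t) (v : V) : g v = v := by
  apply eq_one_of
  have h1 := two_mul h
  have h2 := lt h
  have h3 := count h.five (LinearMap.ker (t - 1)) (inv_t h)
  have h4 := count_top h.five
  have h5 : finrank F ↥(LinearMap.ker (t - 1) ⊓ LinearMap.ker (g - 1)) ≤ finrank F ↥(LinearMap.ker (t - 1)) :=
    Submodule.finrank_mono inf_le_left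
  have h6 : finrank F ↥(LinearMap.ker (t - 1) ⊓ LinearMap.ker (g - 1)) ≤ finrank F ↥(LinearMap.ker (g - 1)) :=
    Submodule.finrank_mono inf_le_right
  have h7 : finrank F ↥(LinearMap.ker (g - 1)) ≤ finrank F V := Submodule.finrank_le _
  rw [hV] at h1 h2 h4 h7 ⊢
  rw [hF] at h3 h4
  generalize finrank F ↥(LinearMap.ker (t - 1)) = b at *
  generalize finrank F ↥(LinearMap.ker (g - 1)) = k at *
  generalize finrank F ↥(LinearMap.ker (t - 1) ⊓ LinearMap.ker (g - 1)) = c at *
  have hb : b = 2 ∨ b = 3 := by omega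
  unfold Nat.ModEq at h3 h4
  rcases hb with rfl | rfl <;> interval_cases c <;> first | (norm_num at h3; done) | (interval_cases k <;> first | rfl | omega | (norm_num at h4; done))

/-- dimension 3 over the field of order 64 -/
theorem three_sixtyfour [CharP F 2] (hF : Nat.card F = 64) (hV : finrank F V = 3) (h : Pair g t) (v : V) :
    g v = v := by
  apply eq_one_of
  have h1 := two_mul h
  have h2 := lt h
  have h3 := count h.five (LinearMap.ker (t - 1)) (inv_t h)
  have h4 := count_top h.five
  have h5 : finrank F ↥(LinearMap.ker (t - 1) ⊓ LinearMap.ker (g - 1)) ≤ finrank F ↥(LinearMap.ker (t - 1)) :=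
    Submodule.finrank_mono inf_le_left
  have h6 : finrank F ↥(LinearMap.ker (t - 1) ⊓ LinearMap.ker (g - 1)) ≤ finrank F ↥(LinearMap.ker (g - 1)) :=
    Submodule.finrank_mono inf_le_right
  have h7 : finrank F ↥(LinearMap.ker (g - 1)) ≤ finrank F V := Submodule.finrank_le _
  have h8 : finrank F ↥(LinearMap.ker (g - 1)) ≠ 0 → finrank F ↥(LinearMap.ker (t - 1) ⊓ LinearMap.ker (g - 1)) ≠ 0 := by
    intro h9
    have h10 := meet h (W := LinearMap.ker (g - 1)) (fun v hv => by
      rw [mem_ker] at hv ⊢
      rw [← h.comm, hv]) h9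
    rwa [inf_comm] at h10
  rw [hV] at h1 h2 h4 h7 ⊢
  rw [hF] at h3 h4
  generalize finrank F ↥(LinearMap.ker (t - 1)) = b at *
  generalize finrank F ↥(LinearMap.ker (g - 1)) = k at *
  generalize finrank F ↥(LinearMap.ker (t - 1) ⊓ LinearMap.ker (g - 1)) = c at *
  have hb : b = 2 := by omega
  subst hb
  unfold Nat.ModEq at h3 h4
  interval_cases c <;> interval_cases k <;> first | rfl | omega | (norm_num at h3; done) | (norm_num at h4; done) | (exact absurd rfl (h8 (by norm_num)))

/-! ### the unitary case -/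

/-- a Hermitian form preserved by `g` -/
structure Herm (h : V → V → F) (g : V →ₗ[F] V) : Prop where
  add_left : ∀ u v w, h (u + v) w = h u w + h v w
  add_right : ∀ u v w, h u (v + w) = h u v + h u w
  smul_left : ∀ (c : F) u v, h (c • u) v = c * h u v
  smul_right : ∀ (c : F) u v, h u (c • v) = c ^ 8 * h u v
  symm : ∀ u v, h v u = (h u v) ^ 8
  nondeg : ∀ u, (∀ v, h u v = 0) → u = 0
  inv : ∀ u v, h (g u) (g v) = h u v

/-- the kernel of `g² + a g + 1` -/
def D (g : V →ₗ[F] V) (a : F) : Submodule F V := LinearMap.ker (g * g + a • g + 1)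

theorem mem_D {a : F} {v : V} : v ∈ D g a ↔ g (g v) + a • g v + v = 0 := Iff.rfl

theorem two_add [CharP F 2] (v : V) : v + v = 0 := by
  have h5 : ((2 : F)) • v = 0 := by rw [CharTwo.two_eq_zero, zero_smul]
  rwa [two_smul] at h5

theorem D_g {a : F} {v : V} (hv : v ∈ D g a) : g v ∈ D g a := by
  rw [mem_D] at hv ⊢
  have h1 := congrArg g hv
  rwa [map_add, map_add, map_smul, map_zero] at h1

theorem D_t (hp : Pair g t) {a : F} {v : V} (hv : v ∈ D g a) : t v ∈ D g a := by
  rw [mem_D] at hv ⊢
  have h1 := congrArg t hv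
  rwa [map_add, map_add, map_smul, map_zero, hp.comm, hp.comm] at h1

/-- the vectors of `D` are isotropic -/
theorem iso_D [CharP F 2] (hF : Nat.card F = 64) {h : V → V → F} (H : Herm h g) {a : F} (ha : a * a + a + 1 = 0)
    {v : V} (hv : v ∈ D g a) : h v v = 0 := by
  have : Fintype F := Fintype.ofFinite F
  have hF' : Fintype.card F = 64 := by rw [← Nat.card_eq_fintype_card, hF]
  have hpow : ∀ x : F, x ^ 64 = x := fun x => by
    have := FiniteField.pow_card x
    rwa [hF'] at this
  have hv' : g (g v) = a • g v + v := by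
    rw [mem_D] at hv
    have h1 : g (g v) + (a • g v + v) = 0 := by rw [← add_assoc]; exact hv
    have h2 : (a • g v + v) + (a • g v + v) = 0 := two_add (F := F) _
    exact add_right_cancel (h1.trans h2.symm)
  have e1 : h (g v) (g (g v)) = h v (g v) := H.inv v (g v)
  rw [hv', H.add_right, H.smul_right, H.inv, H.symm v (g v)] at e1
  -- `a^8 δ + ε^8 = ε`
  have e2 := congrArg (fun x => x ^ 8) e1
  have hadd : ∀ x y : F, (x + y) ^ 8 = x ^ 8 + y ^ 8 := fun x y => add_pow_char_pow (p := 2) (n := 3) x y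
  have hδ : h v v ^ 8 = h v v := (H.symm v v).symm
  have h88 : ∀ x : F, (x ^ 8) ^ 8 = x := fun x => by rw [← pow_mul]; exact hpow x
  rw [hadd, mul_pow, h88, h88, hδ] at e2
  -- `a δ + ε = ε^8`
  have ha3 : a ^ 3 = 1 := by
    have : a ^ 3 - 1 = (a - 1) * (a * a + a + 1) := by ring
    rw [ha, mul_zero] at this
    exact sub_eq_zero.1 this
  have ha8 : a ^ 8 = a + 1 := by
    have h2 : a ^ 8 = (a ^ 3) ^ 2 * (a * a) := by ring
    rw [h2, ha3, one_pow, one_mul]
    have h3 : a * a + (a + 1) = 0 := by rw [← add_assoc]; exact ha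
    have h4 : (a + 1) + (a + 1) = 0 := CharTwo.add_self_eq_zero _
    exact add_right_cancel (h3.trans h4.symm)
  rw [ha8] at e1
  rw [← e2] at e1
  -- `(a+1) δ + (a δ + ε) = ε`
  have e3 : h v v + (a * h v v + a * h v v) + h v (g v) = h v (g v) := by
    calc h v v + (a * h v v + a * h v v) + h v (g v) = (a + 1) * h v v + (a * h v v + h v (g v)) := by ring
      _ = h v (g v) := e1
  rw [CharTwo.add_self_eq_zero, add_zero] at e3
  exact add_eq_right.1 e3

theorem iso_D' [CharP F 2] (hF : Nat.card F = 64) {h : V → V → F} (H : Herm h g) {a : F} (ha : a * a + a + 1 = 0)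
    {u v : V} (hu : u ∈ D g a) (hv : v ∈ D g a) : h u v = 0 := by
  have key : ∀ c : F, c ^ 8 * h u v + c * h v u = 0 := by
    intro c
    have h1 := iso_D hF H ha ((D g a).add_mem hu ((D g a).smul_mem c hv))
    rw [H.add_left, H.add_right, H.add_right, H.smul_left, H.smul_left, H.smul_right, H.smul_right,
      iso_D hF H ha hu, iso_D hF H ha hv] at h1
    rw [mul_zero, mul_zero, zero_add, add_zero] at h1
    exact h1
  have h1 := key 1
  rw [one_pow, one_mul, one_mul] at h1
  have h2 : h v u = h u v := by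
    have h3 : h u v + h u v = 0 := CharTwo.add_self_eq_zero _
    exact add_left_cancel (h1.trans h3.symm)
  have h3 := key a
  rw [h2] at h3
  have ha3 : a ^ 3 = 1 := by
    have : a ^ 3 - 1 = (a - 1) * (a * a + a + 1) := by ring
    rw [ha, mul_zero] at this
    exact sub_eq_zero.1 this
  have ha8 : a ^ 8 = a + 1 := by
    have h2 : a ^ 8 = (a ^ 3) ^ 2 * (a * a) := by ring
    rw [h2, ha3, one_pow, one_mul]
    have h3 : a * a + (a + 1) = 0 := by rw [← add_assoc]; exact ha
    have h4 : (a + 1) + (a + 1) = 0 := CharTwo.add_self_eq_zero _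
    exact add_right_cancel (h3.trans h4.symm)
  rw [ha8] at h3
  have h4 : h u v + (a * h u v + a * h u v) = 0 := by rw [← h3]; ring
  rwa [CharTwo.add_self_eq_zero, add_zero] at h4

theorem D_inf [CharP F 2] {a : F} (ha : a * a + a + 1 = 0) {v : V} (hv : v ∈ D g a) (h1 : g v = v) : v = 0 := by
  rw [mem_D, h1, h1] at hv
  have h2 : a • v + (v + v) = 0 := by rw [← hv]; abel
  rw [two_add (F := F), add_zero] at h2
  rcases smul_eq_zero.1 h2 with h3 | h3
  · rw [h3] at ha
    simp at ha
  · exact h3

/-- `D` is orthogonal to the fixed space -/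
theorem D_orth [CharP F 2] (_hp : ∀ v, g (g (g (g (g v)))) = v) {h : V → V → F} (H : Herm h g) {a : F}
    (ha : a * a + a + 1 = 0)
    {u v : V} (hu : u ∈ D g a) (hv : g v = v) : h u v = 0 := by
  have h1 : ∀ w, h (g w) v = h w v := fun w => by
    have := H.inv w v
    rwa [hv] at this
  have h0 : h (0 : V) v = 0 := by
    have := H.smul_left 0 u v
    rwa [zero_smul, zero_mul] at this
  have h2 := congrArg (fun w => h w v) (mem_D.1 hu)
  rw [H.add_left, H.add_left, H.smul_left, h1, h1, h0] at h2
  have h3 : (h u v + h u v) + a * h u v = 0 := by rw [← h2]; ring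
  rw [CharTwo.add_self_eq_zero, zero_add] at h3
  rcases mul_eq_zero.1 h3 with h4 | h4
  · rw [h4] at ha
    simp at ha
  · exact h4

/-- the dimension of `D` is even -/
theorem even_D [CharP F 2] (hp : ∀ v, g (g (g (g (g v)))) = v) (hF : Nat.card F = 64) (hV : finrank F V = 4) {a : F}
    (ha : a * a + a + 1 = 0) (W : Submodule F V) (hW : W ≤ D g a) (hW' : ∀ v ∈ W, g v ∈ W) :
    finrank F W = 0 ∨ finrank F W = 2 ∨ finrank F W = 4 := by
  have h3 := count hp W hW'
  have h4 : W ⊓ LinearMap.ker (g - 1) = ⊥ := by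
    rw [eq_bot_iff]
    rintro v ⟨h1, h2⟩
    exact D_inf ha (hW h1) (mem_ker.1 h2)
  rw [h4, finrank_bot, pow_zero, hF] at h3
  have h5 : finrank F W ≤ 4 := by rw [← hV]; exact Submodule.finrank_le _
  generalize finrank F W = d at *
  unfold Nat.ModEq at h3
  interval_cases d <;> first | omega | (norm_num at h3; done)

/-- decomposition of a vector -/
theorem decomp [CharP F 2] (hp : ∀ v, g (g (g (g (g v)))) = v) {a b : F} (ha : a * a + a + 1 = 0) (hab : a + b = 1)
    (v : V) : v ∈ LinearMap.ker (g - 1) ⊔ (D g a ⊔ D g b) := by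
  have hab' : a * b = 1 := by
    have h1 : b = a + 1 := by
      have h2 : a + (a + 1) = 1 := by rw [← add_assoc, CharTwo.add_self_eq_zero, zero_add]
      exact add_left_cancel (hab.trans h2.symm)
    rw [h1]
    have h3 : (a * a + a) + 1 = 0 := ha
    have h4 : (1 : F) + 1 = 0 := CharTwo.add_self_eq_zero _
    have h5 : a * a + a = 1 := add_right_cancel (h3.trans h4.symm)
    rw [mul_add, mul_one]; exact h5
  -- the components of `w` with `w + g w + g² w + g³ w + g⁴ w = 0`
  have key : ∀ w : V, w + g w + g (g w) + g (g (g w)) + g (g (g (g w))) = 0 → g w ∈ D g a ⊔ D g b := by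
    intro w hw
    have h1 : ∀ c d : F, c + d = 1 → c * d = 1 → g (g w) + d • g w + w ∈ D g c := by
      intro c d hcd hcd'
      rw [mem_D]
      simp only [map_add, map_smul, smul_add, smul_smul]
      rw [hcd', one_smul]
      have : g (g (g (g w))) + d • g (g (g w)) + g (g w) + (c • g (g (g w)) + g (g w) + c • g w) +
          (g (g w) + d • g w + w) = w + (c + d) • g w + (g (g w) + g (g w)) + g (g w) + (c + d) • g (g (g w)) +
            g (g (g (g w))) := by
        rw [add_smul, add_smul]; abel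
      rw [this, two_add (F := F), hcd, one_smul, one_smul, add_zero, hw]
    have h2 : g w = (g (g w) + b • g w + w) + (g (g w) + a • g w + w) := by
      have : (g (g w) + b • g w + w) + (g (g w) + a • g w + w) = (g (g w) + g (g w)) + (w + w) + (a + b) • g w := by
        rw [add_smul]; abel
      rw [this, two_add (F := F), two_add (F := F), hab, one_smul, zero_add, zero_add]
    rw [h2]
    exact Submodule.add_mem_sup (h1 a b hab hab') (h1 b a (by rw [add_comm]; exact hab) (by rw [mul_comm]; exact hab'))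
  have key' : ∀ w : V, w + g w + g (g w) + g (g (g w)) + g (g (g (g w))) = 0 → w ∈ D g a ⊔ D g b := by
    intro w hw
    have h1 := key (g (g (g (g w)))) (by
      rw [hp]
      have h3 := congrArg g (congrArg g (congrArg g (congrArg g hw)))
      simp only [map_add, map_zero, hp] at h3
      rw [← h3])
    rwa [hp] at h1
  set p := v + g v + g (g v) + g (g (g v)) + g (g (g (g v))) with hpdef
  have hgp : g p = p := by
    rw [hpdef]
    simp only [map_add, hp]
    abel
  have h1 : v = p + (v + p) := by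
    rw [add_comm v p, ← add_assoc, two_add (F := F), zero_add]
  rw [h1]
  refine Submodule.add_mem_sup (mem_ker.2 hgp) (key' _ ?_)
  simp only [map_add, hgp]
  have h2 : v + p + (g v + p) + (g (g v) + p) + (g (g (g v)) + p) + (g (g (g (g v))) + p) =
      (v + g v + g (g v) + g (g (g v)) + g (g (g (g v)))) + p + (p + p) + (p + p) := by abel
  rw [h2, ← hpdef, two_add (F := F), zero_add, two_add (F := F)]

/-- dimension 4 over the field of order 64 with a Hermitian form -/
theorem unitary [CharP F 2] (hF : Nat.card F = 64) (hV : finrank F V = 4) {h : V → V → F} (H : Herm h g)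
    (hp : Pair g t) (v : V) : g v = v := by
  have : Fintype F := Fintype.ofFinite F
  -- an element of order 3
  obtain ⟨a, ha⟩ : ∃ a : F, a * a + a + 1 = 0 := by
    have hc : Nat.card Fˣ = 63 := by
      rw [Nat.card_units, hF]
    have : Fact (Nat.Prime 3) := ⟨Nat.prime_three⟩
    obtain ⟨x, hx⟩ := exists_prime_orderOf_dvd_card' (G := Fˣ) 3 (by rw [hc]; norm_num)
    refine ⟨(x : F), ?_⟩
    have h1 : (x : F) ^ 3 = 1 := by
      rw [← Units.val_pow_eq_pow_val, ← hx, pow_orderOf_eq_one]; rfl
    have h2 : ((x : F) - 1) * ((x : F) * x + x + 1) = 0 := by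
      have : ((x : F) - 1) * ((x : F) * x + x + 1) = (x : F) ^ 3 - 1 := by ring
      rw [this, h1, sub_self]
    rcases mul_eq_zero.1 h2 with h3 | h3
    · exfalso
      have h4 : x = 1 := Units.ext (sub_eq_zero.1 h3)
      rw [h4, orderOf_one] at hx
      omega
    · exact h3
  obtain ⟨b, hab⟩ : ∃ b, a + b = 1 := ⟨1 - a, by ring⟩
  have hb : b * b + b + 1 = 0 := by
    have h1 : b = a + 1 := by
      have h2 : a + (a + 1) = 1 := by rw [← add_assoc, CharTwo.add_self_eq_zero, zero_add]
      exact add_left_cancel (hab.trans h2.symm)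
    rw [h1]
    have : (a + 1) * (a + 1) + (a + 1) + 1 = (a * a + a + 1) + (a + a) + (1 + 1) := by ring
    rw [this, ha, CharTwo.add_self_eq_zero, zero_add, CharTwo.add_self_eq_zero, add_zero]
  set K : Submodule F V := LinearMap.ker (g - 1) with hK
  have htop : K ⊔ (D g a ⊔ D g b) = ⊤ := eq_top_iff.2 fun v _ => decomp hp.five ha hab v
  have hba : b + a = 1 := by rw [add_comm]; exact hab
  -- if one is trivial then so is the other
  have hzero : ∀ {a b : F}, a * a + a + 1 = 0 → K ⊔ (D g a ⊔ D g b) = ⊤ → D g b = ⊥ → D g a = ⊥ := by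
    intro a b ha htop hb0
    rw [eq_bot_iff]
    intro u hu
    rw [Submodule.mem_bot]
    apply H.nondeg
    intro w
    have h1 : w ∈ K ⊔ (D g a ⊔ D g b) := by rw [htop]; trivial
    rw [hb0, sup_bot_eq] at h1
    obtain ⟨x, hx, y, hy, rfl⟩ := Submodule.mem_sup.1 h1
    rw [H.add_right, D_orth hp.five H ha hu (mem_ker.1 hx), iso_D' hF H ha hu hy, add_zero]
  have htop' : K ⊔ (D g b ⊔ D g a) = ⊤ := by rw [sup_comm (D g b)]; exact htop
  by_cases h0 : D g a = ⊥
  · have h1 := hzero hb htop' h0
    rw [h0, h1, sup_bot_eq, sup_bot_eq] at htop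
    exact mem_ker.1 (by rw [← hK, htop]; trivial)
  exfalso
  have h0' : D g b ≠ ⊥ := fun h1 => h0 (hzero ha htop h1)
  -- dimensions
  have hda := even_D hp.five hF hV ha (D g a) le_rfl (fun v hv => D_g hv)
  have hdb := even_D hp.five hF hV hb (D g b) le_rfl (fun v hv => D_g hv)
  have hda0 : finrank F (D g a) ≠ 0 := fun h1 => h0 (Submodule.finrank_eq_zero.1 h1)
  have hdb0 : finrank F (D g b) ≠ 0 := fun h1 => h0' (Submodule.finrank_eq_zero.1 h1)
  have hinf : D g a ⊓ D g b = ⊥ := by
    rw [eq_bot_iff]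
    rintro u ⟨h1, h2⟩
    have h3 := mem_D.1 h1
    have h4 := mem_D.1 h2
    have h5 : (g (g u) + g (g u)) + (a + b) • g u + (u + u) = 0 := by
      have : (g (g u) + g (g u)) + (a + b) • g u + (u + u) =
          (g (g u) + a • g u + u) + (g (g u) + b • g u + u) := by rw [add_smul]; abel
      rw [this, h3, h4, add_zero]
    rw [two_add (F := F), two_add (F := F), hab, one_smul, zero_add, add_zero] at h5
    have h6 := hp.five u
    rw [h5, map_zero, map_zero, map_zero, map_zero] at h6
    rw [Submodule.mem_bot]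
    exact h6.symm
  have hsum := Submodule.finrank_sup_add_finrank_inf_eq (D g a) (D g b)
  rw [hinf, finrank_bot, add_zero] at hsum
  have hle : finrank F ↥(D g a ⊔ D g b) ≤ 4 := by rw [← hV]; exact Submodule.finrank_le _
  have hda2 : finrank F (D g a) = 2 := by omega
  have hdb2 : finrank F (D g b) = 2 := by omega
  have hDD : D g a ⊔ D g b = ⊤ := by
    apply Submodule.eq_top_of_finrank_eq
    omega
  -- `t` is trivial on both
  have htriv : ∀ {a : F}, a * a + a + 1 = 0 → finrank F (D g a) = 2 → ∀ v ∈ D g a, t v = v := by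
    intro a ha h2 v hv
    have h3 := meet hp (W := D g a) (fun v hv => D_t hp hv) (by omega)
    have h4 := even_D hp.five hF hV ha (D g a ⊓ LinearMap.ker (t - 1)) inf_le_left (fun v hv => ⟨D_g hv.1, inv_t hp v hv.2⟩)
    have h5 : finrank F ↥(D g a ⊓ LinearMap.ker (t - 1)) ≤ finrank F (D g a) := Submodule.finrank_mono inf_le_left
    have h6 : D g a ⊓ LinearMap.ker (t - 1) = D g a := Submodule.eq_of_le_of_finrank_eq inf_le_left (by omega)
    have h7 : v ∈ D g a ⊓ LinearMap.ker (t - 1) := by rw [h6]; exact hv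
    exact mem_ker.1 h7.2
  obtain ⟨v, hv⟩ := hp.ne
  apply hv
  have h1 : v ∈ D g a ⊔ D g b := by rw [hDD]; trivial
  obtain ⟨x, hx, y, hy, rfl⟩ := Submodule.mem_sup.1 h1
  rw [map_add, htriv ha hda2 x hx, htriv hb hdb2 y hy]

end Cfsg.Agent.H836.S3Lin
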