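import Cfsg.Agent.H836.T3Move
import Cfsg.Agent.H836.T3SL

/-!
# Consequences of the transitivity on the blocks (for S3368)

`P` is the preimage of `O₂(C(Z)/Q)`, of order `2^7 * 3^7`, and fixes the blocks.
-/

set_option autoImplicit false

namespace Cfsg.Agent.H836.T3Move

open Cfsg Cfsg.Agent.H341.Weak Cfsg.Agent.H349.T3 Cfsg.Agent.H261 Cfsg.Agent.H836.T3SL Subgroup

universe u

variable {G : Type u} [Group G] {Z Q : Subgroup G} {U : Fin 3 → Subgroup G} {e : Fin 3 → G}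

/-- `P` is the largest normal subgroup of `C(Z)` containing `Q` with `P/Q` a `2`-group; it has order `2^7 * 3^7` and
fixes the blocks. -/
structure PData (Z Q : Subgroup G) (U : Fin 3 → Subgroup G) (P : Subgroup G) : Prop where
  QP : Q ≤ P
  PC : P ≤ centralizer (Z : Set G)
  nP : ∀ c ∈ centralizer (Z : Set G), ∀ x ∈ P, c * x * c⁻¹ ∈ P
  card : Nat.card P = 2 ^ 7 * 3 ^ 7
  nU : ∀ x ∈ P, ∀ i, ∀ u ∈ U i, x * u * x⁻¹ ∈ U i
  max : ∀ P' : Subgroup G, Q ≤ P' → P' ≤ centralizer (Z : Set G) →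
    (∀ c ∈ centralizer (Z : Set G), ∀ x ∈ P', c * x * c⁻¹ ∈ P') → (∃ a, Nat.card P' = 2 ^ a * 3 ^ 7) → P' ≤ P

theorem perm3 : ∀ p : Equiv.Perm (Fin 3), p ≠ 1 → p ^ 3 = 1 → ∀ i j, i = j ∨ p i = j ∨ (p * p) i = j := by
  decide +kernel

/-- the blocks are permuted transitively -/
theorem exists_trans [Finite G] (F : Frame Z Q U e)
    (fus : ∃ g : G, (∀ x ∈ Z, g * x * g⁻¹ ∈ Q) ∧ ¬ ∀ x ∈ Z, g * x * g⁻¹ ∈ Z) (i j : Fin 3) :
    ∃ g ∈ centralizer (Z : Set G), ∀ x, x ∈ U i ↔ g * x * g⁻¹ ∈ U j := by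
  obtain ⟨c, hc, hc3, i₀, u, hu, hcu⟩ := exists_moving F fus
  obtain ⟨π, hπ, -⟩ := FrameL.exists_perm F
  obtain ⟨p, hp⟩ : ∃ p, p = π ⟨c, hc⟩ := ⟨_, rfl⟩
  have hp1 : p ≠ 1 := by
    intro h
    apply hcu
    have h1 := (hπ ⟨c, hc⟩ i₀ u).1 hu
    rw [← hp, h] at h1
    exact h1
  have hp3 : p ^ 3 = 1 := by
    rw [hp, ← map_pow]
    have h8 : (⟨c, hc⟩ : ↥(centralizer (Z : Set G))) ^ 3 = 1 := Subtype.ext hc3
    rw [h8, map_one]
  rcases perm3 p hp1 hp3 i j with h | h | h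
  · refine ⟨1, one_mem _, fun x => ?_⟩
    rw [h]
    simp
  · refine ⟨c, hc, fun x => ?_⟩
    have h1 := hπ ⟨c, hc⟩ i x
    rw [← hp, h] at h1
    exact h1
  · refine ⟨c * c, mul_mem hc hc, fun x => ?_⟩
    have h1 := hπ (⟨c, hc⟩ * ⟨c, hc⟩) i x
    rw [map_mul, ← hp, h] at h1
    exact h1

/-- the map to `SL₂(3)³` -/
def tau {K : Subgroup G} (σ : Fin 3 → (↥K →* SL)) : ↥K →* (Fin 3 → SL) := MonoidHom.pi σ

theorem tau_apply {K : Subgroup G} (σ : Fin 3 → (↥K →* SL)) (k : ↥K) (i : Fin 3) : tau σ k i = σ i k := rfl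

theorem card_ker_le {A B : Type*} [Group A] [Group B] [Finite A] (f : A →* B) :
    Nat.card A = Nat.card f.ker * Nat.card f.range := by
  have h1 := Subgroup.card_mul_index f.ker
  rw [Subgroup.index_ker] at h1
  exact h1.symm

section
variable (F : Frame Z Q U e) {P : Subgroup G} (D : PData Z Q U P)
  (σ : Fin 3 → (↥(FrameL.K F) →* SL))
  (hσ : ∀ i (k : FrameL.K F), σ i k = 1 ↔ ∀ u ∈ U i, (k : G) * u * (k : G)⁻¹ * u⁻¹ ∈ Z)
include hσ

omit D in
theorem mem_Q_iff (k : FrameL.K F) : (∀ i, σ i k = 1) ↔ (k : G) ∈ Q := by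
  constructor
  · intro h
    exact FrameL.kernel F fun i u hu => (hσ i k).1 (h i) u hu
  · intro h i
    exact (hσ i k).2 fun u hu => F.comZ _ h u (F.UleQ i hu)

/-- the preimage of the quaternion groups -/
def Phat : Subgroup ↥(FrameL.K F) := ⨅ i, Q8.comap (σ i)

omit hσ in
theorem mem_Phat (k : FrameL.K F) : k ∈ Phat F σ ↔ ∀ i, σ i k ^ 4 = 1 := by
  unfold Phat
  rw [Subgroup.mem_iInf]
  rfl

theorem mem_Phat' (k : FrameL.K F) : k ∈ Phat F σ ↔ (k : G) ^ 4 ∈ Q := by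
  rw [mem_Phat, ← SubmonoidClass.coe_pow, ← mem_Q_iff F σ hσ]
  simp only [map_pow]

theorem card_Phat [Finite G] : ∃ a, Nat.card (Phat F σ) = 2 ^ a * 3 ^ 7 := by
  let f : ↥(Phat F σ) →* (Fin 3 → ↥Q8) :=
    { toFun := fun k i => ⟨σ i k, (mem_Phat F σ k).1 k.2 i⟩
      map_one' := by
        funext i
        exact Subtype.ext (map_one (σ i))
      map_mul' := by
        intro a b
        funext i
        exact Subtype.ext (map_mul (σ i) _ _) }
  have h1 := card_ker_le f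
  have h2 : Nat.card f.ker = 3 ^ 7 := by
    rw [← F.cardQ]
    refine Nat.card_congr ⟨fun x => ⟨((x : ↥(Phat F σ)) : ↥(FrameL.K F)), ?_⟩, fun x => ⟨⟨⟨x, FrameL.QleK F x.2⟩, ?_⟩, ?_⟩,
      fun _ => rfl, fun _ => rfl⟩
    · refine (mem_Q_iff F σ hσ _).1 fun i => ?_
      have h3 : f x = 1 := x.2
      have h4 := congrFun h3 i
      exact congrArg Subtype.val h4
    · rw [mem_Phat]
      intro i
      rw [(mem_Q_iff F σ hσ ⟨x, FrameL.QleK F x.2⟩).2 x.2 i, one_pow]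
    · rw [MonoidHom.mem_ker]
      funext i
      exact Subtype.ext ((mem_Q_iff F σ hσ ⟨x, FrameL.QleK F x.2⟩).2 x.2 i)
  have h3 : Nat.card f.range ∣ 2 ^ 9 := by
    have h4 : Nat.card (Fin 3 → ↥Q8) = 2 ^ 9 := by
      rw [Nat.card_fun, card_Q8, Nat.card_fin]
      norm_num
    rw [← h4]
    exact Subgroup.card_subgroup_dvd_card _
  obtain ⟨a, -, ha⟩ := (Nat.dvd_prime_pow Nat.prime_two).1 h3
  exact ⟨a, by rw [h1, h2, ha, mul_comm]⟩

omit hσ in
include D in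
theorem PleK : P ≤ FrameL.K F := by
  intro x hx
  rw [FrameL.mem_K]
  refine ⟨D.PC hx, fun i u => ⟨D.nU x hx i u, fun hu => ?_⟩⟩
  have h1 := D.nU x⁻¹ (P.inv_mem hx) i _ hu
  have h2 : x⁻¹ * (x * u * x⁻¹) * x⁻¹⁻¹ = u := by group
  rwa [h2] at h1

omit hσ in
include F D in
theorem pow4 [Finite G] {x : G} (hx : x ∈ P) : x ^ 4 ∈ Q := by
  obtain ⟨σ, hσ, -⟩ := FrameL.exists_sl3 F
  have hn := FrameL.normal_subgroupOf F D.PC
  have h1 : (Q.subgroupOf P).index = 2 ^ 7 := by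
    have h2 := Subgroup.card_mul_index (Q.subgroupOf P)
    rw [Nat.card_congr (Subgroup.subgroupOfEquivOfLe D.QP).toEquiv, F.cardQ, D.card] at h2
    omega
  have h2 := Subgroup.pow_index_mem (Q.subgroupOf P) ⟨x, hx⟩
  rw [h1, Subgroup.mem_subgroupOf] at h2
  have h3 : x ^ 2 ^ 7 ∈ Q := h2
  have hxK := PleK F D hx
  obtain ⟨k, hk⟩ : ∃ k : ↥(FrameL.K F), k = ⟨x, hxK⟩ := ⟨_, rfl⟩
  have h4 : ∀ i, σ i k ^ 128 = 1 := by
    intro i
    rw [← map_pow]
    refine (mem_Q_iff F σ hσ _).2 ?_ i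
    rw [hk]
    exact h3
  have h5 : ∀ i, σ i k ^ 4 = 1 := by
    intro i
    refine pow8 _ ?_
    have h6 := pow24 (σ i k)
    have h7 : σ i k ^ 128 = (σ i k ^ 24) ^ 5 * σ i k ^ 8 := by
      rw [← pow_mul, ← pow_add]
    rw [h4, h6, one_pow, one_mul] at h7
    exact h7.symm
  have h6 := (mem_Phat' F σ hσ k).1 ((mem_Phat F σ k).2 h5)
  rw [hk] at h6
  exact h6

include D in
theorem P_eq [Finite G] (k : FrameL.K F) : (k : G) ∈ P ↔ ∀ i, σ i k ^ 4 = 1 := by
  rw [← mem_Phat]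
  constructor
  · intro h
    rw [mem_Phat' F σ hσ]
    exact pow4 F D h
  · intro h
    have h1 : (Phat F σ).map (FrameL.K F).subtype ≤ P := by
      refine D.max _ ?_ ?_ ?_ ?_
      · intro q hq
        refine ⟨⟨q, FrameL.QleK F hq⟩, ?_, rfl⟩
        change _ ∈ Phat F σ
        rw [mem_Phat' F σ hσ]
        exact Q.pow_mem hq 4
      · rintro _ ⟨y, -, rfl⟩
        exact FrameL.KleC F y.2
      · rintro c hc _ ⟨y, hy, rfl⟩
        obtain ⟨s, hs⟩ := FrameL.perm_iff F hc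
        have hcy : c * (y : G) * c⁻¹ ∈ FrameL.K F := by
          rw [FrameL.mem_K]
          refine ⟨mul_mem (mul_mem hc (FrameL.KleC F y.2)) (inv_mem hc), fun i x => ?_⟩
          obtain ⟨j, rfl⟩ := s.surjective i
          have h2 : x ∈ U (s j) ↔ c⁻¹ * x * c ∈ U j := by
            rw [hs j]
            have : c * (c⁻¹ * x * c) * c⁻¹ = x := by group
            rw [this]
          have h3 : c * (y : G) * c⁻¹ * x * (c * (y : G) * c⁻¹)⁻¹ ∈ U (s j) ↔
              (y : G) * (c⁻¹ * x * c) * (y : G)⁻¹ ∈ U j := by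
            rw [hs j]
            have : c * ((y : G) * (c⁻¹ * x * c) * (y : G)⁻¹) * c⁻¹ = c * (y : G) * c⁻¹ * x * (c * (y : G) * c⁻¹)⁻¹ := by
              group
            rw [this]
          rw [h2, h3]
          exact (FrameL.mem_K.1 y.2).2 j _
        refine ⟨⟨_, hcy⟩, ?_, rfl⟩
        change _ ∈ Phat F σ
        rw [mem_Phat' F σ hσ]
        change (c * (y : G) * c⁻¹) ^ 4 ∈ Q
        rw [conj_pow]
        exact F.conjQ c hc _ ((mem_Phat' F σ hσ y).1 hy)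
      · obtain ⟨a, ha⟩ := card_Phat F σ hσ
        exact ⟨a, by rw [Subgroup.card_map_of_injective (FrameL.K F).subtype_injective, ha]⟩
    exact h1 ⟨k, h, rfl⟩

/-- some element of `P` acts with order four on each block -/
theorem exists_four [Finite G] (D : PData Z Q U P)
    (fus : ∃ g : G, (∀ x ∈ Z, g * x * g⁻¹ ∈ Q) ∧ ¬ ∀ x ∈ Z, g * x * g⁻¹ ∈ Z) (i : Fin 3) :
    ∃ k : FrameL.K F, (k : G) ∈ P ∧ σ i k * σ i k ≠ 1 := by
  classical
  -- one block
  obtain ⟨j, k, hk, hkj⟩ : ∃ j, ∃ k : FrameL.K F, (k : G) ∈ P ∧ σ j k * σ j k ≠ 1 := by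
    by_contra hcon
    push Not at hcon
    -- then `P/Q` embeds into `{1, -1}^3`
    let f : ↥P →* (Fin 3 → SL) :=
      { toFun := fun x i => σ i ⟨x, PleK F D x.2⟩
        map_one' := by
          funext i
          exact map_one (σ i)
        map_mul' := by
          intro a b
          funext i
          exact map_mul (σ i) ⟨a, PleK F D a.2⟩ ⟨b, PleK F D b.2⟩ }
    have h1 := card_ker_le f
    have h2 : Nat.card f.ker = 3 ^ 7 := by
      rw [← F.cardQ]
      refine Nat.card_congr ⟨fun x => ⟨((x : ↥P) : G), ?_⟩, fun x => ⟨⟨x, D.QP x.2⟩, ?_⟩, fun _ => rfl, fun _ => rfl⟩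
      · refine (mem_Q_iff F σ hσ ⟨((x : ↥P) : G), PleK F D x.1.2⟩).1 fun i => ?_
        have h3 : f x = 1 := x.2
        exact congrFun h3 i
      · rw [MonoidHom.mem_ker]
        funext i
        exact (mem_Q_iff F σ hσ ⟨x, FrameL.QleK F x.2⟩).2 x.2 i
    have h3 : Nat.card f.range ≤ 8 := by
      have h4 : Nat.card (Fin 3 → Prop) = 8 := by simp
      rw [← h4]
      refine Nat.card_le_card_of_injective (fun y : ↥f.range => fun i : Fin 3 => (y : Fin 3 → SL) i = 1) ?_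
      rintro ⟨_, x, rfl⟩ ⟨_, y, rfl⟩ hxy
      apply Subtype.ext
      funext i
      have h5 : (f x i = 1) = (f y i = 1) := congrFun hxy i
      have h6 : ∀ x : ↥P, f x i = 1 ∨ f x i = -1 := by
        intro x
        exact sl23_sq _ (hcon i ⟨x, PleK F D x.2⟩ x.2)
      change f x i = f y i
      rcases h6 x with hx | hx
      · rw [hx, h5.mp hx]
      · rcases h6 y with hy | hy
        · rw [hy, h5.mpr hy]
        · rw [hx, hy]
    rw [h2, D.card] at h1
    omega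
  obtain ⟨g, hg, hgU⟩ := exists_trans F fus j i
  have hP : g * (k : G) * g⁻¹ ∈ P := D.nP g hg k hk
  refine ⟨⟨g * k * g⁻¹, PleK F D hP⟩, hP, ?_⟩
  intro h
  apply hkj
  rw [← map_mul, hσ] at h ⊢
  intro u hu
  have h1 := h _ ((hgU u).1 hu)
  have h2 : ((⟨g * k * g⁻¹, PleK F D hP⟩ * ⟨g * k * g⁻¹, PleK F D hP⟩ : ↥(FrameL.K F)) : G) =
      g * (k * k) * g⁻¹ := by
    change g * (k : G) * g⁻¹ * (g * k * g⁻¹) = _
    group
  rw [h2] at h1
  have h3 : g * ((k : G) * k) * g⁻¹ * (g * u * g⁻¹) * (g * ((k : G) * k) * g⁻¹)⁻¹ * (g * u * g⁻¹)⁻¹ =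
      g * ((k : G) * k * u * ((k : G) * k)⁻¹ * u⁻¹) * g⁻¹ := by group
  rw [h3] at h1
  have h4 : ((k * k : ↥(FrameL.K F)) : G) * u * ((k * k : ↥(FrameL.K F)) : G)⁻¹ * u⁻¹ =
      g⁻¹ * (g * ((k : G) * k * u * ((k : G) * k)⁻¹ * u⁻¹) * g⁻¹) * g := by
    push_cast
    group
  rw [h4, mul_assoc, FrameL.zc F h1 hg, ← mul_assoc, inv_mul_cancel, one_mul]
  exact h1

end

/-- **(1)** the blocks are irreducible under `C(Z)` -/
theorem irr [Finite G] (F : Frame Z Q U e) {P : Subgroup G} (D : PData Z Q U P)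
    (fus : ∃ g : G, (∀ x ∈ Z, g * x * g⁻¹ ∈ Q) ∧ ¬ ∀ x ∈ Z, g * x * g⁻¹ ∈ Z) :
    ∀ i, ∀ A : Subgroup G, Z ≤ A → (∀ c ∈ centralizer (Z : Set G), ∀ y ∈ A, c * y * c⁻¹ ∈ A) →
    (∃ x ∈ A, x ∈ U i ∧ x ∉ Z) → U i ≤ A := by
  intro i A hZA hA ⟨y, hyA, hyU, hyZ⟩
  obtain ⟨σ, hσ, hσ'⟩ := FrameL.exists_sl3 F
  obtain ⟨k, hkP, hk⟩ := exists_four F σ hσ D fus i
  have hk4 : σ i k ^ 4 = 1 := (P_eq F D σ hσ k).1 hkP i
  have hk2 : σ i (k * k) = -1 := by
    rw [map_mul]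
    exact (sq_eq _ hk4).resolve_left hk
  have hinv := (hσ' i (k * k)).1 hk2 y hyU
  have hkC := D.PC hkP
  obtain ⟨x, hx⟩ : ∃ x, x = (k : G) * y * (k : G)⁻¹ := ⟨_, rfl⟩
  have hxU : x ∈ U i := hx ▸ D.nU k hkP i y hyU
  have hxA : x ∈ A := hx ▸ hA k hkC y hyA
  have hnc : y * x ≠ x * y := by
    intro hcom
    obtain ⟨n, hn⟩ := cent_U F hyU hyZ hxU hcom
    obtain ⟨w, hw⟩ : ∃ w, w = y ^ n * x := ⟨_, rfl⟩
    rw [← hw] at hn
    have hxw : x = y ^ (-n) * w := by rw [hw]; group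
    have hwy : ∀ m : ℤ, Commute w (y ^ m) := fun m =>
      FrameL.zc F hn (FrameL.UleC F i ((U i).zpow_mem hyU m))
    have hkw : (k : G) * w * (k : G)⁻¹ = w := by rw [← FrameL.zc F hn hkC, mul_inv_cancel_right]
    -- `k x k⁻¹ = x ^ (-n) * w`
    have h1 : (k : G) * x * (k : G)⁻¹ = x ^ (-n) * w := by
      conv_lhs => rw [hxw]
      have h2 : (k : G) * (y ^ (-n) * w) * (k : G)⁻¹ = ((k : G) * y * (k : G)⁻¹) ^ (-n) * ((k : G) * w * (k : G)⁻¹) := by
        rw [conj_zpow]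
        group
      rw [h2, ← hx, hkw]
    have h2 : x ^ (-n) = y ^ (n * n) * w ^ (-n) := by
      rw [hxw, (hwy (-n)).symm.mul_zpow, ← zpow_mul]
      congr 2
      ring
    have h3 : (k : G) * x * (k : G)⁻¹ * y = ((k * k : ↥(FrameL.K F)) : G) * y * ((k * k : ↥(FrameL.K F)) : G)⁻¹ * y := by
      rw [hx]
      push_cast
      group
    rw [← h3, h1, h2] at hinv
    -- `y ^ (n * n + 1) ∈ Z`
    have h4 : y ^ (n * n + 1) ∈ Z := by
      have h5 : y ^ (n * n) * w ^ (-n) * w * y = y ^ (n * n + 1) * (w ^ (-n) * w) := by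
        have h6 : Commute (w ^ (-n) * w) y :=
          FrameL.zc F (Z.mul_mem (Z.zpow_mem hn _) hn) (FrameL.UleC F i hyU)
        calc y ^ (n * n) * w ^ (-n) * w * y = y ^ (n * n) * ((w ^ (-n) * w) * y) := by group
          _ = y ^ (n * n) * (y * (w ^ (-n) * w)) := by rw [h6.eq]
          _ = _ := by rw [zpow_add_one]; group
      rw [h5] at hinv
      exact (Z.mul_mem_cancel_right (Z.mul_mem (Z.zpow_mem hn _) hn)).1 hinv
    have hy3 : y ^ (3 : ℤ) = 1 := by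
      have := F.exp y (F.UleQ i hyU)
      exact_mod_cast this
    have hmod : (n * n + 1) % 3 = 1 ∨ (n * n + 1) % 3 = 2 := by
      have h5 : n % 3 = 0 ∨ n % 3 = 1 ∨ n % 3 = 2 := by omega
      rcases h5 with h | h | h <;> simp [Int.add_emod, Int.mul_emod, h]
    have htm : y ^ (n * n + 1) = y ^ ((n * n + 1) % 3) := by
      conv_lhs => rw [← Int.mul_ediv_add_emod (n * n + 1) 3]
      rw [zpow_add, zpow_mul, hy3, one_zpow, one_mul]
    rw [htm] at h4
    rcases hmod with h | h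
    · rw [h, zpow_one] at h4
      exact hyZ h4
    · rw [h] at h4
      apply hyZ
      refine FrameL.mem_of_sq F (F.UleQ i hyU) ?_
      rw [← zpow_two]
      exact h4
  exact (le_of_noncomm (F.cardU i) (W := U i ⊓ A) inf_le_left (x := y) (y := x) (z := y) ⟨hyU, hyA⟩ ⟨hxU, hxA⟩ hnc
    ⟨hyU, hyA⟩).trans inf_le_right

section
variable (F : Frame Z Q U e) {P : Subgroup G} (D : PData Z Q U P)
  (σ : Fin 3 → (↥(FrameL.K F) →* SL))
  (hσ : ∀ i (k : FrameL.K F), σ i k = 1 ↔ ∀ u ∈ U i, (k : G) * u * (k : G)⁻¹ * u⁻¹ ∈ Z)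

/-- the map to `(SL₂(3)/Q₈)³` -/
def kap : ↥(FrameL.K F) →* (Fin 3 → SL ⧸ Q8) where
  toFun k i := QuotientGroup.mk' Q8 (σ i k)
  map_one' := by
    funext i
    rw [map_one, map_one]
    rfl
  map_mul' a b := by
    funext i
    rw [map_mul, map_mul]
    rfl

theorem mem_ker_kap (k : FrameL.K F) : k ∈ (kap F σ).ker ↔ ∀ i, σ i k ^ 4 = 1 := by
  rw [MonoidHom.mem_ker, funext_iff]
  refine forall_congr' fun i => ?_
  change QuotientGroup.mk' Q8 (σ i k) = 1 ↔ _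
  exact QuotientGroup.eq_one_iff (N := Q8) (σ i k)

include D hσ in
theorem card_K_eq [Finite G] : Nat.card (FrameL.K F) = 2 ^ 7 * 3 ^ 7 * Nat.card (kap F σ).range := by
  rw [card_ker_le (kap F σ)]
  congr 1
  rw [← D.card]
  refine Nat.card_congr ⟨fun x => ⟨((x : ↥(FrameL.K F)) : G), ?_⟩, fun x => ⟨⟨x, PleK F D x.2⟩, ?_⟩,
    fun _ => rfl, fun _ => rfl⟩
  · exact (P_eq F D σ hσ _).2 ((mem_ker_kap F σ _).1 x.2)
  · exact (mem_ker_kap F σ _).2 ((P_eq F D σ hσ ⟨x, PleK F D x.2⟩).1 x.2)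

theorem card_quot3 : Nat.card (Fin 3 → SL ⧸ Q8) = 3 ^ 3 := by
  rw [Nat.card_fun, card_quot, Nat.card_fin]

theorem card_range_dvd : Nat.card (kap F σ).range ∣ 3 ^ 3 := by
  rw [← card_quot3]
  exact Subgroup.card_subgroup_dvd_card _

theorem card_C_dvd [Finite G] : Nat.card (centralizer (Z : Set G)) ∣ 6 * Nat.card (FrameL.K F) := by
  obtain ⟨π, -, hπ⟩ := FrameL.exists_perm F
  have h1 := card_ker_le π
  have h2 : Nat.card ↥π.ker = Nat.card (FrameL.K F) := by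
    rw [hπ]
    exact Nat.card_congr (Subgroup.subgroupOfEquivOfLe (FrameL.KleC F)).toEquiv
  have h3 : Nat.card ↥π.range ∣ 6 := by
    have h4 := Subgroup.card_subgroup_dvd_card π.range
    rw [Nat.card_perm, Nat.card_fin] at h4
    exact h4
  rw [h1, h2, mul_comm]
  exact Nat.mul_dvd_mul_right h3 _

end

/-- **(2)** `2^9` does not divide the order of `C(Z)` -/
theorem not_two_nine [Finite G] (F : Frame Z Q U e) {P : Subgroup G} (D : PData Z Q U P) :
    ¬ 2 ^ 9 ∣ Nat.card (centralizer (Z : Set G)) := by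
  obtain ⟨σ, hσ, -⟩ := FrameL.exists_sl3 F
  intro h
  have h1 := h.trans (card_C_dvd F)
  rw [card_K_eq F D σ hσ] at h1
  have h2 := h1.trans (Nat.mul_dvd_mul_left 6 (Nat.mul_dvd_mul_left (2 ^ 7 * 3 ^ 7) (card_range_dvd F σ)))
  revert h2
  norm_num

/-- **(3)** `3^11` does not divide the order of `C(Z)` -/
theorem not_three_eleven [Finite G] (F : Frame Z Q U e) {P : Subgroup G} (D : PData Z Q U P)
    (fus : ∃ g : G, (∀ x ∈ Z, g * x * g⁻¹ ∈ Q) ∧ ¬ ∀ x ∈ Z, g * x * g⁻¹ ∈ Z) :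
    ¬ 3 ^ 11 ∣ Nat.card (centralizer (Z : Set G)) := by
  classical
  obtain ⟨σ, hσ, hσ'⟩ := FrameL.exists_sl3 F
  intro h
  have h1 := h.trans (card_C_dvd F)
  rw [card_K_eq F D σ hσ] at h1
  have h2 : 3 ^ 3 ∣ Nat.card (kap F σ).range := by
    have h3 : 6 * (2 ^ 7 * 3 ^ 7 * Nat.card (kap F σ).range) = 3 ^ 8 * (2 ^ 8 * Nat.card (kap F σ).range) := by ring
    rw [h3, show 3 ^ 11 = 3 ^ 8 * 3 ^ 3 by norm_num] at h1
    have h4 := Nat.dvd_of_mul_dvd_mul_left (by norm_num) h1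
    exact Nat.Coprime.dvd_of_dvd_mul_left (by norm_num) h4
  have hsurj : Function.Surjective (kap F σ) := by
    rw [← MonoidHom.range_eq_top]
    refine Subgroup.eq_top_of_card_eq _ ?_
    rw [card_quot3]
    exact Nat.dvd_antisymm (card_range_dvd F σ) h2
  -- an element acting on one block only modulo `P`
  have hK : ∀ i, ∃ k : FrameL.K F, σ i k ^ 4 ≠ 1 ∧ ∀ j, j ≠ i → σ j k ^ 4 = 1 := by
    intro i
    obtain ⟨x, hx⟩ : ∃ x : SL ⧸ Q8, x ≠ 1 := by
      by_contra hcon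
      push Not at hcon
      have h3 : Nat.card (SL ⧸ Q8) = 1 := by
        have : Subsingleton (SL ⧸ Q8) := ⟨fun a b => by rw [hcon a, hcon b]⟩
        exact Nat.card_of_subsingleton 1
      rw [card_quot] at h3
      omega
    obtain ⟨k, hk⟩ := hsurj (Function.update 1 i x)
    have h3 : ∀ j, kap F σ k j = 1 ↔ σ j k ^ 4 = 1 := by
      intro j
      exact QuotientGroup.eq_one_iff (N := Q8) (σ j k)
    refine ⟨k, ?_, fun j hj => ?_⟩
    · rw [Ne, ← h3, hk, Function.update_self]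
      exact hx
    · rw [← h3, hk, Function.update_of_ne hj]
      rfl
  -- `e j ∈ P`
  have heK : ∀ j, ∃ k : FrameL.K F, (k : G) ∈ P ∧ σ j k = -1 ∧ ∀ l, l ≠ j → σ l k = 1 := by
    intro j
    have hmem : e j ∈ FrameL.K F := by
      rw [FrameL.mem_K]
      refine ⟨F.eC j, ?_⟩
      have key : ∀ l, ∀ u ∈ U l, e j * u * (e j)⁻¹ ∈ U l := by
        intro l u hu
        by_cases hl : l = j
        · subst hl
          have h1 := F.einv l u hu
          have h2 : e l * u * (e l)⁻¹ = e l * u * (e l)⁻¹ * u * u⁻¹ := by group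
          rw [h2]
          exact (U l).mul_mem (F.ZleU l h1) ((U l).inv_mem hu)
        · rw [F.eU j l hl u hu]
          exact hu
      intro l u
      refine ⟨key l u, fun hu => ?_⟩
      have h1 := key l _ hu
      have h2 : e j * (e j * u * (e j)⁻¹) * (e j)⁻¹ = (e j * e j) * u * (e j * e j)⁻¹ := by group
      rw [h2, F.e2] at h1
      simpa using h1
    have h3 : σ j ⟨e j, hmem⟩ = -1 := (hσ' j _).2 fun u hu => F.einv j u hu
    have h4 : ∀ l, l ≠ j → σ l ⟨e j, hmem⟩ = 1 := by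
      intro l hl
      refine (hσ l _).2 fun u hu => ?_
      change e j * u * (e j)⁻¹ * u⁻¹ ∈ Z
      rw [F.eU j l hl u hu, mul_inv_cancel]
      exact Z.one_mem
    refine ⟨⟨e j, hmem⟩, ?_, h3, h4⟩
    refine (P_eq F D σ hσ _).2 fun l => ?_
    by_cases hl : l = j
    · rw [hl, h3]
      decide +kernel
    · rw [h4 l hl, one_pow]
  -- elements of `P` acting on one block only
  have hone : ∀ i, ∃ y : FrameL.K F, (y : G) ∈ P ∧ σ i y * σ i y ≠ 1 ∧ ∀ j, j ≠ i → σ j y = 1 := by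
    intro i
    obtain ⟨x, hxP, hx⟩ := exists_four F σ hσ D fus i
    obtain ⟨k, hk, hk'⟩ := hK i
    have hx4 := (P_eq F D σ hσ x).1 hxP
    obtain ⟨y, hy⟩ : ∃ y, y = x * k * x⁻¹ * k⁻¹ := ⟨_, rfl⟩
    have hyP : (y : G) ∈ P := by
      have h3 : (y : G) = (x : G) * ((k : G) * (x : G)⁻¹ * (k : G)⁻¹) := by
        rw [hy]
        push_cast
        group
      rw [h3]
      exact P.mul_mem hxP (D.nP _ (FrameL.KleC F k.2) _ (P.inv_mem hxP))
    have hyi : σ i y * σ i y ≠ 1 := by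
      have h3 := comm_ne (σ i x) (σ i k) (hx4 i) hx hk
      rw [hy]
      simpa only [map_mul, map_inv] using h3
    have hyj : ∀ j, j ≠ i → σ j y = 1 ∨ σ j y = -1 := by
      intro j hj
      have h3 := comm4 (σ j x) (σ j k) (hx4 j) (hk' j hj)
      rw [hy]
      simpa only [map_mul, map_inv] using h3
    -- correct at one place
    have hcorr : ∀ j, j ≠ i → ∀ y : FrameL.K F, (y : G) ∈ P → (σ j y = 1 ∨ σ j y = -1) →
        ∃ y' : FrameL.K F, (y' : G) ∈ P ∧ σ j y' = 1 ∧ ∀ l, l ≠ j → σ l y' = σ l y := by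
      intro j hj y hyP hyj
      rcases hyj with h3 | h3
      · exact ⟨y, hyP, h3, fun _ _ => rfl⟩
      · obtain ⟨k, hkP, hk1, hk2⟩ := heK j
        refine ⟨y * k, P.mul_mem hyP hkP, ?_, fun l hl => ?_⟩
        · rw [map_mul, h3, hk1]
          decide +kernel
        · rw [map_mul, hk2 l hl, mul_one]
    obtain ⟨j, l, hji, hli, hjl⟩ : ∃ j k : Fin 3, j ≠ i ∧ k ≠ i ∧ j ≠ k := by
      have h0 : ∀ i : Fin 3, ∃ j k : Fin 3, j ≠ i ∧ k ≠ i ∧ j ≠ k := by decide
      exact h0 i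
    obtain ⟨y1, hy1P, hy1j, hy1⟩ := hcorr j hji y hyP (hyj j hji)
    obtain ⟨y2, hy2P, hy2l, hy2⟩ := hcorr l hli y1 hy1P (by rw [hy1 l hjl.symm]; exact hyj l hli)
    refine ⟨y2, hy2P, ?_, ?_⟩
    · rw [hy2 i hli.symm, hy1 i hji.symm]
      exact hyi
    · intro m hm
      have hm' : m = j ∨ m = l := by
        have h0 : ∀ i j k m : Fin 3, j ≠ i → k ≠ i → j ≠ k → m ≠ i → m = j ∨ m = k := by decide
        exact h0 i j l m hji hli hjl hm
      rcases hm' with rfl | rfl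
      · rw [hy2 m hjl, hy1j]
      · exact hy2l
  -- all of `Q₈` in one block
  have hall : ∀ i, ∀ a : SL, a ^ 4 = 1 → ∃ y : FrameL.K F, (y : G) ∈ P ∧ σ i y = a ∧ ∀ j, j ≠ i → σ j y = 1 := by
    intro i
    obtain ⟨y, hyP, hy, hyj⟩ := hone i
    obtain ⟨k, hk, hk'⟩ := hK i
    have hy4 := (P_eq F D σ hσ y).1 hyP i
    let T : Subgroup SL :=
      { carrier := {a | ∃ y : FrameL.K F, (y : G) ∈ P ∧ σ i y = a ∧ ∀ j, j ≠ i → σ j y = 1}
        mul_mem' := by
          rintro a b ⟨y, hy1, hy2, hy3⟩ ⟨z, hz1, hz2, hz3⟩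
          refine ⟨y * z, P.mul_mem hy1 hz1, by rw [map_mul, hy2, hz2], fun j hj => ?_⟩
          rw [map_mul, hy3 j hj, hz3 j hj, one_mul]
        one_mem' := ⟨1, P.one_mem, map_one _, fun j _ => map_one _⟩
        inv_mem' := by
          rintro a ⟨y, hy1, hy2, hy3⟩
          refine ⟨y⁻¹, P.inv_mem hy1, by rw [map_inv, hy2], fun j hj => ?_⟩
          rw [map_inv, hy3 j hj, inv_one] }
    have hTQ : T ≤ Q8 := by
      rintro a ⟨y, hy1, hy2, hy3⟩
      rw [mem_Q8, ← hy2]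
      exact (P_eq F D σ hσ y).1 hy1 i
    have h1 : σ i y ∈ T := ⟨y, hyP, rfl, hyj⟩
    have h2 : σ i k * σ i y * (σ i k)⁻¹ ∈ T := by
      refine ⟨k * y * k⁻¹, D.nP _ (FrameL.KleC F k.2) _ hyP, by rw [map_mul, map_mul, map_inv], fun j hj => ?_⟩
      rw [map_mul, map_mul, map_inv, hyj j hj, mul_one, mul_inv_cancel]
    have h3 := noncomm _ _ hy4 hy hk
    have h4 : Nat.card T ∣ 2 ^ 3 := by
      have := Subgroup.card_dvd_of_le hTQ
      rw [card_Q8] at this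
      exact this
    have h5 : T = Q8 := by
      refine Subgroup.eq_of_le_of_card_ge hTQ ?_
      rw [card_Q8]
      by_contra hlt
      push Not at hlt
      apply h3
      have hcomm : ∀ a b : ↥T, a * b = b * a := by
        obtain ⟨n, hn, hT⟩ := (Nat.dvd_prime_pow Nat.prime_two).1 h4
        have h6 : n = 0 ∨ n = 1 ∨ n = 2 := by
          rcases Nat.lt_or_ge n 3 with h | h
          · omega
          · exfalso
            have : n = 3 := by omega
            rw [this] at hT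
            omega
        rcases h6 with rfl | rfl | rfl
        · have : Subsingleton ↥T := (Nat.card_eq_one_iff_unique.1 hT).1
          intro a b
          exact Subsingleton.elim _ _
        · have : Fact (Nat.Prime 2) := ⟨Nat.prime_two⟩
          have : IsCyclic ↥T := isCyclic_of_prime_card (p := 2) (by rw [hT, pow_one])
          intro a b
          exact (IsCyclic.commGroup (α := ↥T)).mul_comm a b
        · have : Fact (Nat.Prime 2) := ⟨Nat.prime_two⟩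
          have h3 := IsPGroup.isMulCommutative_of_card_eq_prime_sq (G := ↥T) (p := 2) hT
          exact h3.is_comm.comm
      exact congrArg Subtype.val (hcomm ⟨_, h1⟩ ⟨_, h2⟩)
    intro a ha
    have h6 : a ∈ T := by rw [h5]; exact ha
    exact h6
  -- `|P/Q| ≥ 2^9`
  let f : ↥P →* (Fin 3 → SL) :=
    { toFun := fun x i => σ i ⟨x, PleK F D x.2⟩
      map_one' := by
        funext i
        exact map_one (σ i)
      map_mul' := by
        intro a b
        funext i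
        exact map_mul (σ i) ⟨a, PleK F D a.2⟩ ⟨b, PleK F D b.2⟩ }
  have h5 := card_ker_le f
  have h6 : Nat.card f.ker = 3 ^ 7 := by
    rw [← F.cardQ]
    refine Nat.card_congr ⟨fun x => ⟨((x : ↥P) : G), ?_⟩, fun x => ⟨⟨x, D.QP x.2⟩, ?_⟩, fun _ => rfl, fun _ => rfl⟩
    · refine (mem_Q_iff F σ hσ ⟨((x : ↥P) : G), PleK F D x.1.2⟩).1 fun i => ?_
      have h3 : f x = 1 := x.2
      exact congrFun h3 i
    · rw [MonoidHom.mem_ker]
      funext i
      exact (mem_Q_iff F σ hσ ⟨x, FrameL.QleK F x.2⟩).2 x.2 i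
  have h7 : Nat.card (Fin 3 → ↥Q8) ≤ Nat.card f.range := by
    refine Nat.card_le_card_of_injective (fun a : Fin 3 → ↥Q8 => (⟨fun i => (a i : SL), ?_⟩ : ↥f.range)) ?_
    · obtain ⟨y0, h0P, h00, h0j⟩ := hall 0 (a 0) (a 0).2
      obtain ⟨y1, h1P, h11, h1j⟩ := hall 1 (a 1) (a 1).2
      obtain ⟨y2, h2P, h22, h2j⟩ := hall 2 (a 2) (a 2).2
      refine ⟨⟨y0 * y1 * y2, P.mul_mem (P.mul_mem h0P h1P) h2P⟩, ?_⟩
      funext i
      change σ i (y0 * y1 * y2) = a i
      rw [map_mul, map_mul]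
      have hcase : i = 0 ∨ i = 1 ∨ i = 2 := by fin_cases i <;> simp
      rcases hcase with rfl | rfl | rfl
      · rw [h00, h1j 0 (by decide), h2j 0 (by decide), mul_one, mul_one]
      · rw [h0j 1 (by decide), h11, h2j 1 (by decide), one_mul, mul_one]
      · rw [h0j 2 (by decide), h1j 2 (by decide), h22, one_mul, one_mul]
    · intro a b hab
      funext i
      have h8 : (fun i => (a i : SL)) = fun i => (b i : SL) := congrArg Subtype.val hab
      exact Subtype.ext (congrFun h8 i)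
  rw [Nat.card_fun, card_Q8, Nat.card_fin] at h7
  rw [h6, D.card] at h5
  omega

end Cfsg.Agent.H836.T3Move
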