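import Cfsg.Agent.H836.T3Cons
import Cfsg.Agent.H349.T3.Transfer

/-!
# `PData` from the preimage of `O₂(H/Q)` (for S3368)
-/

set_option autoImplicit false

namespace Cfsg.Agent.H836.T3Move

open Cfsg Cfsg.Agent.H341.Weak Cfsg.Agent.H349.T3 Cfsg.Agent.H261 Subgroup

universe u

theorem pdata_of_sub {G : Type u} [Group G] [Finite G] {H : Subgroup G} {Z : Subgroup G} (Q : Subgroup H) [Q.Normal]
    (hQcard : Nat.card Q = 3 ^ 7) (P : Subgroup H) (hP : P = (Cfsg.pCore 2 (H ⧸ Q)).comap (QuotientGroup.mk' Q))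
    (hPcard : Nat.card (Cfsg.pCore 2 (H ⧸ Q)) = 2 ^ 7) (U : Fin 3 → Subgroup H)
    (hnorm : ∀ x ∈ P, ∀ i, ∀ q ∈ U i, x * q * x⁻¹ ∈ U i) (hHC : H = centralizer (Z : Set G)) :
    PData Z (Q.map H.subtype) (fun i => (U i).map H.subtype) (P.map H.subtype) where
  QP := by
    refine Subgroup.map_mono ?_
    intro q hq
    have h1 : QuotientGroup.mk' Q q = 1 := (QuotientGroup.eq_one_iff (N := Q) q).2 hq
    rw [hP, Subgroup.mem_comap, h1]
    exact one_mem _
  PC := by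
    rintro _ ⟨x, -, rfl⟩
    rw [← hHC]
    exact x.2
  nP := by
    rintro c hc _ ⟨x, hx, rfl⟩
    rw [← hHC] at hc
    have hn : P.Normal := by
      rw [hP]
      have := Cfsg.Agent.Lib.Cores.pCore_normal (G := H ⧸ Q) 2
      exact this.comap _
    exact ⟨⟨c, hc⟩ * x * ⟨c, hc⟩⁻¹, hn.conj_mem x hx _, rfl⟩
  card := by
    rw [Subgroup.card_map_of_injective H.subtype_injective]
    have h1 := Subgroup.card_mul_index P
    have h2 := Subgroup.card_mul_index (Cfsg.pCore 2 (H ⧸ Q))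
    have h3 := Subgroup.card_eq_card_quotient_mul_card_subgroup Q
    have h4 : P.index = (Cfsg.pCore 2 (H ⧸ Q)).index := by
      rw [hP]
      exact Subgroup.index_comap_of_surjective _ (QuotientGroup.mk'_surjective Q)
    rw [h4] at h1
    rw [hPcard] at h2
    rw [hQcard, ← h2, ← h1] at h3
    have h5 : 0 < (Cfsg.pCore 2 (H ⧸ Q)).index := Nat.pos_of_ne_zero Subgroup.index_ne_zero_of_finite
    refine Nat.eq_of_mul_eq_mul_right h5 ?_
    rw [h3]
    ring
  nU := by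
    rintro _ ⟨x, hx, rfl⟩ i _ ⟨u, hu, rfl⟩
    exact ⟨x * u * x⁻¹, hnorm x hx i u hu, rfl⟩
  max := by
    rintro P' hQP' hP'C hP'n ⟨a, ha⟩ y hy
    have hP'H : P' ≤ H := by rw [hHC]; exact hP'C
    have hn : (P'.subgroupOf H).Normal := by
      refine ⟨fun x hx c => ?_⟩
      rw [Subgroup.mem_subgroupOf] at hx ⊢
      exact hP'n c (by rw [← hHC]; exact c.2) x hx
    have hn2 : ((P'.subgroupOf H).map (QuotientGroup.mk' Q)).Normal :=
      Subgroup.Normal.map hn _ (QuotientGroup.mk'_surjective Q)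
    have hQ : Q ≤ P'.subgroupOf H := by
      intro q hq
      rw [Subgroup.mem_subgroupOf]
      exact hQP' ⟨q, hq, rfl⟩
    have h1 := card_inf_mul Q (P'.subgroupOf H)
    rw [inf_eq_right.2 hQ, hQcard, Nat.card_congr (Subgroup.subgroupOfEquivOfLe hP'H).toEquiv, ha, mul_comm] at h1
    have h2 : Nat.card ((P'.subgroupOf H).map (QuotientGroup.mk' Q)) = 2 ^ a :=
      Nat.eq_of_mul_eq_mul_right (by norm_num) h1
    have h3 : IsPGroup 2 ((P'.subgroupOf H).map (QuotientGroup.mk' Q)) := IsPGroup.of_card h2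
    have h4 := Cfsg.Agent.Lib.Cores.le_pCore hn2 h3
    refine ⟨⟨y, hP'H hy⟩, ?_, rfl⟩
    change _ ∈ P
    rw [hP, Subgroup.mem_comap]
    exact h4 ⟨⟨y, hP'H hy⟩, hy, rfl⟩

end Cfsg.Agent.H836.T3Move
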